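import Groth.Agent.TopCoh49.Coh

universe u

open CategoryTheory Limits TopologicalSpace Opposite Abelian

namespace Groth.Agent.TopCoh49

universe w v' u'

/-- Transport of `Ext` along an isomorphism of the first variable. -/
noncomputable def precompIso {A : Type u'} [Category.{v'} A] [Abelian A] [HasExt.{w} A] {B B' : A}
    (e : B ≅ B') (F : A) (n : ℕ) : Ext.{w} B F n ≃+ Ext.{w} B' F n where
  toFun x := (Ext.mk₀ e.inv).comp x (zero_add n)
  invFun x := (Ext.mk₀ e.hom).comp x (zero_add n)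
  left_inv x := by
    dsimp only
    rw [← Ext.comp_assoc _ _ _ (zero_add 0) (zero_add n) (by simp), Ext.mk₀_comp_mk₀,
      Iso.hom_inv_id, Ext.mk₀_id_comp]
  right_inv x := by
    dsimp only
    rw [← Ext.comp_assoc _ _ _ (zero_add 0) (zero_add n) (by simp), Ext.mk₀_comp_mk₀,
      Iso.inv_hom_id, Ext.mk₀_id_comp]
  map_add' _ _ := Ext.comp_add _ _ _ _

lemma precompIso_postcomp {A : Type u'} [Category.{v'} A] [Abelian A] [HasExt.{w} A] {B B' : A}
    (e : B ≅ B') {F G : A} (g : F ⟶ G) (n : ℕ) (x : Ext.{w} B F n) :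
    precompIso e G n ((Ext.mk₀ g).postcomp B (add_zero n) x) =
      (Ext.mk₀ g).postcomp B' (add_zero n) (precompIso e F n x) :=
  (Ext.comp_assoc (Ext.mk₀ _) x (Ext.mk₀ g) (zero_add n) (add_zero n) (by simp)).symm

variable {X : TopCat.{u}}

/-- The constant sheaf `ℤ`. -/
noncomputable abbrev constZ (X : TopCat.{u}) : CohTop.Ab X :=
  (constantSheaf (Opens.grothendieckTopology X) AddCommGrpCat.{u}).obj (AddCommGrpCat.of (ULift.{u} ℤ))

/-- Maps out of the constant sheaf `ℤ` are global sections. -/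
noncomputable def constHomEquiv (F : CohTop.Ab X) : (constZ X ⟶ F) ≃ F.obj.obj (op ⊤) :=
  (((constantSheafAdj _ AddCommGrpCat (isTerminalTop (α := Opens X))).homEquiv _ F).trans
    (AddCommGrpCat.uliftZMultiplesAddEquiv _).toEquiv)

lemma constHomEquiv_comp {F G : CohTop.Ab X} (φ : constZ X ⟶ F) (g : F ⟶ G) :
    constHomEquiv G (φ ≫ g) = g.hom.app (op ⊤) (constHomEquiv F φ) := by
  simp only [constHomEquiv, Equiv.trans_apply, Adjunction.homEquiv_naturality_right]
  rfl

/-- The free sheaf on the whole space is the constant sheaf `ℤ`. -/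
noncomputable def constIso (X : TopCat.{u}) : constZ X ≅ freeU (⊤ : Opens X) where
  hom := (constHomEquiv _).symm (freeHomEquiv ⊤ _ (𝟙 _))
  inv := (freeHomEquiv ⊤ _).symm (constHomEquiv _ (𝟙 _))
  hom_inv_id := by
    apply (constHomEquiv _).injective
    rw [constHomEquiv_comp, Equiv.apply_symm_apply, ← freeHomEquiv_comp, Category.id_comp,
      Equiv.apply_symm_apply]
  inv_hom_id := by
    apply (freeHomEquiv ⊤ _).injective
    rw [freeHomEquiv_comp, Equiv.apply_symm_apply, ← constHomEquiv_comp, Category.id_comp,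
      Equiv.apply_symm_apply]

/-- `H^n(X, F) = H^n(⊤, F)`. -/
noncomputable def HEquivTop (F : CohTop.Ab X) (n : ℕ) : CohTop.H F n ≃+ E F n ⊤ :=
  precompIso (constIso X) F n

lemma HEquivTop_map {F G : CohTop.Ab X} (g : F ⟶ G) (n : ℕ) (x : CohTop.H F n) :
    HEquivTop G n (Sheaf.H.map g n x) = emap g n ⊤ (HEquivTop F n x) :=
  precompIso_postcomp (constIso X) g n x

lemma subsingleton_H_of_isFlasque (n : ℕ) (F : CohTop.Ab X) [TopCat.Sheaf.IsFlasque F] :
    Subsingleton (CohTop.H F (n + 1)) := by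
  have := subsingleton_E_of_isFlasque n F ⊤
  exact (HEquivTop F (n + 1)).toEquiv.subsingleton

end Groth.Agent.TopCoh49
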