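import Groth.Prelude.Def_CohTop

universe u

open CategoryTheory Limits TopologicalSpace Abelian

namespace Groth.Agent.TopCoh49

/-- Cached instance: it keeps terms small and kernel checking fast. -/
instance instHasSheafifyOpens (X : TopCat.{u}) :
    HasSheafify (Opens.grothendieckTopology X) AddCommGrpCat.{u} := inferInstance

/-- Cached instance. -/
instance instHasExtAb (X : TopCat.{u}) : HasExt.{u} (CohTop.Ab X) := inferInstance

/-- Cached instance. -/
instance instEnoughInjectivesAb (X : TopCat.{u}) : EnoughInjectives (CohTop.Ab X) := inferInstance

/-- Cached instance. -/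
instance instHasInjectiveResolutionsAb (X : TopCat.{u}) : HasInjectiveResolutions (CohTop.Ab X) :=
  inferInstance

end Groth.Agent.TopCoh49
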