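import Groth.Agent.TopCoh49.Rpush
import Mathlib.Topology.Sheaves.SheafOfFunctions
import Mathlib.Topology.Sheaves.SheafCondition.Sites

universe u

open CategoryTheory Limits TopologicalSpace Opposite Abelian

namespace Groth.Agent.TopCoh49

variable {X Y : TopCat.{u}}

lemma subsingleton_sections_bot (F : CohTop.Ab X) : Subsingleton (F.obj.obj (op (⊥ : Opens X))) :=
  AddCommGrpCat.subsingleton_of_isZero
    (IsZero.of_iso (isZero_zero _)
      ((TopCat.Sheaf.isTerminalOfEmpty (X := X) F).uniqueUpToIso HasZeroObject.zeroIsTerminal))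

lemma isZero_freeU_bot : IsZero (freeU (⊥ : Opens X)) := by
  rw [IsZero.iff_id_eq_zero]
  apply (freeHomEquiv ⊥ _).injective
  exact (subsingleton_sections_bot _).elim _ _

lemma subsingleton_E_bot (F : CohTop.Ab X) (n : ℕ) : Subsingleton (E F n ⊥) :=
  subsingleton_of_forall_eq 0 fun x => by
    rw [← Ext.mk₀_id_comp x, (IsZero.iff_id_eq_zero _).1 isZero_freeU_bot, Ext.mk₀_zero, Ext.zero_comp]

lemma isZero_Rpush_of_isClosedEmbedding (f : X ⟶ Y) (hf : Topology.IsClosedEmbedding f)
    (F : CohTop.Ab X) (q : ℕ) : IsZero ((CohTop.Rpush f (q + 1)).obj F) := by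
  apply isZero_Rpush_of_locally_zero
  intro U s y hy
  by_cases h : y ∈ Set.range f
  · obtain ⟨x, rfl⟩ := h
    obtain ⟨V, hV, hsup, h0⟩ := kill_class q F _ s
    obtain ⟨i, hi⟩ := Opens.mem_iSup.1 (hsup.ge (show x ∈ (Opens.map f).obj U from hy))
    obtain ⟨W, hW, hWV⟩ := hf.isInducing.isOpen_iff.1 (V i).isOpen
    refine ⟨U ⊓ ⟨W, hW⟩, inf_le_left, ⟨hy, ?_⟩, ?_⟩
    · exact show x ∈ f ⁻¹' W from hWV ▸ hi
    · have hle : (Opens.map f).obj (U ⊓ ⟨W, hW⟩) ≤ V i := fun z hz => show z ∈ (V i : Set X) from hWV ▸ hz.2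
      have := congrArg (eres F (q + 1) hle) (h0 i)
      rw [map_zero] at this
      rw [← this]
      change _ = (Ext.mk₀ _).comp ((Ext.mk₀ _).comp s (zero_add _)) (zero_add _)
      rw [Ext.mk₀_comp_mk₀_assoc, ← Functor.map_comp]
      rfl
  · let W : Opens Y := ⟨(Set.range f)ᶜ, hf.isClosed_range.isOpen_compl⟩
    refine ⟨U ⊓ W, inf_le_left, ⟨hy, h⟩, ?_⟩
    have : (Opens.map f).obj (U ⊓ W) = ⊥ := eq_bot_iff.2 fun z hz => (hz.2 ⟨z, rfl⟩).elim
    generalize (Opens.map f).monotone (inf_le_left : U ⊓ W ≤ U) = hle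
    revert hle
    rw [this]
    intro hle
    exact (subsingleton_E_bot F _).elim _ _

lemma isFlasque_of_shortExact_outer {S : ShortComplex (CohTop.Ab X)} (hS : S.ShortExact)
    [h₁ : TopCat.Sheaf.IsFlasque S.X₁] [h₃ : TopCat.Sheaf.IsFlasque S.X₃] :
    TopCat.Sheaf.IsFlasque S.X₂ where
  epi {U V} i := by
    rw [AddCommGrpCat.epi_iff_surjective]
    intro s
    obtain ⟨U⟩ := U
    obtain ⟨V⟩ := V
    obtain ⟨w, hw⟩ := (AddCommGrpCat.epi_iff_surjective _).1 (h₃.epi i) (S.g.hom.app _ s)
    obtain ⟨t, ht⟩ := (AddCommGrpCat.epi_iff_surjective _).1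
      (TopCat.Sheaf.IsFlasque.epi_of_shortExact (U := U) hS) w
    have : S.g.hom.app (op V) (s - S.X₂.obj.map i t) = 0 := by
      rw [map_sub]
      have := ConcreteCategory.congr_hom (S.g.hom.naturality i) t
      exact sub_eq_zero.2 (hw.symm.trans ((congrArg (S.X₃.obj.map i) ht.symm).trans this.symm))
    obtain ⟨a, ha⟩ := TopCat.Sheaf.sections_exact_of_left_exact hS.1 hS.2 _ this
    obtain ⟨b, hb⟩ := (AddCommGrpCat.epi_iff_surjective _).1 (h₁.epi i) a
    refine ⟨t + S.f.hom.app _ b, ?_⟩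
    rw [map_add]
    have := ConcreteCategory.congr_hom (S.f.hom.naturality i) b
    exact add_eq_of_eq_sub' (this.symm.trans ((congrArg (S.f.hom.app (op V)) hb).trans ha))

section Discrete

/-- The discrete space underlying `X`. -/
noncomputable abbrev disc (X : TopCat.{u}) : TopCat.{u} := TopCat.discrete.obj X

/-- The presheaf of families of elements of given abelian groups. -/
noncomputable def piPre (Z : TopCat.{u}) (T : Z → AddCommGrpCat.{u}) :
    (Opens Z)ᵒᵖ ⥤ AddCommGrpCat.{u} where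
  obj U := AddCommGrpCat.of (∀ x : U.unop, T x.1)
  map i := AddCommGrpCat.ofHom
    { toFun := fun s x => s ⟨x.1, leOfHom i.unop x.2⟩
      map_zero' := rfl
      map_add' := fun _ _ => rfl }

lemma isSheaf_piPre (Z : TopCat.{u}) (T : Z → AddCommGrpCat.{u}) :
    Presheaf.IsSheaf (Opens.grothendieckTopology Z) (piPre Z T) :=
  (Presheaf.isSheaf_iff_isSheaf_comp _ (piPre Z T) (forget AddCommGrpCat.{u})).2
    (TopCat.Presheaf.isSheaf_of_isSheafUniqueGluing_types _ (by
      intro ι U sf hsf
      exact (TopCat.Presheaf.isSheaf_iff_isSheafUniqueGluing_types _).1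
        (TopCat.Presheaf.toTypes_isSheaf Z fun x => (T x : Type u)) U sf hsf))

/-- The sheaf of families of germs. -/
noncomputable def piStalk (F : CohTop.Ab X) : CohTop.Ab (disc X) :=
  ⟨piPre (disc X) fun x => CohTop.stalk F (TopCat.adj₁.counit.app X x),
    isSheaf_piPre (disc X) _⟩

/-- The embedding of a sheaf into its families of germs. -/
noncomputable def toPiStalk (F : CohTop.Ab X) :
    F ⟶ (CohTop.push (TopCat.adj₁.counit.app X)).obj (piStalk F) :=
  ⟨{ app := fun U => AddCommGrpCat.ofHom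
      { toFun := fun s x => TopCat.Presheaf.germ F.obj U.unop _ x.2 s
        map_zero' := funext fun x => map_zero _
        map_add' := fun a b => funext fun x => map_add _ a b }
     naturality := fun U V i => by
      ext s
      funext x
      exact TopCat.Presheaf.germ_res_apply F.obj i.unop _ x.2 s }⟩

instance mono_toPiStalk (F : CohTop.Ab X) : Mono (toPiStalk F) := by
  have : ∀ U, Mono ((toPiStalk F).hom.app U) := fun U => by
    rw [AddCommGrpCat.mono_iff_injective]
    intro a b h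
    exact TopCat.Presheaf.section_ext (X := X) (C := AddCommGrpCat.{u}) F U.unop a b
      fun x hx => congrFun h ⟨x, hx⟩
  have : Mono (toPiStalk F).hom := NatTrans.mono_of_mono_app _
  exact (sheafToPresheaf _ _).mono_of_mono_map this

lemma mono_unit_godement (F : CohTop.Ab X) :
    Mono ((TopCat.Sheaf.pullbackPushforwardAdjunction AddCommGrpCat.{u}
      (TopCat.adj₁.counit.app X)).unit.app F) := by
  let adj := TopCat.Sheaf.pullbackPushforwardAdjunction AddCommGrpCat.{u} (TopCat.adj₁.counit.app X)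
  have h : adj.unit.app F ≫ _ = toPiStalk F := (adj.homEquiv_unit _ _ _).symm.trans
    ((adj.homEquiv F (piStalk F)).apply_symm_apply (toPiStalk F))
  have := mono_toPiStalk F
  
  exact @mono_of_mono_fac _ _ _ _ _ _ _ _ this h

lemma isFlasque_disc (F : CohTop.Ab (disc X)) : TopCat.Sheaf.IsFlasque F where
  epi {U V} i := by
    rw [AddCommGrpCat.epi_iff_surjective]
    intro s
    obtain ⟨U⟩ := U
    obtain ⟨V⟩ := V
    let W : Opens (disc X) := ⟨(U : Set (disc X)) \ V, isOpen_discrete _⟩
    have hVW : V ⊓ W = ⊥ := eq_bot_iff.2 fun x hx => (hx.2.2 hx.1).elim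
    let P : Fin 2 → Opens (disc X) := ![V, W]
    let sf : ∀ j, F.obj.obj (op (P j))
      | 0 => s
      | 1 => 0
    obtain ⟨t, ht, -⟩ := TopCat.Sheaf.existsUnique_gluing (X := disc X) (C := AddCommGrpCat.{u}) F P sf
      (by
        intro a b
        fin_cases a <;> fin_cases b
        · rfl
        · have : Subsingleton (F.obj.obj (op (V ⊓ W))) := hVW ▸ subsingleton_sections_bot F
          exact this.elim _ _
        · have : Subsingleton (F.obj.obj (op (W ⊓ V))) := (inf_comm V W).symm.trans hVW ▸ subsingleton_sections_bot F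
          exact this.elim _ _
        · rfl)
    have hU : U ≤ iSup P := fun x hx => by
      by_cases hxV : x ∈ V
      · exact Opens.mem_iSup.2 ⟨0, hxV⟩
      · exact Opens.mem_iSup.2 ⟨1, hx, hxV⟩
    refine ⟨F.obj.map (homOfLE hU).op t, ?_⟩
    rw [← ConcreteCategory.comp_apply, ← F.obj.map_comp]
    exact ht 0

end Discrete

end Groth.Agent.TopCoh49
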