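import Groth.Agent.TopCoh49.MV
import Groth.Agent.TopCoh49.Basic2
import Groth.Agent.TopCoh49.Top
import Mathlib.Topology.NoetherianSpace
import Mathlib.Topology.KrullDimension
import Mathlib.Order.RelSeries

universe u

open CategoryTheory Limits TopologicalSpace Opposite Abelian

namespace Groth.Agent.TopCoh49

variable {X : TopCat.{u}}

/-- An open meets every irreducible closed subset in a given collection. -/
def Covers (S : Set (IrreducibleCloseds X)) (W : Opens X) : Prop :=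
  ∀ Z ∈ S, ((Z : Set X) ∩ W).Nonempty

lemma meets_inf (Z : IrreducibleCloseds X) {U V : Opens X} (hU : ((Z : Set X) ∩ U).Nonempty)
    (hV : ((Z : Set X) ∩ V).Nonempty) : ((Z : Set X) ∩ (U ⊓ V : Opens X)).Nonempty :=
  Z.isIrreducible.isPreirreducible _ _ U.2 V.2 hU hV

lemma exists_open_avoiding (t : Finset (IrreducibleCloseds X)) :
    ∃ V : Opens X, (∀ x : X, x ∈ V ↔ ∀ C ∈ t, x ∉ (C : Set X)) ∧
      ∀ Z : IrreducibleCloseds X, (∀ C ∈ t, ¬Z ≤ C) → ((Z : Set X) ∩ V).Nonempty := by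
  classical
  induction t using Finset.induction_on with
  | empty => exact ⟨⊤, fun x => by simp, fun Z _ => Z.isIrreducible.nonempty.mono fun x hx => ⟨hx, trivial⟩⟩
  | @insert C t hC ih =>
    obtain ⟨V, hV, hV'⟩ := ih
    refine ⟨V ⊓ ⟨(C : Set X)ᶜ, C.isClosed.isOpen_compl⟩, fun x => ?_, fun Z hZ => ?_⟩
    · constructor
      · rintro ⟨h₁, h₂⟩ D hD
        rcases Finset.mem_insert.1 hD with rfl | hD
        · exact h₂
        · exact (hV x).1 h₁ D hD
      · exact fun h => ⟨(hV x).2 fun D hD => h D (Finset.mem_insert_of_mem hD), h C (Finset.mem_insert_self _ _)⟩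
    · refine meets_inf Z (hV' Z fun D hD => hZ D (Finset.mem_insert_of_mem hD)) ?_
      exact Set.not_subset.1 (hZ C (Finset.mem_insert_self _ _))

lemma exists_components [NoetherianSpace X] (W : Opens X) :
    ∃ t : Finset (IrreducibleCloseds X), (∀ x : X, x ∉ W ↔ ∃ C ∈ t, x ∈ (C : Set X)) := by
  classical
  obtain ⟨S, hS⟩ := NoetherianSpace.exists_finite_set_isClosed_irreducible (W.isOpen.isClosed_compl)
  obtain ⟨hfin, hclosed, hirr, hW⟩ := hS
  refine ⟨(hfin.toFinset.attach.image fun C => ⟨C.1, hirr _ (hfin.mem_toFinset.1 C.2), hclosed _ (hfin.mem_toFinset.1 C.2)⟩), fun x => ?_⟩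
  rw [show x ∉ W ↔ x ∈ ((W : Set X)ᶜ) from Iff.rfl, hW, Set.mem_sUnion]
  constructor
  · rintro ⟨C, hC, hx⟩
    exact ⟨_, Finset.mem_image.2 ⟨⟨C, hfin.mem_toFinset.2 hC⟩, Finset.mem_attach _ _, rfl⟩, hx⟩
  · rintro ⟨D, hD, hx⟩
    obtain ⟨C, -, rfl⟩ := Finset.mem_image.1 hD
    exact ⟨C.1, hfin.mem_toFinset.1 C.2, hx⟩

/-- A class in degree `q` dies near any upper set of irreducible closed sets of dimension `< q`. -/
theorem exists_open_kill [NoetherianSpace X] : ∀ (q : ℕ) (S : Set (IrreducibleCloseds X)), IsUpperSet S →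
    (∀ l : LTSeries (IrreducibleCloseds X), (∀ i, l i ∈ S) → l.length < q) →
    ∀ (F : CohTop.Ab X) (W : Opens X), Covers S W → ∀ ξ : E F q W,
      ∃ (W' : Opens X) (hW' : W' ≤ W), Covers S W' ∧ eres F q hW' ξ = 0 := by
  intro q
  induction q with
  | zero =>
    intro S _ hlen F W _ ξ
    exact ⟨⊥, bot_le, fun Z hZ => (Nat.not_lt_zero _ (hlen (RelSeries.singleton _ Z) fun _ => hZ)).elim,
      (subsingleton_E_bot F 0).elim _ _⟩
  | succ q ih =>
    intro S hS hlen F W hW ξ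
    let T : Set (Opens X) := {O | ∃ (hO : O ≤ W) (W' : Opens X) (hW' : W' ≤ W), Covers S W' ∧
      eres F (q + 1) (inf_le_left.trans hO : O ⊓ W' ≤ W) ξ = 0}
    have hbot : (⊥ : Opens X) ∈ T := ⟨bot_le, W, le_rfl, hW, by
      have : Subsingleton (E F (q + 1) (⊥ ⊓ W)) := (bot_inf_eq W).symm ▸ subsingleton_E_bot F (q + 1)
      exact this.elim _ _⟩
    obtain ⟨O, ⟨hO, W', hW', hcov, h0⟩, hmax⟩ :=
      (wellFounded_gt : WellFounded ((· > ·) : Opens X → Opens X → Prop)).has_min T ⟨⊥, hbot⟩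
    by_cases hall : Covers S O
    · exact ⟨O ⊓ W', inf_le_left.trans hO, fun Z hZ => meets_inf Z (hall Z hZ) (hcov Z hZ), h0⟩
    exfalso
    obtain ⟨Z, hZ, hZO⟩ : ∃ Z ∈ S, ¬((Z : Set X) ∩ O).Nonempty := by
      simpa [Covers] using hall
    obtain ⟨y, hyZ, hyW'⟩ := hcov Z hZ
    obtain ⟨V₀, hV₀, hsup, hkill⟩ := kill_class q F W ξ
    obtain ⟨i, hyi⟩ := Opens.mem_iSup.1 (hsup.ge (hW' hyW'))
    set U := O ⊓ W'
    set V := V₀ i ⊓ W'
    have hUW : U ≤ W := inf_le_left.trans hO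
    have hVW : V ≤ W := inf_le_right.trans hW'
    have h1 : eres F (q + 1) (le_sup_left : U ≤ U ⊔ V) (eres F (q + 1) (sup_le hUW hVW) ξ) = 0 :=
      (eres_eres F _ _ _ ξ).trans h0
    have h2 : eres F (q + 1) (le_sup_right : V ≤ U ⊔ V) (eres F (q + 1) (sup_le hUW hVW) ξ) = 0 := by
      rw [eres_eres, ← eres_eres F (q + 1) (hV₀ i) (inf_le_left : V ≤ V₀ i), hkill i, map_zero]
    obtain ⟨η, hη⟩ := exists_overlap_class q F U V _ h1 h2
    let S' : Set (IrreducibleCloseds X) := {C | C ∈ S ∧ Z ≤ C ∧ ((C : Set X) ∩ O).Nonempty}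
    have hS' : IsUpperSet S' := fun C D hCD hC =>
      ⟨hS hCD hC.1, hC.2.1.trans hCD, hC.2.2.mono fun x hx => ⟨hCD hx.1, hx.2⟩⟩
    have hlen' : ∀ l : LTSeries (IrreducibleCloseds X), (∀ j, l j ∈ S') → l.length < q := fun l hl => by
      have hlt : Z < l.head := lt_of_le_of_ne (hl 0).2.1 fun e => hZO (e ▸ (hl 0).2.2)
      have := hlen (l.cons Z hlt) fun j => by
        have hj : (l.cons Z hlt).toFun j ∈ (l.cons Z hlt).toList := RelSeries.mem_toList.2 ⟨j, rfl⟩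
        rw [RelSeries.toList_cons, List.mem_cons] at hj
        rcases hj with h | h
        · exact (congrArg (· ∈ S) h).mpr hZ
        · obtain ⟨k, hk⟩ := RelSeries.mem_toList.1 h
          exact (congrArg (· ∈ S) hk).mp (hl k).1
      simpa using this
    have hcov' : Covers S' (U ⊓ V) := fun C hC =>
      meets_inf C (meets_inf C hC.2.2 ⟨y, hC.2.1 hyZ, hyW'⟩)
        (meets_inf C ⟨y, hC.2.1 hyZ, hyi⟩ ⟨y, hC.2.1 hyZ, hyW'⟩)
    obtain ⟨W'', hW'', hcov'', hη0⟩ := ih S' hS' hlen' F (U ⊓ V) hcov' η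
    classical
    obtain ⟨t, ht⟩ := exists_components W''
    obtain ⟨A₁, hA₁, hA₁'⟩ := exists_open_avoiding (t.filter fun C => C ∈ S ∧ ((C : Set X) ∩ O).Nonempty)
    obtain ⟨A₂, hA₂, hA₂'⟩ := exists_open_avoiding (t.filter fun C => C ∉ S)
    have hZV : ((Z : Set X) ∩ (V ⊓ A₁ : Opens X)).Nonempty := by
      refine meets_inf Z ⟨y, hyZ, hyi, hyW'⟩ (hA₁' Z fun C hC hZC => ?_)
      obtain ⟨hCt, hCS, hCO⟩ := Finset.mem_filter.1 hC
      obtain ⟨x, hxC, hxW⟩ := hcov'' C ⟨hCS, hZC, hCO⟩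
      exact (ht x).2 ⟨C, hCt, hxC⟩ hxW
    have hcov2 : Covers S (W' ⊓ A₂) := fun C hC => meets_inf C (hcov C hC) (hA₂' C fun D hD hCD => by
      exact (Finset.mem_filter.1 hD).2 (hS hCD hC))
    set U' := O ⊓ (W' ⊓ A₂)
    set V' := (V ⊓ A₁) ⊓ (W' ⊓ A₂)
    have hU' : U' ≤ U := le_inf inf_le_left (inf_le_right.trans inf_le_left)
    have hV' : V' ≤ V := inf_le_left.trans inf_le_left
    have hsub : U' ⊓ V' ≤ W'' := by
      intro x hx
      by_contra hxW
      obtain ⟨C, hC, hxC⟩ := (ht x).1 hxW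
      by_cases hCS : C ∈ S
      · exact (hA₁ x).1 hx.2.1.2 C (Finset.mem_filter.2 ⟨hC, hCS, ⟨x, hxC, hx.1.1⟩⟩) hxC
      · exact (hA₂ x).1 hx.1.2.2 C (Finset.mem_filter.2 ⟨hC, hCS⟩) hxC
    have hzero := hη U' V' hU' hV' 0 (by
      rw [map_zero, ← eres_eres F q hW'' hsub η, hη0, map_zero])
    have hmem : O ⊔ (V ⊓ A₁) ∈ T := by
      refine ⟨sup_le hO (inf_le_left.trans hVW), W' ⊓ A₂, inf_le_left.trans hW', hcov2, ?_⟩
      have hle : (O ⊔ (V ⊓ A₁)) ⊓ (W' ⊓ A₂) ≤ U' ⊔ V' := le_of_eq (inf_sup_right _ _ _)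
      have h3 := congrArg (eres F (q + 1) hle) hzero
      rw [map_zero, eres_eres, eres_eres] at h3
      exact h3
    obtain ⟨x, hxZ, hxV⟩ := hZV
    have : O ⊔ (V ⊓ A₁) ≤ O := by
      by_contra hne
      exact hmax _ hmem (lt_of_le_of_ne le_sup_left fun e => hne e.ge)
    exact hZO ⟨x, hxZ, this (Or.inr hxV)⟩

lemma chain_length_le {d : ℕ} (hd : topologicalKrullDim X ≤ d) (l : LTSeries (IrreducibleCloseds X)) :
    l.length ≤ d := by
  exact_mod_cast (Order.LTSeries.length_le_krullDim l).trans hd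

/-- Grothendieck vanishing on every open. -/
theorem subsingleton_E_of_dim_lt [NoetherianSpace X] {d : ℕ} (hd : topologicalKrullDim X ≤ d)
    (F : CohTop.Ab X) (W : Opens X) (p : ℕ) (hp : d < p) : Subsingleton (E F p W) := by
  refine subsingleton_of_forall_eq 0 fun ξ => ?_
  obtain ⟨W', hW', hcov, h0⟩ := exists_open_kill p {C : IrreducibleCloseds X | ((C : Set X) ∩ W).Nonempty}
    (fun C D hCD hC => hC.mono fun x hx => ⟨hCD hx.1, hx.2⟩)
    (fun l _ => (chain_length_le hd l).trans_lt hp) F W (fun C hC => hC) ξ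
  have : W ≤ W' := fun x hx => by
    obtain ⟨z, hz, hzW⟩ := hcov ⟨closure {x}, isIrreducible_singleton.closure, isClosed_closure⟩
      ⟨x, subset_closure rfl, hx⟩
    exact (specializes_iff_mem_closure.2 hz).mem_open W'.2 hzW
  have h := congrArg (eres F p this) h0
  rwa [eres_eres, eres_self, map_zero] at h

theorem subsingleton_H_of_dim_lt [NoetherianSpace X] {d : ℕ} (hd : topologicalKrullDim X ≤ d)
    (F : CohTop.Ab X) (p : ℕ) (hp : d < p) : Subsingleton (CohTop.H F p) := by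
  have := subsingleton_E_of_dim_lt hd F ⊤ p hp
  exact (HEquivTop F p).toEquiv.subsingleton

end Groth.Agent.TopCoh49
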