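import Mathlib.CategoryTheory.Abelian.Injective.Ext
import Mathlib.CategoryTheory.Abelian.FunctorCategory
import Mathlib.Algebra.Category.Grp.Abelian
import Mathlib.Algebra.Category.Grp.EpiMono
import Mathlib.Algebra.Homology.ShortComplex.Ab
import Mathlib.CategoryTheory.Preadditive.Yoneda.Limits

universe v u' u

open CategoryTheory Limits Opposite Abelian

namespace Groth.Agent.TopCoh49

variable {C : Type u'} [SmallCategory C] {A : Type u} [Category.{u'} A] [Abelian A] [HasExt.{u'} A]
  (G : C ⥤ A)

/-- The presheaf of maps out of the values of `G`. -/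
noncomputable abbrev homPre : A ⥤ (Cᵒᵖ ⥤ AddCommGrpCat.{u'}) :=
  preadditiveYoneda ⋙ (Functor.whiskeringLeft _ _ _).obj G.op

instance : (homPre G).Additive where
  map_add {X Y f g} := by ext U h; exact Preadditive.comp_add _ _ _ h f g

variable {F : A} (R : InjectiveResolution F)

lemma extMk_deg_zero_eq_zero {X : A} (f : X ⟶ R.cocomplex.X 0) (hf : f ≫ R.cocomplex.d 0 1 = 0)
    (h : R.extMk f 1 rfl hf = 0) : f = 0 := by
  rw [← R.extEquivCohomologyClass.apply_eq_iff_eq, InjectiveResolution.extEquivCohomologyClass_extMk,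
    InjectiveResolution.extEquivCohomologyClass_zero, CochainComplex.HomComplex.CohomologyClass.mk_eq_zero_iff,
    CochainComplex.HomComplex.Cocycle.fromSingleMk_mem_coboundaries_iff _ _ _ _ _ (-1) (by norm_num)] at h
  obtain ⟨g, hg⟩ := h
  have hz : IsZero (R.cochainComplex.X (-1)) :=
    CochainComplex.isZero_of_isStrictlyGE R.cochainComplex 0 (-1) (by norm_num)
  rw [hz.eq_of_tgt g 0, zero_comp] at hg
  exact (cancel_mono (R.cochainComplexXIso (0 : ℕ) 0 rfl).inv).1 (hg.symm.trans zero_comp.symm)

/-- The complex of presheaves computing cohomology. -/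
noncomputable abbrev homCx : CochainComplex (Cᵒᵖ ⥤ AddCommGrpCat.{u'}) ℕ :=
  ((homPre G).mapHomologicalComplex _).obj R.cocomplex

/-- The presheaf of Ext groups. -/
noncomputable abbrev extPre (F : A) (n : ℕ) : Cᵒᵖ ⥤ AddCommGrpCat.{u'} :=
  (G.op ⋙ Abelian.extFunctor n).flip.obj F

/-- The underlying map of a section of cycles. -/
noncomputable abbrev cyc (n : ℕ) (U : C) (z : ((homCx G R).cycles n).obj (op U)) :
    G.obj U ⟶ R.cocomplex.X n := ((homCx G R).iCycles n).app (op U) z

lemma cyc_d (n : ℕ) (U : C) (z : ((homCx G R).cycles n).obj (op U)) :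
    cyc G R n U z ≫ R.cocomplex.d n (n + 1) = 0 :=
  ConcreteCategory.congr_hom (NatTrans.congr_app ((homCx G R).iCycles_d n (n + 1)) (op U)) z

lemma cyc_injective (n : ℕ) (U : C) : Function.Injective (cyc G R n U) := by
  have : Mono (((homCx G R).iCycles n).app (op U)) :=
    ((evaluation Cᵒᵖ AddCommGrpCat).obj (op U)).map_mono ((homCx G R).iCycles n)
  exact (AddCommGrpCat.mono_iff_injective _).1 this

lemma cyc_exists (n : ℕ) (U : C) (f : G.obj U ⟶ R.cocomplex.X n)
    (hf : f ≫ R.cocomplex.d n (n + 1) = 0) : ∃ z, cyc G R n U z = f := by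
  have h := (ShortComplex.exact_of_f_is_kernel (ShortComplex.mk _ _ ((homCx G R).iCycles_d n (n + 1)))
    ((homCx G R).cyclesIsKernel n (n + 1) (by simp))).map
      ((evaluation _ _).obj (op U))
  rw [ShortComplex.ab_exact_iff] at h
  exact h f hf

/-- The comparison map from cycles to Ext. -/
noncomputable def cyclesToExt (n : ℕ) : (homCx G R).cycles n ⟶ extPre G F n where
  app U := AddCommGrpCat.ofHom
    (AddMonoidHom.mk' (fun z => R.extMk (cyc G R n U.unop z) (n + 1) rfl (cyc_d G R n U.unop z))
      (fun a b => by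
        rw [R.add_extMk]
        congr 1
        exact map_add (((homCx G R).iCycles n).app U).hom a b))
  naturality U V i := by
    ext z
    change R.extMk (cyc G R n V.unop (((homCx G R).cycles n).map i z)) (n + 1) rfl (cyc_d G R n V.unop _) =
      (Ext.mk₀ (G.map i.unop)).comp (R.extMk (cyc G R n U.unop z) (n + 1) rfl (cyc_d G R n U.unop z)) (zero_add n)
    rw [R.mk₀_comp_extMk]
    congr 1
    exact ConcreteCategory.congr_hom (((homCx G R).iCycles n).naturality i) z

lemma toCycles_cyclesToExt (p n : ℕ) : (homCx G R).toCycles p n ≫ cyclesToExt G R n = 0 := by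
  ext ⟨U⟩ g
  have h : cyc G R n U (((homCx G R).toCycles p n).app (op U) g) = g ≫ R.cocomplex.d p n :=
    ConcreteCategory.congr_hom (NatTrans.congr_app ((homCx G R).toCycles_i p n) (op U)) g
  change R.extMk (cyc G R n U (((homCx G R).toCycles p n).app (op U) g)) (n + 1) rfl (cyc_d G R n U _) = 0
  simp only [h]
  by_cases hp : p + 1 = n
  · exact (R.extMk_eq_zero_iff _ _ _ _ p hp).2 ⟨g, rfl⟩
  · simp only [R.cocomplex.shape p n (by simpa using hp)]
    exact ((by congr 1; exact comp_zero) : _ = R.extMk 0 (n + 1) rfl zero_comp).trans (R.extMk_zero _ _)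

/-- The comparison map from homology to Ext. -/
noncomputable def homologyToExt (n : ℕ) : (homCx G R).homology n ⟶ extPre G F n :=
  ((homCx G R).homologyIsCokernel _ n rfl).desc (CokernelCofork.ofπ _ (toCycles_cyclesToExt G R _ n))

lemma homologyπ_homologyToExt (n : ℕ) :
    (homCx G R).homologyπ n ≫ homologyToExt G R n = cyclesToExt G R n :=
  ((homCx G R).homologyIsCokernel _ n rfl).fac _ WalkingParallelPair.one

instance isIso_homologyToExt (n : ℕ) : IsIso (homologyToExt G R n) := by
  rw [NatTrans.isIso_iff_isIso_app]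
  rintro ⟨U⟩
  have hπ : Function.Surjective (((homCx G R).homologyπ n).app (op U)) :=
    (AddCommGrpCat.epi_iff_surjective _).1
      (((evaluation Cᵒᵖ AddCommGrpCat).obj (op U)).map_epi ((homCx G R).homologyπ n))
  have hfac : ∀ z, (homologyToExt G R n).app (op U) (((homCx G R).homologyπ n).app (op U) z) =
      R.extMk (cyc G R n U z) (n + 1) rfl (cyc_d G R n U z) := fun z =>
    ConcreteCategory.congr_hom (NatTrans.congr_app (homologyπ_homologyToExt G R n) (op U)) z
  rw [ConcreteCategory.isIso_iff_bijective]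
  constructor
  · refine (injective_iff_map_eq_zero ((homologyToExt G R n).app (op U)).hom).2 fun x hx => ?_
    obtain ⟨z, rfl⟩ := hπ x
    rw [hfac] at hx
    match n, z, hx with
    | 0, z, hx =>
      have : z = 0 := cyc_injective G R 0 U ((extMk_deg_zero_eq_zero R _ _ hx).trans
        (map_zero (((homCx G R).iCycles 0).app (op U)).hom).symm)
      subst this
      exact map_zero _
    | p + 1, z, hx =>
      obtain ⟨g, hg⟩ := (R.extMk_eq_zero_iff _ _ _ _ p rfl).1 hx
      have hz : ((homCx G R).toCycles p (p + 1)).app (op U) g = z := cyc_injective G R _ U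
        ((ConcreteCategory.congr_hom (NatTrans.congr_app ((homCx G R).toCycles_i p (p + 1)) (op U)) g).trans hg)
      rw [← hz]
      exact ConcreteCategory.congr_hom (NatTrans.congr_app ((homCx G R).toCycles_comp_homologyπ p (p + 1)) (op U)) g
  · intro x
    obtain ⟨f, hf, rfl⟩ := R.extMk_surjective x (n + 1) rfl
    obtain ⟨z, hz⟩ := cyc_exists G R n U f hf
    exact ⟨((homCx G R).homologyπ n).app (op U) z, by rw [hfac]; subst hz; rfl⟩

/-- An injective resolution computes the presheaf of Ext groups. -/
noncomputable def homologyIsoExt (n : ℕ) : (homCx G R).homology n ≅ extPre G F n :=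
  asIso (homologyToExt G R n)

end Groth.Agent.TopCoh49
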