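import Groth.Agent.TopCoh49.Coh
import Groth.Agent.TopCoh49.Res
import Mathlib.Topology.Sheaves.Limits
import Mathlib.CategoryTheory.Limits.Preserves.Basic

universe u

open CategoryTheory Limits TopologicalSpace Opposite Abelian

namespace Groth.Agent.TopCoh49

variable {X Y : TopCat.{u}}

/-- Natural Hom bijections give an isomorphism of `homPre` with a given functor. -/
noncomputable def homPreIsoOf {C : Type u} [SmallCategory C] {A : Type*} [Category.{u} A]
    [Abelian A] (G : C ⥤ A) (P : A ⥤ (Cᵒᵖ ⥤ AddCommGrpCat.{u}))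
    (e : ∀ (U : C) (B : A), (G.obj U ⟶ B) ≃+ (P.obj B).obj (op U))
    (h₁ : ∀ {U V : C} (i : V ⟶ U) {B : A} (φ : G.obj U ⟶ B),
      e V B (G.map i ≫ φ) = (P.obj B).map i.op (e U B φ))
    (h₂ : ∀ (U : C) {B B' : A} (φ : G.obj U ⟶ B) (g : B ⟶ B'),
      e U B' (φ ≫ g) = (P.map g).app (op U) (e U B φ)) :
    homPre G ≅ P :=
  NatIso.ofComponents
    (fun B => NatIso.ofComponents (fun U => (e U.unop B).toAddCommGrpIso)
      (fun i => by ext φ; exact h₁ i.unop φ))
    (fun g => by ext U φ; exact h₂ U.unop φ g)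

/-- Maps out of free sheaves give the underlying presheaf. -/
noncomputable def homPreIso (X : TopCat.{u}) :
    homPre (freeFun X) ≅ sheafToPresheaf (Opens.grothendieckTopology X) AddCommGrpCat.{u} :=
  homPreIsoOf (freeFun X) _ freeHomAddEquiv (fun i _ φ => freeHomEquiv_precomp i φ)
    (fun U _ _ φ g => freeHomEquiv_comp U φ g)

/-- `homologyIsoExt` for a functor isomorphic to `homPre G`. -/
noncomputable def homologyIsoExtOf {C : Type u} [SmallCategory C] {A : Type*} [Category.{u} A]
    [Abelian A] [HasExt.{u} A] (G : C ⥤ A) (P : A ⥤ (Cᵒᵖ ⥤ AddCommGrpCat.{u})) [P.Additive]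
    (e : homPre G ≅ P) {F : A} (R : InjectiveResolution F) (n : ℕ) :
    ((P.mapHomologicalComplex _).obj R.cocomplex).homology n ≅ extPre G F n :=
  HomologicalComplex.homologyMapIso
    ((NatIso.mapHomologicalComplex e _).app R.cocomplex).symm n ≪≫ homologyIsoExt G R n

/-- The complex of presheaves underlying an injective resolution. -/
noncomputable abbrev preCx {F : CohTop.Ab X} (R : InjectiveResolution F) :
    CochainComplex ((Opens X)ᵒᵖ ⥤ AddCommGrpCat.{u}) ℕ :=
  ((sheafToPresheaf _ _).mapHomologicalComplex _).obj R.cocomplex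

/-- An injective resolution computes the cohomology presheaf. -/
noncomputable def preCxHomologyIso {F : CohTop.Ab X} (R : InjectiveResolution F) (n : ℕ) :
    (preCx R).homology n ≅ extPre (freeFun X) F n :=
  homologyIsoExtOf (freeFun X) _ (homPreIso X) R n

/-- The derived functors of the inclusion into presheaves are the cohomology presheaves. -/
noncomputable def derivedPreIso (F : CohTop.Ab X) (n : ℕ) :
    ((sheafToPresheaf (Opens.grothendieckTopology X) AddCommGrpCat.{u}).rightDerived n).obj F ≅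
      extPre (freeFun X) F n :=
  (injectiveResolution F).isoRightDerivedObj _ n ≪≫ preCxHomologyIso (injectiveResolution F) n

/-- The presheaf `V ↦ H^n(f⁻¹ V, F)`. -/
noncomputable abbrev hPre (f : X ⟶ Y) (F : CohTop.Ab X) (n : ℕ) :
    (Opens Y)ᵒᵖ ⥤ AddCommGrpCat.{u} :=
  (Opens.map f).op ⋙ extPre (freeFun X) F n

/-- Higher direct images are sheafified cohomology presheaves. -/
noncomputable def RpushIso (f : X ⟶ Y) (F : CohTop.Ab X) (n : ℕ) :
    (CohTop.Rpush f n).obj F ≅ (presheafToSheaf _ _).obj (hPre f F n) :=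
  let R := injectiveResolution F
  let W := (Functor.whiskeringLeft _ _ AddCommGrpCat.{u}).obj (Opens.map f).op
  let S := presheafToSheaf (Opens.grothendieckTopology Y) AddCommGrpCat.{u}
  let K := ((CohTop.push f).mapHomologicalComplex _).obj R.cocomplex
  let L := (W.mapHomologicalComplex _).obj (preCx R)
  R.isoRightDerivedObj _ n ≪≫
    HomologicalComplex.homologyMapIso
      (HomologicalComplex.Hom.isoOfComponents (C₂ := (S.mapHomologicalComplex _).obj L)
        (fun i => ((asIso (sheafificationAdjunction _ _).counit).app (K.X i)).symm)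
        (fun i j _ => ((asIso (sheafificationAdjunction (Opens.grothendieckTopology Y)
          AddCommGrpCat.{u}).counit).inv.naturality (K.d i j)).symm)) n ≪≫
    (L.sc n).mapHomologyIso S ≪≫
    S.mapIso (((preCx R).sc n).mapHomologyIso W ≪≫ W.mapIso (preCxHomologyIso R n))

/-- A presheaf whose sections are locally zero has zero sheafification. -/
lemma isZero_sheafify_of_locally_zero (P : (Opens X)ᵒᵖ ⥤ AddCommGrpCat.{u})
    (h : ∀ (U : Opens X) (s : P.obj (op U)) (x : X), x ∈ U →
      ∃ (V : Opens X) (hV : V ≤ U), x ∈ V ∧ P.map (homOfLE hV).op s = 0) :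
    IsZero ((presheafToSheaf (Opens.grothendieckTopology X) AddCommGrpCat.{u}).obj P) := by
  rw [IsZero.iff_id_eq_zero]
  apply ((sheafificationAdjunction _ _).homEquiv _ _).injective
  set G := (presheafToSheaf (Opens.grothendieckTopology X) AddCommGrpCat.{u}).obj P
  have key : ∀ (φ : P ⟶ G.obj), φ = 0 := fun φ => by
    ext U s
    choose V hV hxV h0 using fun x : U.unop => h U.unop s x.1 x.2
    refine TopCat.Sheaf.eq_of_locally_eq' (C := AddCommGrpCat.{u}) (X := X) G V U.unop (fun x => homOfLE (hV x))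
      (fun x hx => Opens.mem_iSup.2 ⟨⟨x, hx⟩, hxV ⟨x, hx⟩⟩) _ _ fun x => ?_
    have := ConcreteCategory.congr_hom (φ.naturality (homOfLE (hV x)).op) s
    exact this.symm.trans ((congrArg (fun t => (φ.app _) t) (h0 x)).trans
      ((map_zero (φ.app _).hom).trans (map_zero (G.obj.map _).hom).symm))
  exact (key _).trans (key _).symm

lemma isZero_Rpush_of_locally_zero (f : X ⟶ Y) (F : CohTop.Ab X) (n : ℕ)
    (h : ∀ (U : Opens Y) (s : E F n ((Opens.map f).obj U)) (y : Y), y ∈ U →
      ∃ (V : Opens Y) (hV : V ≤ U), y ∈ V ∧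
        eres F n ((Opens.map f).monotone hV) s = 0) :
    IsZero ((CohTop.Rpush f n).obj F) :=
  IsZero.of_iso (isZero_sheafify_of_locally_zero _ fun U s y hy => by
    obtain ⟨V, hV, hyV, h0⟩ := h U s y hy
    exact ⟨V, hV, hyV, h0⟩) (RpushIso f F n)

lemma isZero_Rpush_of_isFlasque (f : X ⟶ Y) (F : CohTop.Ab X) [TopCat.Sheaf.IsFlasque F] (q : ℕ) :
    IsZero ((CohTop.Rpush f (q + 1)).obj F) :=
  isZero_Rpush_of_locally_zero f F _ fun U _ _ hy =>
    ⟨U, le_rfl, hy, (subsingleton_E_of_isFlasque q F _).elim _ _⟩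

instance preservesFiniteLimits_pull (f : X ⟶ Y) : PreservesFiniteLimits (CohTop.pull f) :=
  Functor.SmallCategories.instPreservesFiniteLimitsSheafSheafPullbackOfRepresentablyFlat
    (Opens.map f) AddCommGrpCat.{u} (Opens.grothendieckTopology Y) (Opens.grothendieckTopology X)

theorem injective_push (f : X ⟶ Y) (I : CohTop.Ab X) (hI : Injective I) :
    Injective ((CohTop.push f).obj I) :=
  haveI : (TopCat.Sheaf.pullback AddCommGrpCat.{u} f).PreservesMonomorphisms :=
    preservesMonomorphisms_of_preservesLimitsOfShape (CohTop.pull f)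
  (TopCat.Sheaf.pullbackPushforwardAdjunction AddCommGrpCat.{u} f).map_injective I hI

end Groth.Agent.TopCoh49
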