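import Groth.Agent.TopCoh49.Cech
import Mathlib.Order.Zorn
import Mathlib.Data.Fin.Tuple.Basic

universe u

open CategoryTheory Limits TopologicalSpace Opposite

namespace Groth.Agent.TopCoh49

variable {X : TopCat.{u}} {ι : Type u} (U : ι → Opens X)

/-- Restriction of sections along an inclusion. -/
noncomputable abbrev rs (P : (Opens X)ᵒᵖ ⥤ AddCommGrpCat.{u}) {V W : Opens X} (h : W ≤ V) :
    P.obj (op V) →+ P.obj (op W) :=
  (P.map (homOfLE h).op).hom

lemma rs_rs (P : (Opens X)ᵒᵖ ⥤ AddCommGrpCat.{u}) {A B C : Opens X} (h₁ : B ≤ A) (h₂ : C ≤ B)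
    (x : P.obj (op A)) : rs P h₂ (rs P h₁ x) = rs P (h₂.trans h₁) x := by
  rw [← ConcreteCategory.comp_apply, ← P.map_comp]
  rfl

lemma rs_self (P : (Opens X)ᵒᵖ ⥤ AddCommGrpCat.{u}) {A : Opens X} (h : A ≤ A) (x : P.obj (op A)) :
    rs P h x = x := by
  change P.map (𝟙 _) x = x
  rw [P.map_id]
  rfl

lemma cochD_cochD (P : (Opens X)ᵒᵖ ⥤ AddCommGrpCat.{u}) (n : ℕ) (f : Coch P U n) :
    cochD P U (n + 1) (cochD P U n f) = 0 := by
  obtain ⟨x, rfl⟩ := (cochEquiv P U n).surjective f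
  rw [← cochEquiv_d, ← cochEquiv_d, ← ConcreteCategory.comp_apply, HomologicalComplex.d_comp_d]
  exact map_zero _

/-- Functoriality of explicit cochains. -/
noncomputable def cochMap {P Q : (Opens X)ᵒᵖ ⥤ AddCommGrpCat.{u}} (φ : P ⟶ Q) (n : ℕ) :
    Coch P U n →+ Coch Q U n :=
  AddMonoidHom.mk' (fun f a => φ.app _ (f a)) (fun _ _ => funext fun _ => map_add _ _ _)

lemma cochD_cochMap {P Q : (Opens X)ᵒᵖ ⥤ AddCommGrpCat.{u}} (φ : P ⟶ Q) (n : ℕ) (f : Coch P U n) :
    cochD Q U n (cochMap U φ n f) = cochMap U φ (n + 1) (cochD P U n f) := by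
  funext a
  change _ = φ.app _ (cochD P U n f a)
  simp only [cochD_apply, map_sum, map_zsmul]
  exact Finset.sum_congr rfl fun j _ => congrArg _
    (ConcreteCategory.congr_hom (φ.naturality _) _).symm

variable (F : CohTop.Ab X)

/-- The presheaf of sections inside a given open. -/
noncomputable abbrev infPre (W : Opens X) : (Opens X)ᵒᵖ ⥤ AddCommGrpCat.{u} where
  obj V := F.obj.obj (op (W ⊓ V.unop))
  map i := F.obj.map (homOfLE (inf_le_inf_left W (leOfHom i.unop))).op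
  map_id V := F.obj.map_id (op (W ⊓ V.unop))
  map_comp i j := F.obj.map_comp (homOfLE (inf_le_inf_left W (leOfHom i.unop))).op
    (homOfLE (inf_le_inf_left W (leOfHom j.unop))).op

/-- Restriction between presheaves of sections inside opens. -/
noncomputable def infMap {W W' : Opens X} (h : W' ≤ W) : infPre F W ⟶ infPre F W' where
  app V := F.obj.map (homOfLE (inf_le_inf_right V.unop h)).op
  naturality _ _ i := by
    change F.obj.map _ ≫ F.obj.map _ = F.obj.map _ ≫ F.obj.map _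
    rw [← F.obj.map_comp, ← F.obj.map_comp]
    rfl

lemma inter_mem {𝒮 : Set (Opens X)} (hinf : ∀ V ∈ 𝒮, ∀ W ∈ 𝒮, V ⊓ W ∈ 𝒮) (hU : ∀ i, U i ∈ 𝒮) :
    ∀ {n : ℕ} (a : Fin (n + 1) → ι), inter U a ∈ 𝒮 := by
  intro n
  induction n with
  | zero =>
    intro a
    have : inter U a = U (a 0) := le_antisymm (inter_le U a 0) (le_iInf fun k => by rw [Fin.eq_zero k])
    exact this ▸ hU _
  | succ n ih =>
    intro a
    have : inter U a = U (a 0) ⊓ inter U (a ∘ Fin.succ) := le_antisymm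
      (le_inf (inter_le U a 0) (inter_comp_le U a Fin.succ))
      (le_iInf fun k => Fin.cases inf_le_left (fun k => inf_le_right.trans (inter_le U (a ∘ Fin.succ) k)) k)
    exact this ▸ hinf _ (hU _) _ (ih _)

lemma eq_of_forall_rs_eq {κ : Type u} {V : κ → Opens X} {A : Opens X} (h : ∀ k, V k ≤ A)
    (hA : A ≤ iSup V) {s t : F.obj.obj (op A)} (hst : ∀ k, rs F.obj (h k) s = rs F.obj (h k) t) : s = t :=
  TopCat.Sheaf.eq_of_locally_eq' (X := X) (C := AddCommGrpCat.{u}) F V A (fun k => homOfLE (h k)) hA s t hst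

lemma exists_glue {κ : Type u} {V : κ → Opens X} {A : Opens X} (h : ∀ k, V k ≤ A) (hA : A ≤ iSup V)
    (sf : ∀ k, F.obj.obj (op (V k)))
    (hsf : ∀ j k, rs F.obj (inf_le_left : V j ⊓ V k ≤ V j) (sf j) =
      rs F.obj (inf_le_right : V j ⊓ V k ≤ V k) (sf k)) :
    ∃ s : F.obj.obj (op A), ∀ k, rs F.obj (h k) s = sf k := by
  obtain ⟨s, hs, -⟩ := TopCat.Sheaf.existsUnique_gluing (X := X) (C := AddCommGrpCat.{u}) F V sf hsf
  exact ⟨rs F.obj hA s, fun k => (rs_rs _ _ _ _).trans (hs k)⟩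

/-- A cocycle of degree zero comes from a section. -/
lemma exists_section_of_cocycle (W : Opens X) (hW : W ≤ iSup U) (e : Coch (infPre F W) U 0)
    (he : cochD _ U 0 e = 0) :
    ∃ s : F.obj.obj (op W), ∀ a, rs F.obj (inf_le_left : W ⊓ inter U a ≤ W) s = e a := by
  refine exists_glue F (V := fun a : Fin 1 → ι => W ⊓ inter U a) (fun _ => inf_le_left) ?_ e ?_
  · intro x hx
    obtain ⟨i, hi⟩ := Opens.mem_iSup.1 (hW hx)
    refine Opens.mem_iSup.2 ⟨fun _ => i, hx, ?_⟩
    exact (show inter U (fun _ : Fin 1 => i) = U i from iInf_const).symm.le hi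
  · intro a b
    have h := congrFun he ![a 0, b 0]
    rw [cochD_apply, Fin.sum_univ_two] at h
    have hle : (W ⊓ inter U a) ⊓ (W ⊓ inter U b) ≤ W ⊓ inter U ![a 0, b 0] :=
      le_inf (inf_le_left.trans inf_le_left) (le_iInf fun k => by
        fin_cases k
        · exact inf_le_left.trans (inf_le_right.trans (inter_le U a 0))
        · exact inf_le_right.trans (inf_le_right.trans (inter_le U b 0)))
    have h' := congrArg (rs F.obj hle) h
    simp only [Fin.val_zero, pow_zero, one_smul, Fin.val_one, pow_one, neg_smul, map_add, map_neg,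
      Pi.zero_apply, map_zero] at h'
    have e0 : (![a 0, b 0] ∘ Fin.succAbove (0 : Fin 2)) = b := funext fun k => by rw [Fin.eq_zero k]; rfl
    have e1 : (![a 0, b 0] ∘ Fin.succAbove (1 : Fin 2)) = a := funext fun k => by rw [Fin.eq_zero k]; rfl
    have key : ∀ (c : Fin 1 → ι) (d : Fin 1 → ι), c = d → ∀ (p : _ ≤ inter U c) (q : _ ≤ W ⊓ inter U d),
        rs F.obj hle (F.obj.map (homOfLE (inf_le_inf_left W p)).op (e c)) = rs F.obj q (e d) := by
      rintro c _ rfl p q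
      exact rs_rs _ _ _ _
    rw [key _ b e0 (inter_comp_le U _ _) inf_le_right, key _ a e1 (inter_comp_le U _ _) inf_le_left] at h'
    exact (eq_of_sub_eq_zero (by rw [sub_eq_add_neg]; exact h')).symm

/-- A local solution on `W ⊓ U i`. -/
lemma local_solution (p : ℕ) (W V' : Opens X) (i : ι) (hV' : V' ≤ W) (hi : V' ≤ U i)
    (f : Coch (infPre F W) U (p + 1)) (hf : cochD _ U (p + 1) f = 0) :
    ∃ g : Coch (infPre F V') U p, cochD _ U p g = cochMap U (infMap F hV') (p + 1) f := by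
  have hcons : ∀ {n : ℕ} (a : Fin (n + 1) → ι), V' ⊓ inter U a ≤ W ⊓ inter U (Fin.cons i a : Fin (n + 2) → ι) :=
    fun a => le_inf (inf_le_left.trans hV') (le_iInf fun k => Fin.cases (inf_le_left.trans hi)
      (fun k => inf_le_right.trans (inter_le U a k)) k)
  refine ⟨fun a => rs F.obj (hcons a) (f (Fin.cons i a)), funext fun a => ?_⟩
  have h := congrArg (rs F.obj (hcons a)) (congrFun hf (Fin.cons i a : Fin (p + 3) → ι))
  rw [cochD_apply, Fin.sum_univ_succ, Pi.zero_apply, map_zero, map_add, map_zsmul, map_sum] at h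
  simp only [Fin.val_zero, pow_zero, one_smul, map_zsmul] at h
  have key : ∀ (c d : Fin (p + 2) → ι), c = d → ∀ (q : inter U (Fin.cons i a : Fin (p + 3) → ι) ≤ inter U c)
      (r : V' ⊓ inter U a ≤ W ⊓ inter U d),
      rs F.obj (hcons a) ((infPre F W).map (homOfLE q).op (f c)) = rs F.obj r (f d) := by
    rintro c _ rfl q r
    exact rs_rs _ _ _ _
  have h0 : ((Fin.cons i a : Fin (p + 3) → ι) ∘ Fin.succAbove 0) = a := by
    funext k; simp
  have hs : ∀ j : Fin (p + 2), ((Fin.cons i a : Fin (p + 3) → ι) ∘ j.succ.succAbove) = Fin.cons i (a ∘ j.succAbove) := by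
    intro j; funext k
    refine Fin.cases ?_ (fun k => ?_) k <;> simp
  rw [key _ _ h0 (inter_comp_le U _ _) (inf_le_inf_right _ hV')] at h
  change ∑ j : Fin (p + 2), _ = rs F.obj (inf_le_inf_right _ hV') (f a)
  rw [eq_neg_of_add_eq_zero_left h, ← Finset.sum_neg_distrib]
  refine Finset.sum_congr rfl fun j _ => ?_
  rw [key _ _ (hs j) (inter_comp_le U _ _) (le_inf (inf_le_left.trans hV') (le_iInf fun k => Fin.cases (inf_le_left.trans hi)
      (fun k => inf_le_right.trans (inter_le U a _)) k)), Fin.val_succ, pow_succ, mul_neg_one, neg_smul, neg_neg]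
  congr 1
  exact rs_rs F.obj (hcons _) (inf_le_inf_left V' (inter_comp_le U a j.succAbove)) _

/-- A partial primitive of a cocycle. -/
structure Partial (p : ℕ) (𝒮 : Set (Opens X)) (W : Opens X) (f : Coch (infPre F W) U (p + 1)) where
  /-- The domain. -/
  V : Opens X
  mem : V ∈ 𝒮
  le : V ≤ W
  /-- The primitive. -/
  g : Coch (infPre F V) U p
  d_g : cochD _ U p g = cochMap U (infMap F le) (p + 1) f

variable (𝒮 : Set (Opens X)) (hinf : ∀ V ∈ 𝒮, ∀ W ∈ 𝒮, V ⊓ W ∈ 𝒮)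
  (hsup : ∀ T : Set (Opens X), T ⊆ 𝒮 → sSup T ∈ 𝒮) (hU : ∀ i, U i ∈ 𝒮)
  (hsurj : ∀ V ∈ 𝒮, ∀ V' ∈ 𝒮, ∀ h : V ≤ V', V' ≤ iSup U →
    Function.Surjective (F.obj.map (homOfLE h).op))

include hinf hsup hU hsurj in
lemma exists_primitive : ∀ (p : ℕ) (W : Opens X), W ∈ 𝒮 → W ≤ iSup U →
    ∀ f : Coch (infPre F W) U (p + 1), cochD _ U (p + 1) f = 0 → ∃ g, cochD _ U p g = f := by
  intro p
  induction p using Nat.strong_induction_on with
  | _ p IH =>
  intro W hW hWU f hf
  let le : Partial U F p 𝒮 W f → Partial U F p 𝒮 W f → Prop := fun a b =>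
    ∃ h : a.V ≤ b.V, cochMap U (infMap F h) p b.g = a.g
  have hbot : (⊥ : Opens X) ∈ 𝒮 := sSup_empty (α := Opens X) ▸ hsup ∅ (Set.empty_subset _)
  have hchain : ∀ c : Set (Partial U F p 𝒮 W f), IsChain le c → ∃ ub, ∀ a ∈ c, le a ub := by
    intro c hc
    let Vs : Opens X := sSup (Partial.V '' c)
    have hVs : Vs ∈ 𝒮 := hsup _ (by rintro _ ⟨a, -, rfl⟩; exact a.mem)
    have hVW : Vs ≤ W := sSup_le (by rintro _ ⟨a, -, rfl⟩; exact a.le)
    have hle : ∀ a : c, a.1.V ≤ Vs := fun a => le_sSup ⟨a.1, a.2, rfl⟩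
    have hcov : ∀ {n : ℕ} (t : Fin (n + 1) → ι), Vs ⊓ inter U t ≤ ⨆ a : c, a.1.V ⊓ inter U t := by
      intro n t x hx
      obtain ⟨_, ⟨a, ha, rfl⟩, hxa⟩ := Opens.mem_sSup.1 hx.1
      exact Opens.mem_iSup.2 ⟨⟨a, ha⟩, hxa, hx.2⟩
    have hg : ∀ t : Fin (p + 1) → ι, ∃ s : F.obj.obj (op (Vs ⊓ inter U t)),
        ∀ a : c, rs F.obj (inf_le_inf_right _ (hle a)) s = a.1.g t := fun t => by
      refine exists_glue F _ (hcov t) (fun a => a.1.g t) fun a b => ?_
      obtain hab | hba | rfl : le a.1 b.1 ∨ le b.1 a.1 ∨ a = b := by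
        by_cases h : a = b
        · exact Or.inr (Or.inr h)
        · exact (hc a.2 b.2 (fun e => h (Subtype.ext e))).elim Or.inl (fun h => Or.inr (Or.inl h))
      · obtain ⟨h, hh⟩ := hab
        exact (congrArg _ (congrFun hh t).symm).trans (rs_rs _ _ _ _)
      · obtain ⟨h, hh⟩ := hba
        exact ((congrArg _ (congrFun hh t).symm).trans (rs_rs _ _ _ _)).symm
      · rfl
    choose g hg using hg
    have hres : ∀ a : c, cochMap U (infMap F (hle a)) p g = a.1.g := fun a => funext fun t => hg t a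
    refine ⟨⟨Vs, hVs, hVW, g, funext fun t =>
      eq_of_forall_rs_eq F (V := fun a : c => a.1.V ⊓ inter U t) (fun a => inf_le_inf_right _ (hle a))
        (hcov t) fun a => ?_⟩, fun a ha => ⟨hle ⟨a, ha⟩, hres ⟨a, ha⟩⟩⟩
    have h := congrFun (cochD_cochMap U (infMap F (hle a)) p g) t
    rw [hres a, a.1.d_g] at h
    exact h.symm.trans (rs_rs _ _ _ _).symm
  have htrans : ∀ a b c, le a b → le b c → le a c := by
    rintro a b c ⟨h₁, e₁⟩ ⟨h₂, e₂⟩
    refine ⟨h₁.trans h₂, funext fun t => ?_⟩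
    rw [← e₁, ← e₂]
    exact (rs_rs _ _ _ _).symm
  obtain ⟨m, hm⟩ := exists_maximal_of_chains_bounded hchain (fun hab hbc => htrans _ _ _ hab hbc)
  suffices hmW : W ≤ m.V by
    refine ⟨cochMap U (infMap F hmW) p m.g, ?_⟩
    rw [cochD_cochMap, m.d_g]
    funext t
    exact (rs_rs _ _ _ _).trans (rs_self _ _ _)
  intro x hx
  obtain ⟨i, hi⟩ := Opens.mem_iSup.1 (hWU hx)
  set V' : Opens X := W ⊓ U i
  have hV' : V' ∈ 𝒮 := hinf _ hW _ (hU i)
  obtain ⟨g', hg'⟩ := local_solution U F p W V' i inf_le_left inf_le_right f hf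
  set W0 : Opens X := m.V ⊓ V'
  have hW0 : W0 ∈ 𝒮 := hinf _ m.mem _ hV'
  set e : Coch (infPre F W0) U p :=
    cochMap U (infMap F (inf_le_right : W0 ≤ V')) p g' - cochMap U (infMap F (inf_le_left : W0 ≤ m.V)) p m.g
  have he : cochD _ U p e = 0 := by
    simp only [e, map_sub, cochD_cochMap, hg', m.d_g]
    funext t
    exact sub_eq_zero.2 ((rs_rs _ _ _ _).trans (rs_rs _ _ _ _).symm)
  obtain ⟨c, hc, hce⟩ : ∃ c : Coch (infPre F V') U p, cochD _ U p c = 0 ∧
      cochMap U (infMap F (inf_le_right : W0 ≤ V')) p c = e := by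
    rcases p with _ | q
    · obtain ⟨s, hs⟩ := exists_section_of_cocycle U F W0 ((inf_le_left.trans m.le).trans hWU) e he
      obtain ⟨s', hs'⟩ := hsurj _ hW0 _ hV' inf_le_right (inf_le_left.trans hWU) s
      refine ⟨fun a => rs F.obj inf_le_left s', funext fun a => ?_, funext fun a => ?_⟩
      · rw [cochD_apply, Fin.sum_univ_two]
        simp only [Fin.val_zero, pow_zero, one_smul, Fin.val_one, pow_one, neg_smul, Pi.zero_apply]
        exact add_eq_zero_iff_eq_neg.2 (by rw [neg_neg]; exact (rs_rs _ _ _ _).trans (rs_rs _ _ _ _).symm)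
      · rw [← hs a]
        exact ((rs_rs _ _ _ _).trans (rs_rs _ _ _ _).symm).trans (congrArg _ hs')
    · obtain ⟨l, hl⟩ := IH q (Nat.lt_succ_self q) W0 hW0 ((inf_le_left.trans m.le).trans hWU) e he
      choose l' hl' using fun a => hsurj _ (hinf _ hW0 _ (inter_mem U hinf hU a)) _
        (hinf _ hV' _ (inter_mem U hinf hU a)) (inf_le_inf_right _ inf_le_right)
        (inf_le_left.trans (inf_le_left.trans hWU)) (l a)
      refine ⟨cochD _ U q l', cochD_cochD U _ _ _, ?_⟩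
      rw [← cochD_cochMap, show cochMap U (infMap F (inf_le_right : W0 ≤ V')) q l' = l from funext hl', hl]
  set g'' := g' - c
  have hg'' : cochD _ U p g'' = cochMap U (infMap F inf_le_left) (p + 1) f := by
    rw [map_sub, hc, sub_zero, hg']
  have hagree : cochMap U (infMap F (inf_le_right : W0 ≤ V')) p g'' =
      cochMap U (infMap F (inf_le_left : W0 ≤ m.V)) p m.g := by
    rw [map_sub, hce]
    exact sub_sub_cancel _ _
  let Q : Bool → Opens X := fun b => cond b m.V V'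
  have hQ : ∀ {n : ℕ} (t : Fin (n + 1) → ι), (m.V ⊔ V') ⊓ inter U t ≤
      ⨆ b : ULift.{u} Bool, Q b.down ⊓ inter U t := fun t x hx => by
    rcases hx.1 with h | h
    · exact Opens.mem_iSup.2 ⟨⟨true⟩, h, hx.2⟩
    · exact Opens.mem_iSup.2 ⟨⟨false⟩, h, hx.2⟩
  have hQle : ∀ b : ULift.{u} Bool, Q b.down ≤ m.V ⊔ V'
    | ⟨true⟩ => le_sup_left
    | ⟨false⟩ => le_sup_right
  have hglue : ∀ t : Fin (p + 1) → ι, ∃ s : F.obj.obj (op ((m.V ⊔ V') ⊓ inter U t)),
      rs F.obj (inf_le_inf_right _ le_sup_left) s = m.g t ∧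
      rs F.obj (inf_le_inf_right _ le_sup_right) s = g'' t := by
    intro t
    let sf : ∀ b : ULift.{u} Bool, F.obj.obj (op (Q b.down ⊓ inter U t))
      | ⟨true⟩ => m.g t
      | ⟨false⟩ => g'' t
    have h0 : rs F.obj (inf_le_inf_right _ (inf_le_right : W0 ≤ V')) (g'' t) =
        rs F.obj (inf_le_inf_right _ (inf_le_left : W0 ≤ m.V)) (m.g t) := congrFun hagree t
    obtain ⟨s, hs⟩ := exists_glue F (fun b => inf_le_inf_right _ (hQle b)) (hQ t) sf (by
      rintro ⟨_ | _⟩ ⟨_ | _⟩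
      · rfl
      · have hle : (V' ⊓ inter U t) ⊓ (m.V ⊓ inter U t) ≤ W0 ⊓ inter U t :=
          le_inf (le_inf (inf_le_right.trans inf_le_left) (inf_le_left.trans inf_le_left)) (inf_le_left.trans inf_le_right)
        exact ((rs_rs F.obj _ hle _).symm.trans (congrArg _ h0)).trans (rs_rs _ _ _ _)
      · have hle : (m.V ⊓ inter U t) ⊓ (V' ⊓ inter U t) ≤ W0 ⊓ inter U t :=
          le_inf (le_inf (inf_le_left.trans inf_le_left) (inf_le_right.trans inf_le_left)) (inf_le_left.trans inf_le_right)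
        exact ((rs_rs F.obj _ hle _).symm.trans (congrArg _ h0.symm)).trans (rs_rs _ _ _ _)
      · rfl)
    exact ⟨s, hs ⟨true⟩, hs ⟨false⟩⟩
  choose s hs₁ hs₂ using hglue
  have hnew : (m.V ⊔ V') ∈ 𝒮 := by
    rw [← sSup_pair]
    exact hsup _ (by rintro _ (rfl | rfl); exacts [m.mem, hV'])
  let m' : Partial U F p 𝒮 W f := ⟨m.V ⊔ V', hnew, sup_le m.le inf_le_left, s, funext fun t => by
    refine eq_of_forall_rs_eq F (V := fun b : ULift.{u} Bool => Q b.down ⊓ inter U t)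
      (fun b => inf_le_inf_right _ (hQle b)) (hQ t) ?_
    rintro ⟨_ | _⟩
    · have h := congrFun (cochD_cochMap U (infMap F (le_sup_right : V' ≤ m.V ⊔ V')) p s) t
      rw [show cochMap U (infMap F (le_sup_right : V' ≤ m.V ⊔ V')) p s = g'' from funext hs₂, hg''] at h
      exact h.symm.trans (rs_rs _ _ _ _).symm
    · have h := congrFun (cochD_cochMap U (infMap F (le_sup_left : m.V ≤ m.V ⊔ V')) p s) t
      rw [show cochMap U (infMap F (le_sup_left : m.V ≤ m.V ⊔ V')) p s = m.g from funext hs₁, m.d_g] at h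
      exact h.symm.trans (rs_rs _ _ _ _).symm⟩
  obtain ⟨hle, -⟩ := hm m' ⟨le_sup_left, funext hs₁⟩
  exact hle ((le_sup_right : V' ≤ m.V ⊔ V') ⟨hx, hi⟩)

include hinf hsup hU hsurj in
lemma isZero_cechH_of_surjective (p : ℕ) : IsZero (CohTop.cechH F.obj U (p + 1)) := by
  rw [isZero_cechH_succ_iff]
  intro f hf
  let φ : F.obj ⟶ infPre F (iSup U) :=
    { app := fun V => F.obj.map (homOfLE inf_le_right).op
      naturality := fun V V' i => by
        change F.obj.map _ ≫ F.obj.map _ = F.obj.map _ ≫ F.obj.map _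
        rw [← F.obj.map_comp, ← F.obj.map_comp]
        rfl }
  obtain ⟨g, hg⟩ := exists_primitive U F 𝒮 hinf hsup hU hsurj p (iSup U)
    (hsup (Set.range U) (by rintro _ ⟨i, rfl⟩; exact hU i)) le_rfl (cochMap U φ (p + 1) f)
    (by rw [cochD_cochMap, hf, map_zero])
  have hle : ∀ {n : ℕ} (a : Fin (n + 1) → ι), inter U a ≤ iSup U ⊓ inter U a := fun a =>
    le_inf ((inter_le U a 0).trans (le_iSup U _)) le_rfl
  refine ⟨fun a => rs F.obj (hle a) (g a), funext fun a => ?_⟩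
  have h := congrArg (rs F.obj (hle a)) (congrFun hg a)
  refine Eq.trans ?_ (h.trans ((rs_rs _ _ _ _).trans (rs_self _ _ _)))
  simp only [cochD_apply, map_sum, map_zsmul]
  exact Finset.sum_congr rfl fun j _ => congrArg _ ((rs_rs _ _ _ _).trans (rs_rs _ _ _ _).symm)

lemma isZero_cechH_of_isFlasque [h : TopCat.Sheaf.IsFlasque F] (p : ℕ) :
    IsZero (CohTop.cechH F.obj U (p + 1)) :=
  isZero_cechH_of_surjective U F Set.univ (fun _ _ _ _ => trivial) (fun _ _ => trivial) (fun _ => trivial)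
    (fun _ _ _ _ _ _ => (AddCommGrpCat.epi_iff_surjective _).1 (h.epi _)) p

end Groth.Agent.TopCoh49
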