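import Groth.Agent.TopCoh49.Coh
import Groth.Agent.TopCoh49.CechFlasque
import Mathlib.Algebra.Homology.HomologySequence
import Mathlib.Algebra.Homology.HomologicalComplexAbelian

universe u

open CategoryTheory Limits TopologicalSpace Opposite Abelian

namespace Groth.Agent.TopCoh49

variable {X : TopCat.{u}} {ι : Type u} (U : ι → Opens X)

/-- Restriction of a section to the members of a family. -/
noncomputable def cres (P : (Opens X)ᵒᵖ ⥤ AddCommGrpCat.{u}) :
    P.obj (op (iSup U)) →+ Coch P U 0 :=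
  AddMonoidHom.mk' (fun s a => rs P ((inter_le U a 0).trans (le_iSup U _)) s)
    (fun _ _ => funext fun _ => map_add _ _ _)

lemma cres_apply (P : (Opens X)ᵒᵖ ⥤ AddCommGrpCat.{u}) (s : P.obj (op (iSup U))) (a : Fin 1 → ι) :
    cres U P s a = rs P ((inter_le U a 0).trans (le_iSup U _)) s := rfl

lemma cochD_cres (P : (Opens X)ᵒᵖ ⥤ AddCommGrpCat.{u}) (s : P.obj (op (iSup U))) :
    cochD P U 0 (cres U P s) = 0 := by
  funext a
  rw [cochD_apply, Fin.sum_univ_two]
  simp only [Fin.val_zero, pow_zero, one_smul, Fin.val_one, pow_one, neg_smul, Pi.zero_apply, cres_apply]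
  exact add_eq_zero_iff_eq_neg.2 (by rw [neg_neg]; exact (rs_rs _ _ _ _).trans (rs_rs _ _ _ _).symm)

lemma cochMap_cres {P Q : (Opens X)ᵒᵖ ⥤ AddCommGrpCat.{u}} (φ : P ⟶ Q) (s : P.obj (op (iSup U))) :
    cochMap U φ 0 (cres U P s) = cres U Q (φ.app _ s) :=
  funext fun _ => ConcreteCategory.congr_hom (φ.naturality _) s

lemma iSup_le_iSup_inter : iSup U ≤ ⨆ a : Fin 1 → ι, inter U a :=
  iSup_le fun i => le_iSup_of_le (fun _ => i) (le_iInf fun _ => le_rfl)

lemma cres_injective (F : CohTop.Ab X) : Function.Injective (cres U F.obj) := fun _ _ h =>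
  eq_of_forall_rs_eq F (fun a : Fin 1 → ι => (inter_le U a 0).trans (le_iSup U _))
    (iSup_le_iSup_inter U) fun a => congrFun h a

lemma exists_cres_of_cocycle (F : CohTop.Ab X) (e : Coch F.obj U 0) (he : cochD F.obj U 0 e = 0) :
    ∃ s, cres U F.obj s = e := by
  have hle : ∀ {n : ℕ} (a : Fin (n + 1) → ι), inter U a ≤ iSup U ⊓ inter U a := fun a =>
    le_inf ((inter_le U a 0).trans (le_iSup U _)) le_rfl
  let φ : F.obj ⟶ infPre F (iSup U) :=
    { app := fun V => F.obj.map (homOfLE inf_le_right).op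
      naturality := fun V V' i => by
        change F.obj.map _ ≫ F.obj.map _ = F.obj.map _ ≫ F.obj.map _
        rw [← F.obj.map_comp, ← F.obj.map_comp]
        rfl }
  obtain ⟨s, hs⟩ := exists_section_of_cocycle U F (iSup U) le_rfl (cochMap U φ 0 e)
    (by rw [cochD_cochMap, he, map_zero])
  refine ⟨s, funext fun a => ?_⟩
  have h := congrArg (rs F.obj (hle a)) (hs a)
  exact (rs_rs _ _ _ _).symm.trans (h.trans ((rs_rs _ _ _ _).trans (rs_self _ _ _)))

variable {S : ShortComplex (CohTop.Ab X)}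

lemma app_f_injective (hS : S.ShortExact) (V : Opens X) : Function.Injective (S.f.hom.app (op V)) := by
  have := hS.mono_f
  have : Mono S.f.hom := inferInstanceAs (Mono ((sheafToPresheaf _ _).map S.f))
  exact (AddCommGrpCat.mono_iff_injective _).1 (((evaluation _ _).obj (op V)).map_mono S.f.hom)

lemma cochMap_f_injective (hS : S.ShortExact) (n : ℕ) :
    Function.Injective (cochMap U S.f.hom n) := fun _ _ h =>
  funext fun a => app_f_injective hS _ (congrFun h a)

lemma exists_cochMap_f_of_g_eq_zero (hS : S.ShortExact) (n : ℕ) (b : Coch S.X₂.obj U n)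
    (hb : cochMap U S.g.hom n b = 0) : ∃ a, cochMap U S.f.hom n a = b := by
  choose a ha using fun t => TopCat.Sheaf.sections_exact_of_left_exact hS.exact hS.mono_f (b t) (congrFun hb t)
  exact ⟨a, funext ha⟩

lemma cochMap_g_f (n : ℕ) (a : Coch S.X₁.obj U n) : cochMap U S.g.hom n (cochMap U S.f.hom n a) = 0 :=
  funext fun _ => ConcreteCategory.congr_hom (NatTrans.congr_app (congrArg (fun φ => φ.hom) S.zero) _) _

lemma app_g_f (V : Opens X) (a : S.X₁.obj.obj (op V)) :
    S.g.hom.app (op V) (S.f.hom.app (op V) a) = 0 :=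
  ConcreteCategory.congr_hom (NatTrans.congr_app (congrArg (fun φ => φ.hom) S.zero) _) a

/-- Lifting of a section along a cover with vanishing first Cech cohomology. -/
lemma lift_of_cover (hS : S.ShortExact) (s : S.X₃.obj.obj (op (iSup U)))
    (hlift : ∀ i, ∀ V ≤ U i, ∀ hV : V ≤ iSup U, ∃ t, S.g.hom.app (op V) t = rs S.X₃.obj hV s)
    (h1 : IsZero (CohTop.cechH S.X₁.obj U 1)) : ∃ t, S.g.hom.app (op (iSup U)) t = s := by
  choose t ht using fun a : Fin 1 → ι => hlift (a 0) _ (inter_le U a 0) ((inter_le U a 0).trans (le_iSup U _))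
  have ht' : cochMap U S.g.hom 0 t = cres U S.X₃.obj s := funext ht
  obtain ⟨e, he⟩ := exists_cochMap_f_of_g_eq_zero U hS 1 (cochD _ U 0 t)
    (by rw [← cochD_cochMap, ht', cochD_cres])
  obtain ⟨c, hc⟩ := (isZero_cechH_succ_iff _ U 0).1 h1 e
    (cochMap_f_injective U hS 2 (by rw [← cochD_cochMap, he, cochD_cochD, map_zero]))
  obtain ⟨t', ht''⟩ := exists_cres_of_cocycle U S.X₂ (t - cochMap U S.f.hom 0 c)
    (by rw [map_sub, cochD_cochMap, hc, he, sub_self])
  refine ⟨t', cres_injective U S.X₃ ?_⟩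
  rw [← cochMap_cres, ht'', map_sub, cochMap_g_f, sub_zero, ht']

lemma surjective_g_of_subsingleton_H1 (hS : S.ShortExact) (V : Opens X)
    (h : Subsingleton (E S.X₁ 1 V)) : Function.Surjective (S.g.hom.app (op V)) := fun s => by
  obtain ⟨y, hy⟩ := exact₃ hS (zero_add 1) V ((E₀ _ V).symm s) (Subsingleton.elim _ _)
  exact ⟨E₀ _ V y, by rw [← E₀_emap, hy, AddEquiv.apply_symm_apply]⟩

lemma surjective_g_of_refinement (hS : S.ShortExact) (W : Opens X)
    (h : ∀ (κ : Type u) (V : κ → Opens X), iSup V = W →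
      ∃ (μ : Type u) (V' : μ → Opens X), iSup V' = W ∧ (∀ i, ∃ k, V' i ≤ V k) ∧
        IsZero (CohTop.cechH S.X₁.obj V' 1)) :
    Function.Surjective (S.g.hom.app (op W)) := by
  intro s
  have := hS.epi_g
  obtain ⟨V, hV, t, hsup, ht⟩ := exists_local_preimage S.g W s
  obtain ⟨μ, V', hsup', href, h1⟩ := h _ V hsup
  subst hsup'
  refine lift_of_cover V' hS s (fun i O hO hOW => ?_) h1
  obtain ⟨k, hk⟩ := href i
  refine ⟨rs S.X₂.obj (hO.trans hk) (t k), ?_⟩
  refine (ConcreteCategory.congr_hom (S.g.hom.naturality _) (t k)).trans ?_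
  exact (congrArg _ (ht k)).trans (rs_rs _ _ _ _)

/-- Cartan's criterion relative to a basis and a class of coverings. -/
lemma cartan (B : Set (Opens X)) (Cov : ∀ (κ : Type u), (κ → Opens X) → Prop)
    (h1 : ∀ (κ : Type u) (V : κ → Opens X), Cov κ V →
      iSup V ∈ B ∧ ∀ (p : ℕ) (a : Fin (p + 1) → κ), (iInf fun k => V (a k)) ∈ B)
    (h2 : ∀ W ∈ B, ∀ (κ : Type u) (V : κ → Opens X), iSup V = W →
      ∃ (μ : Type u) (V' : μ → Opens X), Cov μ V' ∧ iSup V' = W ∧ ∀ i, ∃ k, V' i ≤ V k) :
    ∀ (p : ℕ) (F : CohTop.Ab X),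
      (∀ (κ : Type u) (V : κ → Opens X), Cov κ V → ∀ q, IsZero (CohTop.cechH F.obj V (q + 1))) →
      ∀ W ∈ B, Subsingleton (E F (p + 1) W) := by
  have hs : ∀ (F : CohTop.Ab X),
      (∀ (κ : Type u) (V : κ → Opens X), Cov κ V → ∀ q, IsZero (CohTop.cechH F.obj V (q + 1))) →
      ∀ W ∈ B, Function.Surjective ((injSES F).g.hom.app (op W)) := by
    intro F hF W hW
    refine surjective_g_of_refinement (injSES_shortExact F) W fun κ V hV => ?_
    obtain ⟨μ, V', hc, hsup, href⟩ := h2 W hW κ V hV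
    exact ⟨μ, V', hsup, href, hF μ V' hc 0⟩
  intro p
  induction p with
  | zero =>
    intro F hF W hW
    have hS := injSES_shortExact F
    have := subsingleton_E_of_injective (Injective.under F) 0 W
    refine subsingleton_of_forall_eq 0 fun x => ?_
    obtain ⟨y, rfl⟩ := exact₁ hS (zero_add 1) W x (Subsingleton.elim (α := E (Injective.under F) 1 W) _ _)
    obtain ⟨t, ht⟩ := hs F hF W hW (E₀ _ W y)
    rw [show y = emap (injSES F).g 0 W ((E₀ _ W).symm t) from (E₀ _ W).injective (by
      rw [E₀_emap, AddEquiv.apply_symm_apply]; exact ht.symm), δ_emap_g]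
  | succ p ih =>
    intro F hF W hW
    have hS := injSES_shortExact F
    have hI : TopCat.Sheaf.IsFlasque (injSES F).X₂ := isFlasque_of_injective (Injective.under F)
    have hG : ∀ (κ : Type u) (V : κ → Opens X), Cov κ V → ∀ q,
        IsZero (CohTop.cechH (injSES F).X₃.obj V (q + 1)) := by
      intro κ V hV q
      rw [isZero_cechH_succ_iff]
      intro g hg
      choose b hb using fun a : Fin (q + 2) → κ => hs F hF _ ((h1 κ V hV).2 _ a) (g a)
      have hb' : cochMap V (injSES F).g.hom (q + 1) b = g := funext hb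
      obtain ⟨e, he⟩ := exists_cochMap_f_of_g_eq_zero V hS (q + 2) (cochD _ V (q + 1) b)
        (by rw [← cochD_cochMap, hb', hg])
      obtain ⟨a, ha⟩ := (isZero_cechH_succ_iff _ V (q + 1)).1 (hF κ V hV (q + 1)) e
        (cochMap_f_injective V hS (q + 3) (by rw [← cochD_cochMap, he, cochD_cochD, map_zero]))
      obtain ⟨c, hc⟩ := (isZero_cechH_succ_iff _ V q).1
        (isZero_cechH_of_isFlasque V (injSES F).X₂ (h := hI) q) (b - cochMap V (injSES F).f.hom (q + 1) a)
        (by rw [map_sub, cochD_cochMap, ha, he, sub_self])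
      refine ⟨cochMap V (injSES F).g.hom q c, ?_⟩
      rw [cochD_cochMap, hc, map_sub, cochMap_g_f, sub_zero, hb']
    have := ih (injSES F).X₃ hG W hW
    exact (δ_bijective hS (rfl : p + 1 + 1 = p + 2) W (subsingleton_E_of_injective (Injective.under F) p W)
      (subsingleton_E_of_injective (Injective.under F) (p + 1) W)).2.subsingleton

section Compare

lemma cproj_map {P Q : (Opens X)ᵒᵖ ⥤ AddCommGrpCat.{u}} (φ : P ⟶ Q) (n : ℕ) (a : Fin (n + 1) → ι) :
    ((cechComplexFunctor U).map φ).f n ≫ cproj Q U n a = cproj P U n a ≫ φ.app _ := by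
  change Limits.Pi.map (fun b : Fin (n + 1) → ι => φ.app (op (∏ᶜ (U ∘ b)))) ≫ _ = _
  simp only [cproj]
  erw [Pi.map_π_assoc, Category.assoc, φ.naturality]
  rfl

lemma cochEquiv_map {P Q : (Opens X)ᵒᵖ ⥤ AddCommGrpCat.{u}} (φ : P ⟶ Q) (n : ℕ) (x : (cechCx P U).X n) :
    cochEquiv Q U n (((cechComplexFunctor U).map φ).f n x) = cochMap U φ n (cochEquiv P U n x) := by
  funext a
  change _ = φ.app _ (cochEquiv P U n x a)
  rw [cochEquiv_apply, cochEquiv_apply]
  exact ConcreteCategory.congr_hom (cproj_map U φ n a) x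

/-- The short complex of Cech complexes. -/
noncomputable abbrev cechSES (S : ShortComplex (CohTop.Ab X)) :
    ShortComplex (CochainComplex AddCommGrpCat.{u} ℕ) :=
  ShortComplex.mk ((cechComplexFunctor U).map S.f.hom) ((cechComplexFunctor U).map S.g.hom) (by
    ext n x
    apply (cochEquiv _ U n).injective
    change cochEquiv _ U n (((cechComplexFunctor U).map S.g.hom).f n (((cechComplexFunctor U).map S.f.hom).f n x)) = cochEquiv _ U n 0
    rw [cochEquiv_map, cochEquiv_map, cochMap_g_f, map_zero])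

lemma cechSES_shortExact (hS : S.ShortExact)
    (h : ∀ (n : ℕ) (a : Fin (n + 1) → ι), Function.Surjective (S.g.hom.app (op (inter U a)))) :
    (cechSES U S).ShortExact := by
  refine HomologicalComplex.shortExact_of_degreewise_shortExact _ fun n =>
    { exact := ?_, mono_f := ?_, epi_g := ?_ }
  · rw [ShortComplex.ab_exact_iff]
    intro b hb
    obtain ⟨a, ha⟩ := exists_cochMap_f_of_g_eq_zero U hS n (cochEquiv _ U n b)
      ((cochEquiv_map U S.g.hom n b).symm.trans ((congrArg (cochEquiv _ U n) hb).trans (map_zero _)))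
    obtain ⟨a, rfl⟩ := (cochEquiv _ U n).surjective a
    exact ⟨a, (cochEquiv _ U n).injective ((cochEquiv_map U S.f.hom n a).trans ha)⟩
  · rw [AddCommGrpCat.mono_iff_injective]
    intro a b hab
    exact (cochEquiv _ U n).injective (cochMap_f_injective U hS n
      ((cochEquiv_map U S.f.hom n a).symm.trans ((congrArg (cochEquiv _ U n) hab).trans (cochEquiv_map U S.f.hom n b))))
  · rw [AddCommGrpCat.epi_iff_surjective]
    intro c
    choose b hb using fun a => h n a (cochEquiv _ U n c a)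
    obtain ⟨b, rfl⟩ := (cochEquiv _ U n).surjective b
    exact ⟨b, (cochEquiv _ U n).injective ((cochEquiv_map U S.g.hom n b).trans (funext hb))⟩

/-- Restriction to the members, as a morphism to Cech cochains. -/
noncomputable def toCech₀ (P : (Opens X)ᵒᵖ ⥤ AddCommGrpCat.{u}) :
    P.obj (op (iSup U)) ⟶ (cechCx P U).X 0 :=
  AddCommGrpCat.ofHom ((cochEquiv P U 0).symm.toAddMonoidHom.comp (cres U P))

lemma cochEquiv_toCech₀ (P : (Opens X)ᵒᵖ ⥤ AddCommGrpCat.{u}) (s : P.obj (op (iSup U))) :
    cochEquiv P U 0 (toCech₀ U P s) = cres U P s :=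
  (cochEquiv P U 0).apply_symm_apply _

lemma toCech₀_d (P : (Opens X)ᵒᵖ ⥤ AddCommGrpCat.{u}) : toCech₀ U P ≫ (cechCx P U).d 0 1 = 0 := by
  ext s
  apply (cochEquiv P U 1).injective
  change cochEquiv P U 1 ((cechCx P U).d 0 1 (toCech₀ U P s)) = cochEquiv P U 1 0
  rw [cochEquiv_d, cochEquiv_toCech₀, cochD_cres, map_zero]

/-- Sections over the union map to degree zero Cech cohomology. -/
noncomputable def toH₀ (P : (Opens X)ᵒᵖ ⥤ AddCommGrpCat.{u}) :
    P.obj (op (iSup U)) ⟶ CohTop.cechH P U 0 :=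
  (cechCx P U).liftCycles (toCech₀ U P) 1 (by simp) (toCech₀_d U P) ≫ (cechCx P U).homologyπ 0

lemma toH₀_naturality {P Q : (Opens X)ᵒᵖ ⥤ AddCommGrpCat.{u}} (φ : P ⟶ Q) :
    φ.app _ ≫ toH₀ U Q = toH₀ U P ≫ HomologicalComplex.homologyMap ((cechComplexFunctor U).map φ) 0 := by
  rw [toH₀, toH₀, Category.assoc, HomologicalComplex.homologyπ_naturality, ← Category.assoc, ← Category.assoc]
  congr 1
  rw [HomologicalComplex.liftCycles_comp_cyclesMap, ← cancel_mono ((cechCx Q U).iCycles 0),
    Category.assoc, HomologicalComplex.liftCycles_i, HomologicalComplex.liftCycles_i]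
  ext s
  apply (cochEquiv Q U 0).injective
  change cochEquiv Q U 0 (toCech₀ U Q (φ.app _ s)) = cochEquiv Q U 0 (((cechComplexFunctor U).map φ).f 0 (toCech₀ U P s))
  rw [cochEquiv_map, cochEquiv_toCech₀, cochEquiv_toCech₀, cochMap_cres]

lemma toH₀_bijective (F : CohTop.Ab X) : Function.Bijective (toH₀ U F.obj) := by
  set K := cechCx F.obj U
  have hπ : Function.Bijective (K.homologyπ 0) := ConcreteCategory.bijective_of_isIso _
  have hi : Function.Injective (K.iCycles 0) := (AddCommGrpCat.mono_iff_injective _).1 inferInstance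
  have hc : ∀ s, K.iCycles 0 (K.liftCycles (toCech₀ U F.obj) 1 (by simp) (toCech₀_d U F.obj) s) =
      toCech₀ U F.obj s :=
    fun s => ConcreteCategory.congr_hom (K.liftCycles_i _ 1 _ _) s
  refine hπ.comp ⟨fun a b hab => cres_injective U F ?_, fun z => ?_⟩
  · rw [← cochEquiv_toCech₀, ← cochEquiv_toCech₀, ← hc, ← hc]
    exact congrArg (fun z => cochEquiv F.obj U 0 (K.iCycles 0 z)) hab
  · obtain ⟨s, hs⟩ := exists_cres_of_cocycle U F (cochEquiv _ U 0 (K.iCycles 0 z)) (by
      rw [← cochEquiv_d, ← ConcreteCategory.comp_apply, HomologicalComplex.iCycles_d]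
      exact map_zero _)
    refine ⟨s, hi ?_⟩
    exact (hc s).trans ((cochEquiv _ U 0).injective ((cochEquiv_toCech₀ U F.obj s).trans hs))

/-- Two surjections with the same kernel have isomorphic targets. -/
noncomputable def equivOfKerEq {A B C : Type u} [AddCommGroup A] [AddCommGroup B] [AddCommGroup C]
    (φ : A →+ B) (ψ : A →+ C) (hφ : Function.Surjective φ) (hψ : Function.Surjective ψ)
    (h : φ.ker = ψ.ker) : B ≃+ C :=
  (QuotientAddGroup.quotientKerEquivOfSurjective φ hφ).symm.trans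
    ((QuotientAddGroup.quotientAddEquivOfEq h).trans (QuotientAddGroup.quotientKerEquivOfSurjective ψ hψ))

/-- Cech cohomology of an acyclic family computes cohomology. -/
theorem cech_equiv (p : ℕ) : ∀ (F : CohTop.Ab X),
    (∀ (n : ℕ) (a : Fin (n + 1) → ι) (q : ℕ), Subsingleton (E F (q + 1) (inter U a))) →
    Nonempty (CohTop.cechH F.obj U p ≃+ E F p (iSup U)) := by
  induction p with
  | zero =>
    intro F _
    exact ⟨(AddEquiv.ofBijective (toH₀ U F.obj).hom (toH₀_bijective U F)).symm.trans (E₀ F (iSup U)).symm⟩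
  | succ p ih =>
    intro F hF
    have hS := injSES_shortExact F
    have hsurj := fun (n : ℕ) (a : Fin (n + 1) → ι) => surjective_g_of_subsingleton_H1 hS _ (hF n a 0)
    have hC := cechSES_shortExact U hS hsurj
    have : TopCat.Sheaf.IsFlasque (injSES F).X₂ := isFlasque_of_injective (Injective.under F)
    have hI : ∀ q, IsZero ((cechSES U (injSES F)).X₂.homology (q + 1)) := fun q =>
      isZero_cechH_of_isFlasque U (injSES F).X₂ q
    match p with
    | 0 =>
      have hIs : Subsingleton (E (injSES F).X₂ 1 (iSup U)) :=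
        subsingleton_E_of_injective (Injective.under F) 0 _
      let φ : (injSES F).X₃.obj.obj (op (iSup U)) →+ CohTop.cechH F.obj U 1 :=
        (toH₀ U (injSES F).X₃.obj ≫ hC.δ 0 1 rfl).hom
      let ψ : (injSES F).X₃.obj.obj (op (iSup U)) →+ E F 1 (iSup U) :=
        (δ hS (zero_add 1) (iSup U)).comp (E₀ _ (iSup U)).symm.toAddMonoidHom
      have hφ : Function.Surjective φ := by
        have : Epi (hC.δ 0 1 rfl) := hC.epi_δ 0 1 rfl (hI 0)
        exact ((AddCommGrpCat.epi_iff_surjective _).1 this).comp (toH₀_bijective U _).2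
      have hψ : Function.Surjective ψ := fun x => by
        obtain ⟨y, hy⟩ := exact₁ hS (zero_add 1) _ x (Subsingleton.elim (h := hIs) _ _)
        exact ⟨E₀ _ _ y, (congrArg _ ((E₀ _ _).symm_apply_apply y)).trans hy⟩
      refine ⟨equivOfKerEq φ ψ hφ hψ (AddSubgroup.ext fun s => ?_)⟩
      rw [AddMonoidHom.mem_ker, AddMonoidHom.mem_ker]
      constructor
      · intro hs
        obtain ⟨y, hy⟩ := (ShortComplex.ab_exact_iff _).1 (hC.homology_exact₃ 0 1 rfl) (toH₀ U _ s) hs
        obtain ⟨t, rfl⟩ := (toH₀_bijective U _).2 y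
        have h1 := ConcreteCategory.congr_hom (toH₀_naturality U (injSES F).g.hom) t
        rw [show s = (injSES F).g.hom.app _ t from (toH₀_bijective U _).1 (hy.symm.trans h1.symm)]
        change δ hS (zero_add 1) _ ((E₀ _ _).symm _) = 0
        rw [show (E₀ _ _).symm ((injSES F).g.hom.app _ t) = emap (injSES F).g 0 _ ((E₀ _ _).symm t) from
          (E₀ _ _).injective (by rw [E₀_emap, AddEquiv.apply_symm_apply, AddEquiv.apply_symm_apply]), δ_emap_g]
      · intro hs
        obtain ⟨y, hy⟩ := exact₃ hS (zero_add 1) _ ((E₀ _ _).symm s) hs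
        have hst : s = (injSES F).g.hom.app _ (E₀ _ _ y) := by
          rw [← E₀_emap, hy, AddEquiv.apply_symm_apply]
        have h1 := ConcreteCategory.congr_hom (toH₀_naturality U (injSES F).g.hom) (E₀ _ _ y)
        change hC.δ 0 1 rfl (toH₀ U _ s) = 0
        rw [hst]
        exact (congrArg _ h1).trans (ConcreteCategory.congr_hom (hC.comp_δ 0 1 rfl) _)
    | q + 1 =>
      have hG : ∀ (n : ℕ) (a : Fin (n + 1) → ι) (r : ℕ),
          Subsingleton (E (injSES F).X₃ (r + 1) (inter U a)) := fun n a r => by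
        have := hF n a (r + 1)
        exact (δ_bijective hS (rfl : r + 1 + 1 = r + 2) _ (subsingleton_E_of_injective (Injective.under F) r _)
          (subsingleton_E_of_injective (Injective.under F) (r + 1) _)).1.subsingleton
      obtain ⟨e⟩ := ih (injSES F).X₃ hG
      exact ⟨(hC.δIso (q + 1) (q + 2) rfl (hI q) (hI (q + 1))).addCommGroupIsoToAddEquiv.symm.trans
        (e.trans (AddEquiv.ofBijective _ (δ_bijective hS (rfl : q + 1 + 1 = q + 2) (iSup U)
          (subsingleton_E_of_injective (Injective.under F) q _)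
          (subsingleton_E_of_injective (Injective.under F) (q + 1) _))))⟩

end Compare

end Groth.Agent.TopCoh49
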