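import Groth.Agent.TopCoh49.Basic2
import Groth.Agent.TopCoh49.CechCoh
import Groth.Agent.TopCoh49.Top

universe u

open CategoryTheory Limits TopologicalSpace Opposite Abelian

namespace Groth.Agent.TopCoh49

variable {X Y : TopCat.{u}}

/-- Comparison of cohomology along a functor which is exact on a class of sheaves. -/
theorem compare_E (Φ : CohTop.Ab X ⥤ CohTop.Ab Y) [Φ.PreservesZeroMorphisms]
    (Good : CohTop.Ab X → Prop) (hex : ∀ F, Good F → ((injSES F).map Φ).ShortExact)
    (hgood : ∀ F, Good F → Good (injSES F).X₃)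
    (hfl : ∀ I : CohTop.Ab X, Injective I → TopCat.Sheaf.IsFlasque (Φ.obj I))
    (V : Opens X) (W : Opens Y) (e : ∀ F : CohTop.Ab X, F.obj.obj (op V) ≃+ (Φ.obj F).obj.obj (op W))
    (he : ∀ {F G : CohTop.Ab X} (g : F ⟶ G) (s : F.obj.obj (op V)),
      e G (g.hom.app (op V) s) = (Φ.map g).hom.app (op W) (e F s)) :
    ∀ (p : ℕ) (F : CohTop.Ab X), Good F → Nonempty (E F p V ≃+ E (Φ.obj F) p W) := by
  intro p
  induction p with
  | zero => exact fun F _ => ⟨((E₀ F V).trans (e F)).trans (E₀ _ W).symm⟩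
  | succ p ih =>
    intro F hF
    have hS := injSES_shortExact F
    have hS' := hex F hF
    have : TopCat.Sheaf.IsFlasque ((injSES F).map Φ).X₂ := hfl _ (inferInstanceAs (Injective (Injective.under F)))
    have h2 := fun q => subsingleton_E_of_injective (Injective.under F) q V
    have h2' := fun q => subsingleton_E_of_isFlasque q ((injSES F).map Φ).X₂ W
    match p with
    | 0 =>
      let φ : E (injSES F).X₃ 0 V →+ E F 1 V := δ hS (zero_add 1) V
      let e₃ : (injSES F).X₃.obj.obj (op V) ≃+ ((injSES F).map Φ).X₃.obj.obj (op W) := e (injSES F).X₃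
      let e₂ : (injSES F).X₂.obj.obj (op V) ≃+ ((injSES F).map Φ).X₂.obj.obj (op W) := e (injSES F).X₂
      have he' : ∀ s, e₃ ((injSES F).g.hom.app (op V) s) = ((injSES F).map Φ).g.hom.app (op W) (e₂ s) :=
        fun s => he (injSES F).g s
      let ψ₀ : E (injSES F).X₃ 0 V ≃+ E ((injSES F).map Φ).X₃ 0 W :=
        ((E₀ _ V).trans e₃).trans (E₀ _ W).symm
      let ψ : E (injSES F).X₃ 0 V →+ E (Φ.obj F) 1 W := (δ hS' (zero_add 1) W).comp ψ₀.toAddMonoidHom
      have hφ : Function.Surjective φ := fun x => exact₁ hS (zero_add 1) V x ((h2 0).elim _ _)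
      have hψ : Function.Surjective ψ := fun x => by
        obtain ⟨y, hy⟩ := exact₁ hS' (zero_add 1) W x ((h2' 0).elim _ _)
        obtain ⟨y, rfl⟩ := ψ₀.surjective y
        exact ⟨y, hy⟩
      refine ⟨equivOfKerEq φ ψ hφ hψ (AddSubgroup.ext fun s => ?_)⟩
      have key : ∀ y : E (injSES F).X₂ 0 V, ψ₀ (emap (injSES F).g 0 V y) =
          emap ((injSES F).map Φ).g 0 W ((((E₀ _ V).trans e₂).trans (E₀ _ W).symm) y) := fun y => by
        apply (E₀ ((injSES F).map Φ).X₃ W).injective
        simp only [ψ₀, AddEquiv.trans_apply, AddEquiv.apply_symm_apply]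
        rw [E₀_emap, E₀_emap, he', AddEquiv.apply_symm_apply]
      rw [AddMonoidHom.mem_ker, AddMonoidHom.mem_ker]
      constructor
      · intro hs
        obtain ⟨y, rfl⟩ := exact₃ hS (zero_add 1) V s hs
        change δ hS' (zero_add 1) W (ψ₀ _) = 0
        rw [key]
        exact δ_emap_g hS' _ _ _
      · intro hs
        obtain ⟨y, hy⟩ := exact₃ hS' (zero_add 1) W (ψ₀ s) hs
        obtain ⟨z, rfl⟩ := (((E₀ _ V).trans e₂).trans (E₀ _ W).symm).surjective y
        rw [show s = emap (injSES F).g 0 V z from ψ₀.injective (hy.symm.trans (key z).symm)]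
        exact δ_emap_g hS _ _ _
    | q + 1 =>
      obtain ⟨ε⟩ := ih (injSES F).X₃ (hgood F hF)
      exact ⟨((AddEquiv.ofBijective _ (δ_bijective hS (rfl : q + 1 + 1 = q + 2) V (h2 q) (h2 (q + 1)))).symm.trans ε).trans
        (AddEquiv.ofBijective _ (δ_bijective hS' (rfl : q + 1 + 1 = q + 2) W (h2' q) (h2' (q + 1))))⟩

section Push

variable (f : X ⟶ Y)

/-- All higher cohomology along `f` vanishes locally on the target. -/
def LocallyAcyclic (F : CohTop.Ab X) : Prop :=
  ∀ (q : ℕ) (U : Opens Y) (s : E F (q + 1) ((Opens.map f).obj U)) (y : Y), y ∈ U →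
    ∃ (V : Opens Y) (hV : V ≤ U), y ∈ V ∧ eres F (q + 1) ((Opens.map f).monotone hV) s = 0

lemma locally_zero_of_isZero_sheafify (P : (Opens X)ᵒᵖ ⥤ AddCommGrpCat.{u})
    (h : IsZero ((presheafToSheaf (Opens.grothendieckTopology X) AddCommGrpCat.{u}).obj P))
    (U : Opens X) (s : P.obj (op U)) (x : X) (hx : x ∈ U) :
    ∃ (V : Opens X) (hV : V ≤ U), x ∈ V ∧ P.map (homOfLE hV).op s = 0 := by
  set J := Opens.grothendieckTopology X
  have : Presheaf.IsLocallyInjective J (toSheafify J P) := inferInstance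
  have he : (toSheafify J P).app (op U) s = (toSheafify J P).app (op U) 0 := by
    have := AddCommGrpCat.subsingleton_of_isZero
      (((sheafToPresheaf J AddCommGrpCat.{u}) ⋙ (evaluation _ _).obj (op U)).map_isZero h)
    exact this.elim _ _
  obtain ⟨V, i, hi, hxV⟩ := Presheaf.equalizerSieve_mem J (toSheafify J P) s 0 he x hx
  exact ⟨V, leOfHom i, hxV, hi.trans (map_zero _)⟩

lemma locallyAcyclic_of_isZero_Rpush (F : CohTop.Ab X)
    (h : ∀ q, IsZero ((CohTop.Rpush f (q + 1)).obj F)) : LocallyAcyclic f F := fun q U s y hy =>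
  locally_zero_of_isZero_sheafify (hPre f F (q + 1)) (IsZero.of_iso (h q) (RpushIso f F (q + 1)).symm) U s y hy

lemma locallyAcyclic_X₃ (F : CohTop.Ab X) (h : LocallyAcyclic f F) :
    LocallyAcyclic f (injSES F).X₃ := by
  intro q U s y hy
  have hS := injSES_shortExact F
  obtain ⟨V, hV, hyV, h0⟩ := h (q + 1) U (δ hS (rfl : q + 1 + 1 = q + 2) _ s) y hy
  refine ⟨V, hV, hyV, (δ_bijective hS (rfl : q + 1 + 1 = q + 2) _
    (subsingleton_E_of_injective (Injective.under F) q _)
    (subsingleton_E_of_injective (Injective.under F) (q + 1) _)).1 ?_⟩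
  exact (eres_δ hS (rfl : q + 1 + 1 = q + 2) _ s).symm.trans (h0.trans (map_zero _).symm)

lemma epi_of_locally_surjective {F G : CohTop.Ab X} (g : F ⟶ G)
    (h : ∀ (U : Opens X) (s : G.obj.obj (op U)) (x : X), x ∈ U →
      ∃ (V : Opens X) (hV : V ≤ U), x ∈ V ∧ ∃ t, g.hom.app (op V) t = G.obj.map (homOfLE hV).op s) : Epi g := by
  refine (Sheaf.isLocallySurjective_iff_epi' AddCommGrpCat.{u} g).1
    ((TopCat.Presheaf.isLocallySurjective_iff g.hom).2 fun U s x hx => ?_)
  obtain ⟨V, hV, hxV, t, ht⟩ := h U s x hx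
  exact ⟨V, hV, ⟨t, ht⟩, hxV⟩

lemma push_shortExact (F : CohTop.Ab X) (h : LocallyAcyclic f F) :
    ((injSES F).map (CohTop.push f)).ShortExact := by
  have hS := injSES_shortExact F
  have := hS.mono_f
  have : PreservesLimitsOfSize.{0, 0} (CohTop.push f) :=
    (TopCat.Sheaf.pullbackPushforwardAdjunction AddCommGrpCat.{u} f).rightAdjoint_preservesLimits
  exact
    { exact := ShortComplex.exact_of_f_is_kernel _ (KernelFork.mapIsLimit _ hS.fIsKernel (CohTop.push f))
      mono_f := (CohTop.push f).map_mono (injSES F).f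
      epi_g := epi_of_locally_surjective _ fun U s y hy => by
        obtain ⟨V, hV, hyV, h0⟩ := h 0 U
          (δ hS (zero_add 1) _ ((E₀ (injSES F).X₃ ((Opens.map f).obj U)).symm s)) y hy
        erw [eres_δ] at h0
        obtain ⟨z, hz⟩ := exact₃ hS (zero_add 1) _ _ h0
        refine ⟨V, hV, hyV, E₀ (injSES F).X₂ ((Opens.map f).obj V) z, ?_⟩
        exact ((E₀_emap (injSES F).g _ z).symm.trans (congrArg (E₀ _ _) hz)).trans
          ((E₀_eres _ _ _).trans (congrArg _ ((E₀ (injSES F).X₃ ((Opens.map f).obj U)).apply_symm_apply s))) }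

/-- Cohomology of an acyclic direct image. -/
theorem push_compare (F : CohTop.Ab X) (h : LocallyAcyclic f F) (p : ℕ) (V : Opens Y) :
    Nonempty (E F p ((Opens.map f).obj V) ≃+ E ((CohTop.push f).obj F) p V) :=
  compare_E (CohTop.push f) (LocallyAcyclic f) (push_shortExact f) (locallyAcyclic_X₃ f)
    (fun I hI => @TopCat.Sheaf.IsFlasque.pushforward_isFlasque _ _ _ _ I (@isFlasque_of_injective _ I hI) f)
    _ V (fun _ => AddEquiv.refl _) (fun _ _ => rfl) p F h

theorem push_compare_H (F : CohTop.Ab X) (h : LocallyAcyclic f F) (p : ℕ) :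
    Nonempty (CohTop.H F p ≃+ CohTop.H ((CohTop.push f).obj F) p) := by
  obtain ⟨e⟩ := push_compare f F h p ⊤
  exact ⟨((HEquivTop F p).trans (show E F p ⊤ ≃+ _ from e)).trans (HEquivTop _ p).symm⟩

end Push

section Restrict

variable (U : Opens X)

/-- The image of an open of the subspace `U`. -/
abbrev imOpen (W : Opens (TopCat.of U)) : Opens X :=
  (U.isOpenEmbedding.isOpenMap.functor).obj W

lemma restr_shortExact {S : ShortComplex (CohTop.Ab X)} (hS : S.ShortExact) :
    (S.map (CohTop.restrFunctor U)).ShortExact := by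
  have := hS.mono_f
  have hinj : ∀ W, Function.Injective (((CohTop.restrFunctor U).map S.f).hom.app (op W)) := fun W =>
    app_f_injective hS (imOpen U W)
  have hm : Mono ((CohTop.restrFunctor U).map S.f) := by
    have : ∀ W, Mono (((CohTop.restrFunctor U).map S.f).hom.app W) := fun W =>
      (AddCommGrpCat.mono_iff_injective _).2 (hinj W.unop)
    have : Mono ((CohTop.restrFunctor U).map S.f).hom := NatTrans.mono_of_mono_app _
    exact (sheafToPresheaf _ _).mono_of_mono_map this
  refine { exact := ?_, mono_f := hm, epi_g := ?_ }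
  · apply ShortComplex.exact_of_f_is_kernel
    let G := sheafToPresheaf (Opens.grothendieckTopology X) AddCommGrpCat.{u} ⋙
      (Functor.whiskeringLeft _ _ AddCommGrpCat.{u}).obj (U.isOpenEmbedding.isOpenMap.functor).op
    let T := sheafToPresheaf (Opens.grothendieckTopology (TopCat.of U)) AddCommGrpCat.{u}
    have hT : T.PreservesZeroMorphisms := ⟨fun _ _ => rfl⟩
    refine isLimitOfReflects T ?_
    exact (KernelFork.isLimitMapConeEquiv _ T).symm (KernelFork.mapIsLimit _ hS.fIsKernel G)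
  · have := hS.epi_g
    refine epi_of_locally_surjective _ fun W s x hx => ?_
    obtain ⟨V, hV, t, hsup, ht⟩ := exists_local_preimage S.g (imOpen U W) s
    obtain ⟨i, hi⟩ := Opens.mem_iSup.1 (hsup.ge (show (x : X) ∈ imOpen U W from ⟨x, hx, rfl⟩))
    let W' : Opens (TopCat.of U) := ⟨Subtype.val ⁻¹' (V i : Set X), (V i).2.preimage continuous_subtype_val⟩
    have hW' : W' ≤ W := fun z hz => by
      obtain ⟨z', hz', he⟩ := hV i hz
      obtain rfl := Subtype.val_injective he
      exact hz'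
    have hle : imOpen U W' ≤ V i := by
      rintro _ ⟨z, hz, rfl⟩
      exact hz
    refine ⟨W', hW', hi, rs S.X₂.obj hle (t i), ?_⟩
    refine (ConcreteCategory.congr_hom (S.g.hom.naturality _) (t i)).trans ?_
    exact (congrArg _ (ht i)).trans (rs_rs S.X₃.obj (hV i) hle s)

lemma isFlasque_restr (F : CohTop.Ab X) [h : TopCat.Sheaf.IsFlasque F] :
    TopCat.Sheaf.IsFlasque (CohTop.restr F U) where
  epi {_ _} _ := h.epi _

theorem restr_compare (F : CohTop.Ab X) (p : ℕ) (W : Opens (TopCat.of U)) :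
    Nonempty (E F p (imOpen U W) ≃+ E (CohTop.restr F U) p W) :=
  compare_E (CohTop.restrFunctor U) (fun _ => True) (fun F _ => restr_shortExact U (injSES_shortExact F))
    (fun _ _ => trivial) (fun I hI => @isFlasque_restr _ U I (@isFlasque_of_injective _ I hI))
    (imOpen U W) W (fun _ => AddEquiv.refl _) (fun _ _ => rfl) p F trivial

lemma imOpen_top : imOpen U (⊤ : Opens (TopCat.of U)) = U :=
  Opens.ext (Set.ext fun _ => ⟨fun ⟨z, _, hz⟩ => hz ▸ z.2, fun hx => ⟨⟨_, hx⟩, trivial, rfl⟩⟩)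

theorem restr_compare_H (F : CohTop.Ab X) (p : ℕ) :
    Nonempty (E F p U ≃+ CohTop.H (CohTop.restr F U) p) := by
  obtain ⟨e⟩ := restr_compare U F p ⊤
  rw [imOpen_top] at e
  exact ⟨e.trans (HEquivTop _ p).symm⟩

end Restrict

end Groth.Agent.TopCoh49
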