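import Groth.Agent.TopCoh49.AcyclicHom
import Groth.Agent.TopCoh49.Compare

/-!
# Degenerate Leray
-/

set_option autoImplicit false
set_option linter.style.haveILetI false
universe u

open CategoryTheory Limits TopologicalSpace Opposite Abelian

namespace Groth.Agent.TopCoh49

variable {X Y : TopCat.{u}}

/-- Global sections. -/
noncomputable abbrev gammaTop (Y : TopCat.{u}) : CohTop.Ab Y ⥤ AddCommGrpCat.{u} :=
  sheafToPresheaf _ _ ⋙ (evaluation _ _).obj (op (⊤ : Opens Y))

instance preservesFiniteLimits_gammaTop (Y : TopCat.{u}) : PreservesFiniteLimits (gammaTop Y) :=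
  comp_preservesFiniteLimits _ _

/-- Sheaves without higher cohomology. -/
noncomputable def acTop (Y : TopCat.{u}) : AcClass (gammaTop Y) where
  Ac F := ∀ p, Subsingleton (E F (p + 1) (⊤ : Opens Y))
  exact S hS h1 := by
    haveI := hS.mono_f
    haveI : PreservesFiniteLimits (gammaTop Y) := preservesFiniteLimits_gammaTop Y
    exact
      { exact := ShortComplex.exact_of_f_is_kernel _ (KernelFork.mapIsLimit _ hS.fIsKernel (gammaTop Y))
        mono_f := (gammaTop Y).map_mono S.f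
        epi_g := by
          rw [AddCommGrpCat.epi_iff_surjective]
          intro s
          obtain ⟨y, hy⟩ := exact₃ hS (zero_add 1) ⊤ ((E₀ S.X₃ ⊤).symm s) ((h1 0).elim _ _)
          exact ⟨E₀ S.X₂ ⊤ y, (E₀_emap S.g ⊤ y).symm.trans
            ((congrArg (E₀ S.X₃ ⊤) hy).trans ((E₀ S.X₃ ⊤).apply_symm_apply s))⟩ }
  ac₂ S hS h1 h3 p := subsingleton_of_forall_eq 0 fun x => by
    obtain ⟨y, rfl⟩ := exact₂ hS (p + 1) ⊤ x ((h3 p).elim _ _)
    rw [(h1 p).elim y 0, map_zero]
  ac₃ S hS h1 h2 p := subsingleton_of_forall_eq 0 fun x => by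
    obtain ⟨y, rfl⟩ := exact₃ hS (rfl : p + 1 + 1 = p + 2) ⊤ x ((h1 (p + 1)).elim _ _)
    rw [(h2 p).elim y 0, map_zero]
  zero Z hZ p := subsingleton_of_forall_eq 0 fun x => by
    rw [← Ext.comp_mk₀_id x, (IsZero.iff_id_eq_zero _).1 hZ, Ext.mk₀_zero, Ext.comp_zero]

theorem subsingleton_E_of_iso {F G : CohTop.Ab Y} (e : F ≅ G) (p : ℕ) (U : Opens Y)
    (h : Subsingleton (E F p U)) : Subsingleton (E G p U) :=
  subsingleton_of_forall_eq 0 fun x => by
    rw [← Ext.comp_mk₀_id x, ← e.inv_hom_id, ← Ext.mk₀_comp_mk₀,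
      ← Ext.comp_assoc _ _ _ (add_zero p) (add_zero 0) (by simp),
      h.elim (x.comp (Ext.mk₀ e.inv) (add_zero p)) 0, Ext.zero_comp]

theorem nonempty_leray_degenerate (f : X ⟶ Y) (F : CohTop.Ab X)
    (h : ∀ p q : ℕ, Subsingleton (CohTop.H ((CohTop.Rpush f q).obj F) (p + 1))) (q : ℕ) :
    Nonempty (CohTop.H F q ≃+ ((CohTop.Rpush f q).obj F).obj.obj (op ⊤)) := by
  let R := injectiveResolution F
  let K := ((CohTop.push f).mapHomologicalComplex (ComplexShape.up ℕ)).obj R.cocomplex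
  let e : ∀ n, K.homology n ≅ (CohTop.Rpush f n).obj F := fun n => (R.isoRightDerivedObj _ n).symm
  have hX : ∀ n, (acTop Y).Ac (K.X n) := fun n p => by
    haveI : TopCat.Sheaf.IsFlasque (K.X n) := @TopCat.Sheaf.IsFlasque.pushforward_isFlasque _ _ _ _
      (R.cocomplex.X n) (isFlasque_of_injective (R.cocomplex.X n)) f
    exact subsingleton_E_of_isFlasque p _ ⊤
  have hH : ∀ n, (acTop Y).Ac (K.homology n) := fun n p =>
    subsingleton_E_of_iso (e n).symm (p + 1) ⊤
      (haveI := h p n; (HEquivTop ((CohTop.Rpush f n).obj F) (p + 1)).symm.toEquiv.subsingleton)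
  obtain ⟨i⟩ := nonempty_obj_homology_iso (acTop Y) K hX hH q
  let W := (evaluation ((Opens X)ᵒᵖ) AddCommGrpCat.{u}).obj (op (⊤ : Opens X))
  let j : (((gammaTop Y).mapHomologicalComplex _).obj K).homology q ≅ (extPre (freeFun X) F q).obj (op ⊤) :=
    ((preCx R).sc q).mapHomologyIso W ≪≫ W.mapIso (preCxHomologyIso R q)
  exact ⟨((HEquivTop F q).trans (j.addCommGroupIsoToAddEquiv.symm)).trans
    ((i.symm ≪≫ (gammaTop Y).mapIso (e q)).addCommGroupIsoToAddEquiv)⟩

end Groth.Agent.TopCoh49
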