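import Groth.Agent.TopCoh49.Free

universe u

open CategoryTheory Limits TopologicalSpace Opposite Abelian

namespace Groth.Agent.TopCoh49

variable {X : TopCat.{u}}

lemma subsingleton_E_of_injective (F : CohTop.Ab X) [Injective F] (n : ℕ) (U : Opens X) :
    Subsingleton (E F (n + 1) U) :=
  subsingleton_of_forall_eq 0 fun x ↦ Ext.eq_zero_of_injective x

section LES

variable {S : ShortComplex (CohTop.Ab X)} (hS : S.ShortExact)

/-- The connecting map in cohomology over an open. -/
noncomputable def δ {n m : ℕ} (h : n + 1 = m) (U : Opens X) : E S.X₃ n U →+ E S.X₁ m U :=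
  hS.extClass.postcomp (freeU U) h

lemma eres_δ {n m : ℕ} (h : n + 1 = m) {U V : Opens X} (hVU : V ≤ U) (x : E S.X₃ n U) :
    eres S.X₁ m hVU (δ hS h U x) = δ hS h V (eres S.X₃ n hVU x) :=
  (Ext.comp_assoc _ _ _ (zero_add n) h (by omega)).symm

include hS in
lemma exact₁ {n m : ℕ} (h : n + 1 = m) (U : Opens X) (x : E S.X₁ m U)
    (hx : emap S.f m U x = 0) : ∃ y, δ hS h U y = x :=
  Ext.covariant_sequence_exact₁ (freeU U) hS x hx h

include hS in
lemma exact₂ (n : ℕ) (U : Opens X) (x : E S.X₂ n U)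
    (hx : emap S.g n U x = 0) : ∃ y, emap S.f n U y = x :=
  Ext.covariant_sequence_exact₂ (freeU U) hS x hx

lemma exact₃ {n m : ℕ} (h : n + 1 = m) (U : Opens X) (x : E S.X₃ n U)
    (hx : δ hS h U x = 0) : ∃ y, emap S.g n U y = x :=
  Ext.covariant_sequence_exact₃ (freeU U) hS x h hx

lemma δ_emap_g {n m : ℕ} (h : n + 1 = m) (U : Opens X) (y : E S.X₂ n U) :
    δ hS h U (emap S.g n U y) = 0 := by
  simp [δ, Ext.comp_assoc_of_second_deg_zero]

lemma emap_f_δ {n m : ℕ} (h : n + 1 = m) (U : Opens X) (y : E S.X₃ n U) :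
    emap S.f m U (δ hS h U y) = 0 := by
  simp [δ, Ext.comp_assoc_of_third_deg_zero]

lemma δ_bijective {n m : ℕ} (h : n + 1 = m) (U : Opens X)
    (h₂ : Subsingleton (E S.X₂ n U)) (h₂' : Subsingleton (E S.X₂ m U)) :
    Function.Bijective (δ hS h U) := by
  refine ⟨(injective_iff_map_eq_zero _).2 fun x hx => ?_, fun x => exact₁ hS h U x (Subsingleton.elim _ _)⟩
  obtain ⟨y, rfl⟩ := exact₃ hS h U x hx
  rw [Subsingleton.elim y 0, map_zero]

end LES

/-- An injective embedding, as a short exact sequence. -/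
noncomputable abbrev injSES (F : CohTop.Ab X) : ShortComplex (CohTop.Ab X) :=
  ShortComplex.mk (Injective.ι F) (cokernel.π _) (cokernel.condition _)

lemma injSES_shortExact (F : CohTop.Ab X) : (injSES F).ShortExact where
  exact := ShortComplex.exact_cokernel _

lemma subsingleton_E_of_isFlasque : ∀ (n : ℕ) (F : CohTop.Ab X) [TopCat.Sheaf.IsFlasque F]
    (U : Opens X), Subsingleton (E F (n + 1) U) := by
  intro n
  induction n with
  | zero =>
    intro F hF U
    refine subsingleton_of_forall_eq 0 fun x => ?_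
    have hS := injSES_shortExact F
    have := subsingleton_E_of_injective (Injective.under F) 0 U
    obtain ⟨y, rfl⟩ := exact₁ hS (zero_add 1) U x (Subsingleton.elim (α := E (Injective.under F) 1 U) _ _)
    have : TopCat.Sheaf.IsFlasque (injSES F).X₁ := hF
    obtain ⟨t, ht⟩ := (AddCommGrpCat.epi_iff_surjective _).1
      (TopCat.Sheaf.IsFlasque.epi_of_shortExact (U := U) hS) (E₀ _ U y)
    have : emap (injSES F).g 0 U ((E₀ _ U).symm t) = y := by
      apply (E₀ _ U).injective
      rw [E₀_emap, AddEquiv.apply_symm_apply]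
      exact ht
    rw [← this, δ_emap_g]
  | succ n ih =>
    intro F hF U
    have hS := injSES_shortExact F
    have : TopCat.Sheaf.IsFlasque (injSES F).X₁ := hF
    have : TopCat.Sheaf.IsFlasque (injSES F).X₂ := isFlasque_of_injective (Injective.under F)
    have := TopCat.Sheaf.IsFlasque.of_shortExact_of_isFlasque₁₂ hS
    have := ih (injSES F).X₃ U
    have hb := δ_bijective hS (rfl : n + 1 + 1 = n + 2) U
      (subsingleton_E_of_injective (Injective.under F) n U)
      (subsingleton_E_of_injective (Injective.under F) (n+1) U)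
    exact hb.2.subsingleton

lemma exists_local_preimage {F G : CohTop.Ab X} (g : F ⟶ G) [Epi g] (U : Opens X)
    (s : G.obj.obj (op U)) :
    ∃ (V : U → Opens X) (hV : ∀ x, V x ≤ U) (t : ∀ x, F.obj.obj (op (V x))),
      iSup V = U ∧ ∀ x, g.hom.app (op (V x)) (t x) = G.obj.map (homOfLE (hV x)).op s := by
  have h := (TopCat.Presheaf.isLocallySurjective_iff g.hom).mp
    ((Sheaf.isLocallySurjective_iff_epi' AddCommGrpCat.{u} g).2 inferInstance) U s
  choose V hV t hxV using fun x : U => h x.1 x.2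
  refine ⟨V, hV, fun x => (t x).choose, ?_, fun x => (t x).choose_spec⟩
  exact le_antisymm (iSup_le hV) fun x hx => Opens.mem_iSup.2 ⟨⟨x, hx⟩, hxV ⟨x, hx⟩⟩

lemma kill_class : ∀ (n : ℕ) (F : CohTop.Ab X) (U : Opens X) (ξ : E F (n + 1) U),
    ∃ (V : U → Opens X) (hV : ∀ i, V i ≤ U), iSup V = U ∧
      ∀ i, eres F (n + 1) (hV i) ξ = 0 := by
  intro n
  induction n with
  | zero =>
    intro F U ξ
    have hS := injSES_shortExact F
    have := subsingleton_E_of_injective (Injective.under F) 0 U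
    obtain ⟨y, rfl⟩ := exact₁ hS (zero_add 1) U ξ (Subsingleton.elim (α := E (Injective.under F) 1 U) _ _)
    obtain ⟨V, hV, t, hsup, ht⟩ := exists_local_preimage (injSES F).g U (E₀ _ U y)
    refine ⟨V, hV, hsup, fun i => ?_⟩
    change eres (injSES F).X₁ 1 (hV i) (δ hS (zero_add 1) U y) = 0
    rw [eres_δ]
    have : emap (injSES F).g 0 _ ((E₀ _ _).symm (t i)) = eres _ 0 (hV i) y := by
      apply (E₀ _ _).injective
      rw [E₀_emap, AddEquiv.apply_symm_apply, E₀_eres]
      exact ht i
    rw [← this, δ_emap_g]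
  | succ n ih =>
    intro F U ξ
    have hS := injSES_shortExact F
    have := subsingleton_E_of_injective (Injective.under F) (n + 1) U
    obtain ⟨y, rfl⟩ := exact₁ hS (rfl : n + 1 + 1 = _) U ξ (Subsingleton.elim (α := E (Injective.under F) (n + 2) U) _ _)
    obtain ⟨V, hV, hsup, h0⟩ := ih _ U y
    refine ⟨V, hV, hsup, fun i => ?_⟩
    change eres (injSES F).X₁ (n + 2) (hV i) (δ hS (rfl : n + 1 + 1 = n + 2) U y) = 0
    rw [eres_δ, h0, map_zero]

end Groth.Agent.TopCoh49
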