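import Groth.Agent.TopCoh49.ColimSec
import Groth.Agent.TopCoh49.CechCoh
import Mathlib.CategoryTheory.Abelian.GrothendieckCategory.EnoughInjectives
import Mathlib.CategoryTheory.Abelian.GrothendieckAxioms.Basic
import Mathlib.Topology.Sheaves.Abelian
import Mathlib.CategoryTheory.Abelian.FunctorCategory

/-!
Cohomology over compact opens commutes with filtered colimits of abelian sheaves.
-/

universe u

open CategoryTheory Limits TopologicalSpace Opposite Abelian MorphismProperty ZeroObject

namespace Groth.Agent.TopCoh49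

variable {X : TopCat.{u}}

/-- A functorial factorization providing injective embeddings. -/
noncomputable def injData (X : TopCat.{u}) :
    FunctorialFactorizationData (monomorphisms (CohTop.Ab X)) (monomorphisms (CohTop.Ab X)).rlp :=
  functorialFactorizationData _ _

/-- The morphisms to zero, as a functor. -/
noncomputable def toZeroFun (X : TopCat.{u}) : CohTop.Ab X ⥤ Arrow (CohTop.Ab X) where
  obj F := Arrow.mk (0 : F ⟶ 0)
  map g := Arrow.homMk g (𝟙 _) (by simp)

/-- A functorial injective embedding: the target. -/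
noncomputable def injFun (X : TopCat.{u}) : CohTop.Ab X ⥤ CohTop.Ab X := toZeroFun X ⋙ (injData X).Z

/-- A functorial injective embedding: the map. -/
noncomputable def injEmb (X : TopCat.{u}) : 𝟭 (CohTop.Ab X) ⟶ injFun X :=
  Functor.whiskerLeft (toZeroFun X) (injData X).i

instance mono_injEmb (F : CohTop.Ab X) : Mono ((injEmb X).app F) := (injData X).hi _

instance injective_injFun (F : CohTop.Ab X) : Injective ((injFun X).obj F) := by
  refine (injective_iff_rlp_monomorphisms_zero _).2 ?_
  exact cast (congrArg (fun q => (monomorphisms (CohTop.Ab X)).rlp q)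
    ((isZero_zero (CohTop.Ab X)).eq_of_tgt _ _)) ((injData X).hp ((toZeroFun X).obj F))

variable {I : Type u} [SmallCategory I]

/-- The short exact sequence of diagrams embedding a diagram into injectives. -/
noncomputable def diagSES (F : I ⥤ CohTop.Ab X) : ShortComplex (I ⥤ CohTop.Ab X) :=
  ShortComplex.mk (Functor.whiskerLeft F (injEmb X)) (cokernel.π _) (cokernel.condition _)

lemma diagSES_shortExact (F : I ⥤ CohTop.Ab X) : (diagSES F).ShortExact := by
  have : ∀ i, Mono ((diagSES F).f.app i) := fun i => mono_injEmb (F.obj i)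
  exact { exact := ShortComplex.exact_cokernel _, mono_f := NatTrans.mono_of_mono_app _,
          epi_g := by unfold diagSES; infer_instance }

lemma diagSES_eval_shortExact (F : I ⥤ CohTop.Ab X) (i : I) :
    ((diagSES F).map ((evaluation I (CohTop.Ab X)).obj i)).ShortExact :=
  (diagSES_shortExact F).map_of_exact _

lemma diagSES_colim_shortExact [IsFiltered I] (F : I ⥤ CohTop.Ab X) :
    ((diagSES F).map (colim : (I ⥤ CohTop.Ab X) ⥤ CohTop.Ab X)).ShortExact :=
  (diagSES_shortExact F).map_of_exact _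

/-- The map from a stage to the colimit short exact sequence. -/
noncomputable def diagToColim (F : I ⥤ CohTop.Ab X) (i : I) :
    (diagSES F).map ((evaluation I (CohTop.Ab X)).obj i) ⟶ (diagSES F).map colim where
  τ₁ := colimit.ι (diagSES F).X₁ i
  τ₂ := colimit.ι (diagSES F).X₂ i
  τ₃ := colimit.ι (diagSES F).X₃ i
  comm₁₂ := colimit.ι_map (diagSES F).f i
  comm₂₃ := colimit.ι_map (diagSES F).g i

/-- The map between stages. -/
noncomputable def diagTrans (F : I ⥤ CohTop.Ab X) {i j : I} (f : i ⟶ j) :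
    (diagSES F).map ((evaluation I (CohTop.Ab X)).obj i) ⟶
      (diagSES F).map ((evaluation I (CohTop.Ab X)).obj j) :=
  (diagSES F).mapNatTrans ((evaluation I (CohTop.Ab X)).map f)

lemma emap_δ {S T : ShortComplex (CohTop.Ab X)} (hS : S.ShortExact) (hT : T.ShortExact) (φ : S ⟶ T)
    {n m : ℕ} (h : n + 1 = m) (U : Opens X) (x : E S.X₃ n U) :
    emap φ.τ₁ m U (δ hS h U x) = δ hT h U (emap φ.τ₃ n U x) := by
  change (x.comp hS.extClass h).comp (Ext.mk₀ φ.τ₁) (add_zero m) =
    (x.comp (Ext.mk₀ φ.τ₃) (add_zero n)).comp hT.extClass h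
  rw [Ext.comp_assoc x hS.extClass (Ext.mk₀ φ.τ₁) h (add_zero 1) (by omega),
    ShortComplex.ShortExact.extClass_naturality hS hT φ,
    Ext.comp_assoc x (Ext.mk₀ φ.τ₃) hT.extClass (add_zero n) (zero_add 1) (by omega)]

lemma emap_emap {F G H : CohTop.Ab X} (f : F ⟶ G) (g : G ⟶ H) (n : ℕ) (U : Opens X) (x : E F n U) :
    emap g n U (emap f n U x) = emap (f ≫ g) n U x := by
  simp [emap, Ext.comp_assoc_of_second_deg_zero]

lemma emap_square {A B C D : CohTop.Ab X} {f : A ⟶ B} {g : B ⟶ D} {h : A ⟶ C} {k : C ⟶ D}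
    (w : f ≫ g = h ≫ k) (n : ℕ) (U : Opens X) (x : E A n U) :
    emap g n U (emap f n U x) = emap k n U (emap h n U x) := by
  rw [emap_emap, w, ← emap_emap]

variable [IsFiltered I] [PrespectralSpace X] [QuasiSeparatedSpace X]

/-- Cech acyclicity of a filtered colimit of flasque sheaves, for finite covers by compact opens. -/
lemma isZero_cechH_colim (F : I ⥤ CohTop.Ab X) (hF : ∀ i, TopCat.Sheaf.IsFlasque (F.obj i))
    {κ : Type u} [Finite κ] (V : κ → Opens X) (hV : ∀ k, IsCompact (V k : Set X)) (p : ℕ) :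
    IsZero (CohTop.cechH (colimit F).obj V (p + 1)) := by
  have hinter : ∀ {n : ℕ} (a : Fin (n + 1) → κ), IsCompact (inter V a : Set X) :=
    inter_mem V (𝒮 := {W : Opens X | IsCompact (W : Set X)})
      (fun A hA B hB => QuasiSeparatedSpace.inter_isCompact _ _ A.2 hA B.2 hB) hV
  refine (isZero_cechH_succ_iff _ _ p).2 fun f hf => ?_
  have hc := colimit.isColimit F
  choose i t ht using fun a => colim_sec_surjective hc (hinter a) (f a)
  obtain ⟨k, hk⟩ := exists_stage i
  let T : Coch (F.obj k).obj V (p + 1) := fun a => ctr F (hk a).some _ (t a)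
  have hT : cochMap V (colimit.ι F k).hom (p + 1) T = f := funext fun a =>
    (cι_ctr (colimit.cocone F) (hk a).some _ (t a)).trans (ht a)
  obtain ⟨k', g, hg⟩ := colim_kill_finite hc _ (fun a => hinter a) k (cochD _ V (p + 1) T) (fun a => by
    refine (congrFun (cochD_cochMap V (colimit.ι F k).hom (p + 1) T).symm a).trans ?_
    rw [hT, hf]
    rfl)
  have := hF k'
  obtain ⟨z, hz⟩ := (isZero_cechH_succ_iff _ _ p).1 (isZero_cechH_of_isFlasque V (F.obj k') p)
    (cochMap V (F.map g).hom (p + 1) T) ((cochD_cochMap V (F.map g).hom (p + 1) T).trans (funext hg))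
  refine ⟨cochMap V (colimit.ι F k').hom p z, ?_⟩
  rw [cochD_cochMap, hz, ← hT]
  exact funext fun a => cι_ctr (colimit.cocone F) g _ (T a)

/-- A filtered colimit of flasque sheaves is acyclic on compact opens. -/
lemma subsingleton_E_colim (F : I ⥤ CohTop.Ab X) (hF : ∀ i, TopCat.Sheaf.IsFlasque (F.obj i))
    {U : Opens X} (hU : IsCompact (U : Set X)) (p : ℕ) : Subsingleton (E (colimit F) (p + 1) U) := by
  refine cartan {W : Opens X | IsCompact (W : Set X)}
    (fun κ V => Finite κ ∧ ∀ k, IsCompact (V k : Set X)) ?_ ?_ p (colimit F)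
    (fun κ V hV q => @isZero_cechH_colim _ _ _ _ _ _ F hF κ hV.1 V hV.2 q) U hU
  · rintro κ V ⟨_, hV⟩
    refine ⟨?_, fun n a => inter_mem V (𝒮 := {W : Opens X | IsCompact (W : Set X)})
      (fun A hA B hB => QuasiSeparatedSpace.inter_isCompact _ _ A.2 hA B.2 hB) hV a⟩
    change IsCompact ((iSup V : Opens X) : Set X)
    rw [Opens.coe_iSup]
    exact isCompact_iUnion hV
  · intro W hW κ V hV
    classical
    have hloc : ∀ z : W, ∃ (A : Opens X), IsCompact (A : Set X) ∧ z.1 ∈ A ∧ A ≤ W ∧ ∃ k, A ≤ V k := fun z => by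
      obtain ⟨k, hk⟩ := Opens.mem_iSup.1 (hV.symm ▸ z.2 : z.1 ∈ iSup V)
      obtain ⟨A, hA, hzA, hAV⟩ := Opens.isBasis_iff_nbhd.1 (PrespectralSpace.isBasis_opens X) hk
      exact ⟨A, hA, hzA, hAV.trans (hV ▸ le_iSup V k), k, hAV⟩
    choose A hA hzA hAW k hk using hloc
    obtain ⟨s, hs⟩ := hW.elim_finite_subcover (fun z : W => (A z : Set X)) (fun z => (A z).2)
      (fun z hz => Set.mem_iUnion.2 ⟨⟨z, hz⟩, hzA ⟨z, hz⟩⟩)
    refine ⟨{z // z ∈ s}, fun z => A z.1, ⟨inferInstance, fun z => hA z.1⟩,
      le_antisymm (iSup_le fun z => hAW z.1) (fun z hz => ?_), fun z => ⟨k z.1, hk z.1⟩⟩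
    obtain ⟨w, hw, hzw⟩ := Set.mem_iUnion₂.1 (hs hz)
    exact Opens.mem_iSup.2 ⟨⟨w, hw⟩, hzw⟩

/-- Classes on a compact open in a filtered colimit come from a stage, and vanish at a stage. -/
theorem colim_E {U : Opens X} (hU : IsCompact (U : Set X)) : ∀ (p : ℕ) (F : I ⥤ CohTop.Ab X),
    (∀ y : E (colimit F) p U, ∃ i x, emap (colimit.ι F i) p U x = y) ∧
    (∀ i (x : E (F.obj i) p U), emap (colimit.ι F i) p U x = 0 →
      ∃ (j : I) (f : i ⟶ j), emap (F.map f) p U x = 0) := by
  intro p
  induction p with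
  | zero =>
    intro F
    refine ⟨fun y => ?_, fun i x hx => ?_⟩
    · obtain ⟨i, t, ht⟩ := colim_sec_surjective (colimit.isColimit F) hU (E₀ _ U y)
      refine ⟨i, (E₀ _ U).symm t, (E₀ _ U).injective ?_⟩
      rw [E₀_emap, AddEquiv.apply_symm_apply]
      exact ht
    · have h0 : cι (colimit.cocone F) i U (E₀ _ U x) = 0 :=
        (E₀_emap _ U x).symm.trans ((congrArg (E₀ _ U) hx).trans (map_zero _))
      obtain ⟨j, f, hf⟩ := colim_kill_finite (colimit.isColimit F) (α := PUnit.{u + 1}) (fun _ => U)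
        (fun _ => hU) i (fun _ => E₀ _ U x) (fun _ => h0)
      refine ⟨j, f, (E₀ _ U).injective ?_⟩
      rw [E₀_emap, map_zero]
      exact hf PUnit.unit
  | succ p ih =>
    intro F
    have hS := diagSES_colim_shortExact F
    have hSi := diagSES_eval_shortExact F
    refine ⟨fun y => ?_, fun i x hx => ?_⟩
    · have hJ : Subsingleton (E (colimit (diagSES F).X₂) (p + 1) U) :=
        subsingleton_E_colim _ (fun i => @isFlasque_of_injective _ _ (injective_injFun (F.obj i))) hU p
      obtain ⟨z, rfl⟩ := exact₁ hS rfl U y (hJ.elim _ _)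
      obtain ⟨i, w, rfl⟩ := (ih (diagSES F).X₃).1 z
      exact ⟨i, δ (hSi i) rfl U w, emap_δ (hSi i) hS (diagToColim F i) rfl U w⟩
    · have hJ : Subsingleton (E ((diagSES F).X₂.obj i) (p + 1) U) :=
        @subsingleton_E_of_injective _ _ (injective_injFun (F.obj i)) p U
      obtain ⟨z, rfl⟩ := exact₁ (hSi i) rfl U x (hJ.elim _ _)
      have h0 : δ hS rfl U (emap (colimit.ι (diagSES F).X₃ i) p U z) = 0 :=
        (emap_δ (hSi i) hS (diagToColim F i) rfl U z).symm.trans hx
      obtain ⟨w, hw⟩ := exact₃ hS rfl U _ h0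
      obtain ⟨j, wj, rfl⟩ := (ih (diagSES F).X₂).1 w
      obtain ⟨k, a, b, -⟩ : ∃ (k : I) (_ : i ⟶ k) (_ : j ⟶ k), True :=
        ⟨IsFiltered.max i j, IsFiltered.leftToMax i j, IsFiltered.rightToMax i j, trivial⟩
      have h1 : emap (colimit.ι (diagSES F).X₃ k) p U
          (emap ((diagSES F).X₃.map a) p U z -
            emap ((diagSES F).g.app k) p U (emap ((diagSES F).X₂.map b) p U wj)) = 0 := by
        refine (map_sub _ _ _).trans (sub_eq_zero.2 ?_)
        refine ((emap_emap _ _ p U z).trans (congrArg (fun φ => emap φ p U z)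
          (colimit.w (diagSES F).X₃ a))).trans ?_
        refine hw.symm.trans ?_
        refine (emap_square (colimit.ι_map (diagSES F).g j) p U wj).trans ?_
        refine Eq.trans ?_ (congrArg (emap (colimit.ι (diagSES F).X₃ k) p U)
          (emap_square ((diagSES F).g.naturality b).symm p U wj))
        exact ((emap_emap _ _ p U _).trans (congrArg (fun φ => emap φ p U _)
          (colimit.w (diagSES F).X₃ b))).symm
      obtain ⟨l, e, he⟩ := (ih (diagSES F).X₃).2 k _ h1
      replace he : emap ((diagSES F).X₃.map (a ≫ e)) p U z =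
          emap ((diagSES F).g.app l) p U (emap ((diagSES F).X₂.map (b ≫ e)) p U wj) := by
        refine Eq.trans (congrArg (fun φ => emap φ p U z) ((diagSES F).X₃.map_comp a e)) ?_
        refine (emap_emap _ _ p U z).symm.trans ((sub_eq_zero.1 ((map_sub _ _ _).symm.trans he)).trans ?_)
        refine (emap_square ((diagSES F).g.naturality e).symm p U _).trans ?_
        exact congrArg (emap ((diagSES F).g.app l) p U) ((emap_emap _ _ p U wj).trans
          (congrArg (fun φ => emap φ p U wj) ((diagSES F).X₂.map_comp b e).symm))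
      refine ⟨l, a ≫ e, ?_⟩
      refine (emap_δ (hSi i) (hSi l) (diagTrans F (a ≫ e)) rfl U z).trans ?_
      change δ (hSi l) rfl U (emap ((diagSES F).X₃.map (a ≫ e)) p U z) = 0
      rw [he]
      exact δ_emap_g (hSi l) rfl U _

/-- Recognizing a filtered colimit of abelian groups. -/
lemma nonempty_isColimit_of_surj_ker {K : I ⥤ AddCommGrpCat.{u}} (t : Cocone K)
    (hsurj : ∀ x : t.pt, ∃ i xi, t.ι.app i xi = x)
    (hker : ∀ i (x : K.obj i), t.ι.app i x = 0 → ∃ (k : I) (f : i ⟶ k), K.map f x = 0) :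
    Nonempty (IsColimit t) := by
  have := reflectsColimitsOfShape_of_reflectsIsomorphisms (J := I) (G := forget AddCommGrpCat.{u})
  refine ⟨isColimitOfReflects (forget AddCommGrpCat.{u}) (Types.FilteredColimit.isColimitOf' _ _
    (fun x => ?_) fun i x y h => ?_)⟩
  · obtain ⟨i, xi, hxi⟩ := hsurj x
    exact ⟨i, xi, hxi.symm⟩
  · obtain ⟨k, f, hf⟩ := hker i (x - y : K.obj i) ((map_sub _ _ _).trans (sub_eq_zero.2 h))
    exact ⟨k, f, show K.map f x = K.map f y from sub_eq_zero.1 ((map_sub _ _ _).symm.trans hf)⟩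

/-- A functor to abelian groups preserves filtered colimits given the elementwise criterion. -/
lemma preservesColimitsOfShape_of_surj_ker {A : Type*} [Category A] [HasColimitsOfShape I A]
    (G : A ⥤ AddCommGrpCat.{u})
    (h : ∀ K : I ⥤ A, (∀ x : G.obj (colimit K), ∃ i xi, G.map (colimit.ι K i) xi = x) ∧
      (∀ i (x : G.obj (K.obj i)), G.map (colimit.ι K i) x = 0 →
        ∃ (k : I) (f : i ⟶ k), G.map (K.map f) x = 0)) : PreservesColimitsOfShape I G :=
  ⟨fun {K} => preservesColimit_of_preserves_colimit_cocone (colimit.isColimit K)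
    (nonempty_isColimit_of_surj_ker (G.mapCocone (colimit.cocone K)) (h K).1 (h K).2).some⟩

/-- Cohomology over a compact open preserves filtered colimits. -/
theorem colim_HU {U : Opens X} (hU : IsCompact (U : Set X)) (q : ℕ) :
    PreservesColimitsOfShape I
      ((Sheaf.cohomologyPresheafFunctor (Opens.grothendieckTopology X) q).flip.obj (op U) :
        CohTop.Ab X ⥤ AddCommGrpCat.{u}) := by
  have hmap : ∀ {A B : CohTop.Ab X} (g : A ⟶ B) (x : E A q U),
      ((Sheaf.cohomologyPresheafFunctor (Opens.grothendieckTopology X) q).flip.obj (op U)).map g x =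
        emap g q U x := fun g x => flip_extFunctor_map_app (freeFun X) q g U x
  refine preservesColimitsOfShape_of_surj_ker _ fun K => ⟨fun x => ?_, fun i x hx => ?_⟩
  · obtain ⟨i, xi, hxi⟩ := (colim_E hU q K).1 x
    exact ⟨i, xi, (hmap _ xi).trans hxi⟩
  · obtain ⟨j, f, hf⟩ := (colim_E hU q K).2 i x ((hmap _ x).symm.trans hx)
    exact ⟨j, f, (hmap _ x).trans hf⟩

end Groth.Agent.TopCoh49
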