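import Groth.Agent.TopCoh49.Coh
import Groth.Agent.TopCoh49.CechFlasque

universe u

open CategoryTheory Limits TopologicalSpace Opposite Abelian

namespace Groth.Agent.TopCoh49

variable {X : TopCat.{u}}

lemma eres_eres (F : CohTop.Ab X) (n : ℕ) {A B C : Opens X} (h₁ : B ≤ A) (h₂ : C ≤ B) (x : E F n A) :
    eres F n h₂ (eres F n h₁ x) = eres F n (h₂.trans h₁) x := by
  change (Ext.mk₀ _).comp ((Ext.mk₀ _).comp x (zero_add n)) (zero_add n) = _
  rw [Ext.mk₀_comp_mk₀_assoc, ← Functor.map_comp]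
  rfl

lemma eres_self (F : CohTop.Ab X) (n : ℕ) {A : Opens X} (h : A ≤ A) (x : E F n A) :
    eres F n h x = x := by
  change (Ext.mk₀ ((freeFun X).map (𝟙 A))).comp x (zero_add n) = x
  rw [CategoryTheory.Functor.map_id, Ext.mk₀_id_comp]

lemma eres_emap {F G : CohTop.Ab X} (g : F ⟶ G) (n : ℕ) {A B : Opens X} (h : B ≤ A) (x : E F n A) :
    eres G n h (emap g n A x) = emap g n B (eres F n h x) :=
  (Ext.comp_assoc (Ext.mk₀ _) x (Ext.mk₀ g) (zero_add n) (add_zero n) (by simp)).symm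

/-- Two sections agreeing on the overlap glue. -/
lemma exists_glue₂ (F : CohTop.Ab X) {U V : Opens X} (a : F.obj.obj (op U)) (b : F.obj.obj (op V))
    (h : rs F.obj (inf_le_left : U ⊓ V ≤ U) a = rs F.obj (inf_le_right : U ⊓ V ≤ V) b) :
    ∃ c : F.obj.obj (op (U ⊔ V)), rs F.obj le_sup_left c = a ∧ rs F.obj le_sup_right c = b := by
  let Q : Bool → Opens X := fun k => cond k U V
  let sf : ∀ k : ULift.{u} Bool, F.obj.obj (op (Q k.down))
    | ⟨true⟩ => a
    | ⟨false⟩ => b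
  obtain ⟨c, hc⟩ := exists_glue F (V := fun k : ULift.{u} Bool => Q k.down) (A := U ⊔ V)
    (fun k => by rcases k with ⟨_ | _⟩; exacts [le_sup_right, le_sup_left])
    (fun x (hx : x ∈ (U : Set X) ∪ V) => hx.elim (fun hx => Opens.mem_iSup.2 ⟨⟨true⟩, hx⟩) (fun hx => Opens.mem_iSup.2 ⟨⟨false⟩, hx⟩))
    sf (by
      rintro ⟨_ | _⟩ ⟨_ | _⟩
      · rfl
      · exact ((rs_rs F.obj inf_le_right (le_inf inf_le_right inf_le_left) b).symm.trans
          (congrArg _ h.symm)).trans (rs_rs _ _ _ _)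
      · exact h
      · rfl)
  exact ⟨c, hc ⟨true⟩, hc ⟨false⟩⟩

lemma eq_of_rs_eq₂ (F : CohTop.Ab X) {U V : Opens X} {s t : F.obj.obj (op (U ⊔ V))}
    (hU : rs F.obj (le_sup_left : U ≤ U ⊔ V) s = rs F.obj le_sup_left t)
    (hV : rs F.obj (le_sup_right : V ≤ U ⊔ V) s = rs F.obj le_sup_right t) : s = t := by
  let Q : Bool → Opens X := fun k => cond k U V
  refine eq_of_forall_rs_eq F (V := fun k : ULift.{u} Bool => Q k.down)
    (fun k => by rcases k with ⟨_ | _⟩; exacts [le_sup_right, le_sup_left])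
    (fun x (hx : x ∈ (U : Set X) ∪ V) => hx.elim (fun hx => Opens.mem_iSup.2 ⟨⟨true⟩, hx⟩) (fun hx => Opens.mem_iSup.2 ⟨⟨false⟩, hx⟩))
    (fun k => ?_)
  rcases k with ⟨_ | _⟩
  exacts [hV, hU]

lemma app_g_f_two (S : ShortComplex (CohTop.Ab X)) (V : Opens X) (a : S.X₁.obj.obj (op V)) :
    S.g.hom.app (op V) (S.f.hom.app (op V) a) = 0 :=
  ConcreteCategory.congr_hom (NatTrans.congr_app (congrArg (fun φ => φ.hom) S.zero) _) a

/-- The Mayer-Vietoris gluing principle. -/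
lemma exists_overlap_class : ∀ (q : ℕ) (F : CohTop.Ab X) (U V : Opens X) (ξ : E F (q + 1) (U ⊔ V)),
    eres F (q + 1) le_sup_left ξ = 0 → eres F (q + 1) le_sup_right ξ = 0 →
    ∃ η : E F q (U ⊓ V), ∀ (U' V' : Opens X) (hU : U' ≤ U) (hV : V' ≤ V) (z : E F q U'),
      eres F q (inf_le_inf hU hV) η = eres F q inf_le_left z →
      eres F (q + 1) (sup_le_sup hU hV) ξ = 0 := by
  intro q
  induction q with
  | zero =>
    intro F U V ξ h₁ h₂
    have hS := injSES_shortExact F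
    have hI := subsingleton_E_of_injective (Injective.under F) 0
    obtain ⟨θ, rfl⟩ := exact₁ hS (zero_add 1) _ ξ ((hI _).elim _ _)
    obtain ⟨a, ha⟩ := exact₃ hS (zero_add 1) U _ ((eres_δ hS (zero_add 1) le_sup_left θ).symm.trans h₁)
    obtain ⟨b, hb⟩ := exact₃ hS (zero_add 1) V _ ((eres_δ hS (zero_add 1) le_sup_right θ).symm.trans h₂)
    obtain ⟨η, hη⟩ := exact₂ hS 0 (U ⊓ V) (eres _ 0 inf_le_left a - eres _ 0 inf_le_right b) (by
      rw [map_sub, ← eres_emap, ← eres_emap, ha, hb, eres_eres, eres_eres, sub_self])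
    refine ⟨η, fun U' V' hU hV z hz => ?_⟩
    let a' : E (injSES F).X₂ 0 U' := eres _ 0 hU a - emap (injSES F).f 0 U' z
    let b' : E (injSES F).X₂ 0 V' := eres _ 0 hV b
    have hab : eres _ 0 (inf_le_left : U' ⊓ V' ≤ U') a' = eres _ 0 inf_le_right b' := by
      simp only [a', b', map_sub, eres_eres]
      rw [eres_emap, ← hz, ← eres_emap, hη, map_sub, eres_eres, eres_eres, sub_sub_cancel]
    obtain ⟨c, hc₁, hc₂⟩ := exists_glue₂ (injSES F).X₂ (E₀ _ _ a') (E₀ _ _ b')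
      (((E₀_eres _ _ _).symm.trans (congrArg (E₀ _ _) hab)).trans (E₀_eres _ _ _))
    refine (eres_δ hS (zero_add 1) _ θ).trans ?_
    rw [show eres _ 0 (sup_le_sup hU hV) θ = emap (injSES F).g 0 _ ((E₀ _ _).symm c) from ?_, δ_emap_g]
    apply (E₀ _ _).injective
    rw [E₀_emap, AddEquiv.apply_symm_apply]
    refine eq_of_rs_eq₂ _ ?_ ?_
    · refine Eq.trans ?_ ((ConcreteCategory.congr_hom ((injSES F).g.hom.naturality _) c).trans rfl)
      change _ = (injSES F).g.hom.app (op U') (rs _ le_sup_left c)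
      rw [hc₁, ← E₀_emap]
      refine (E₀_eres _ _ _).symm.trans (congrArg _ ?_)
      simp only [a', map_sub, ← eres_emap, ha, eres_eres]
      rw [show emap (injSES F).g 0 U' (emap (injSES F).f 0 U' z) = 0 from (E₀ _ _).injective (by
        rw [E₀_emap, E₀_emap, map_zero, app_g_f_two]), sub_zero]
    · refine Eq.trans ?_ ((ConcreteCategory.congr_hom ((injSES F).g.hom.naturality _) c).trans rfl)
      change _ = (injSES F).g.hom.app (op V') (rs _ le_sup_right c)
      rw [hc₂, ← E₀_emap]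
      refine (E₀_eres _ _ _).symm.trans (congrArg _ ?_)
      simp only [b', ← eres_emap, hb, eres_eres]
  | succ q ih =>
    intro F U V ξ h₁ h₂
    have hS := injSES_shortExact F
    have hI := fun (n : ℕ) => subsingleton_E_of_injective (Injective.under F) n
    have hinj : ∀ W : Opens X, Function.Injective (δ hS (rfl : q + 1 + 1 = q + 2) W) :=
      fun W => (δ_bijective hS _ W (hI q W) (hI (q + 1) W)).1
    obtain ⟨θ, rfl⟩ := exact₁ hS (rfl : q + 1 + 1 = q + 2) _ ξ ((hI (q + 1) _).elim _ _)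
    have hz₁ : eres _ (q + 1) le_sup_left θ = 0 :=
      hinj U (((eres_δ hS (rfl : q + 1 + 1 = q + 2) le_sup_left θ).symm.trans h₁).trans (map_zero _).symm)
    have hz₂ : eres _ (q + 1) le_sup_right θ = 0 :=
      hinj V (((eres_δ hS (rfl : q + 1 + 1 = q + 2) le_sup_right θ).symm.trans h₂).trans (map_zero _).symm)
    obtain ⟨ηG, hηG⟩ := ih _ U V θ hz₁ hz₂
    refine ⟨δ hS (rfl : q + 1 = q + 1) _ ηG, fun U' V' hU hV z hz => ?_⟩
    obtain ⟨zG, rfl⟩ := exact₁ hS (rfl : q + 1 = q + 1) U' z ((hI q U').elim _ _)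
    obtain ⟨i, hi⟩ := exact₃ hS (rfl : q + 1 = q + 1) _
      (eres _ q (inf_le_inf hU hV) ηG - eres _ q inf_le_left zG) (by
        rw [map_sub, ← eres_δ, ← eres_δ, hz, sub_self])
    obtain ⟨i', hi'⟩ : ∃ i' : E (injSES F).X₂ q U', eres _ q inf_le_left i' = i := by
      cases q with
      | zero =>
        obtain ⟨t, ht⟩ := (AddCommGrpCat.epi_iff_surjective _).1
          ((isFlasque_of_injective (Injective.under F)).epi (homOfLE (inf_le_left : U' ⊓ V' ≤ U')).op) (E₀ _ _ i)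
        exact ⟨(E₀ _ _).symm t, (E₀ _ _).injective
          ((E₀_eres _ _ _).trans ((congrArg _ ((E₀ _ _).apply_symm_apply t)).trans ht))⟩
      | succ q => exact ⟨0, (hI q _).elim _ _⟩
    refine (eres_δ hS (rfl : q + 1 + 1 = q + 2) _ θ).trans
      ((congrArg _ (hηG U' V' hU hV (zG + emap (injSES F).g q U' i') ?_)).trans (map_zero _))
    rw [map_add, eres_emap, hi', hi]
    abel

end Groth.Agent.TopCoh49
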