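import Groth.Agent.TopCoh49.CechCoh
import Groth.Agent.TopCoh49.MV
import Groth.Agent.TopCoh49.StalkPull
import Groth.Agent.TopCoh49.Top
import Mathlib.Topology.Separation.Regular
import Mathlib.Topology.Maps.Basic

/-!
Sections near compact sets; soft sheaves on compact Hausdorff spaces.
-/

universe u

open CategoryTheory Limits TopologicalSpace Opposite
open scoped Topology

namespace Groth.Agent.TopCoh49

variable {X Z : TopCat.{u}}

/-- Distinct points of `S` have disjoint neighbourhoods in the ambient space. -/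
def SepPts (S : Set X) : Prop := ∀ x ∈ S, ∀ y ∈ S, x ≠ y → Disjoint (𝓝 x) (𝓝 y)

/-- The germ of a section. -/
noncomputable abbrev germ (F : CohTop.Ab X) {U : Opens X} (x : X) (hx : x ∈ U) :
    F.obj.obj (op U) →+ CohTop.stalk F x :=
  (TopCat.Presheaf.germ F.obj U x hx).hom

lemma germ_rs (F : CohTop.Ab X) {U V : Opens X} (h : V ≤ U) (x : X) (hx : x ∈ V) (t : F.obj.obj (op U)) :
    germ F x hx (rs F.obj h t) = germ F x (h hx) t :=
  TopCat.Presheaf.germ_res_apply F.obj (homOfLE h) x hx t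

lemma eq_of_germ_eq (F : CohTop.Ab X) {U : Opens X} {s t : F.obj.obj (op U)}
    (h : ∀ (x : X) (hx : x ∈ U), germ F x hx s = germ F x hx t) : s = t :=
  TopCat.Presheaf.section_ext F U s t h

/-- Two sections agree on an open containing all points where their germs agree. -/
lemma exists_agree (F : CohTop.Ab X) {U₁ U₂ : Opens X} (t₁ : F.obj.obj (op U₁)) (t₂ : F.obj.obj (op U₂)) :
    ∃ (N : Opens X) (h₁ : N ≤ U₁) (h₂ : N ≤ U₂),
      (∀ (x : X) (hx₁ : x ∈ U₁) (hx₂ : x ∈ U₂), germ F x hx₁ t₁ = germ F x hx₂ t₂ → x ∈ N) ∧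
      rs F.obj h₁ t₁ = rs F.obj h₂ t₂ := by
  let κ := {x : X // ∃ (hx₁ : x ∈ U₁) (hx₂ : x ∈ U₂), germ F x hx₁ t₁ = germ F x hx₂ t₂}
  have hk : ∀ x : κ, ∃ (W : Opens X) (h₁ : W ≤ U₁) (h₂ : W ≤ U₂), x.1 ∈ W ∧
      rs F.obj h₁ t₁ = rs F.obj h₂ t₂ := fun x => by
    obtain ⟨W, hW, i₁, i₂, h⟩ := TopCat.Presheaf.germ_eq F.obj x.1 x.2.1 x.2.2.1 t₁ t₂ x.2.2.2
    exact ⟨W, leOfHom i₁, leOfHom i₂, hW, h⟩
  choose W h₁ h₂ hW h using hk
  refine ⟨iSup W, iSup_le h₁, iSup_le h₂, fun x a b e => Opens.mem_iSup.2 ⟨⟨x, a, b, e⟩, hW _⟩,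
    eq_of_forall_rs_eq F (fun k => le_iSup W k) le_rfl fun k => ?_⟩
  rw [rs_rs, rs_rs]
  exact h k

lemma separatedNhds_of_compact {K₁ K₂ : Set X} (h₁ : IsCompact K₁) (h₂ : IsCompact K₂)
    (h : ∀ x ∈ K₁, ∀ y ∈ K₂, Disjoint (𝓝 x) (𝓝 y)) : SeparatedNhds K₁ K₂ := by
  rw [separatedNhds_iff_disjoint, h₁.disjoint_nhdsSet_left]
  exact fun x hx => h₂.disjoint_nhdsSet_right.2 fun y hy => h x hx y hy

/-- Glue sections given near two compact sets which agree near their intersection. -/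
lemma exists_merge (F : CohTop.Ab X) {K₁ K₂ : Set X} (hK₁ : IsCompact K₁) (hK₂ : IsCompact K₂)
    (hsep : SepPts (K₁ ∪ K₂)) {Ω₁ Ω₂ N : Opens X} (hΩ₁ : K₁ ⊆ Ω₁) (hΩ₂ : K₂ ⊆ Ω₂)
    (t₁ : F.obj.obj (op Ω₁)) (t₂ : F.obj.obj (op Ω₂)) (hN : K₁ ∩ K₂ ⊆ N) (hN₁ : N ≤ Ω₁) (hN₂ : N ≤ Ω₂)
    (h : rs F.obj hN₁ t₁ = rs F.obj hN₂ t₂) :
    ∃ (W₁ W₂ : Opens X) (h₁ : W₁ ≤ Ω₁) (h₂ : W₂ ≤ Ω₂) (t : F.obj.obj (op (W₁ ⊔ W₂))),
      K₁ ⊆ W₁ ∧ K₂ ⊆ W₂ ∧ rs F.obj le_sup_left t = rs F.obj h₁ t₁ ∧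
        rs F.obj le_sup_right t = rs F.obj h₂ t₂ := by
  obtain ⟨A₁, A₂, hA₁, hA₂, hK₁A, hK₂A, hd⟩ := separatedNhds_of_compact (hK₁.diff N.2) hK₂
    fun x hx y hy => hsep x (Or.inl hx.1) y (Or.inr hy) (fun e => hx.2 (hN ⟨hx.1, e ▸ hy⟩))
  let W₁ : Opens X := Ω₁ ⊓ (⟨A₁, hA₁⟩ ⊔ N)
  let W₂ : Opens X := Ω₂ ⊓ ⟨A₂, hA₂⟩
  have hle : W₁ ⊓ W₂ ≤ N := fun x hx => by
    rcases (hx.1.2 : x ∈ A₁ ∪ (N : Set X)) with hx₁ | hx₁
    · exact (Set.disjoint_left.1 hd hx₁ hx.2.2).elim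
    · exact hx₁
  obtain ⟨t, ht₁, ht₂⟩ := exists_glue₂ F (U := W₁) (V := W₂) (rs F.obj inf_le_left t₁)
    (rs F.obj inf_le_left t₂) (by
      have e := congrArg (rs F.obj hle) h
      rw [rs_rs, rs_rs] at e
      rw [rs_rs, rs_rs]
      exact e)
  refine ⟨W₁, W₂, inf_le_left, inf_le_left, t, fun x hx => ⟨hΩ₁ hx, ?_⟩,
    fun x hx => ⟨hΩ₂ hx, hK₂A hx⟩, ht₁, ht₂⟩
  by_cases hxN : x ∈ (N : Set X)
  · exact Or.inr hxN
  · exact Or.inl (hK₁A ⟨hx, hxN⟩)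

/-- Induction over compact subsets of a separated compact set. -/
lemma compact_induction {K : Set X} (hK : IsCompact K) (hsep : SepPts K) (P : Set X → Prop)
    (h0 : P ∅) (hu : ∀ K₁ K₂, K₁ ⊆ K → K₂ ⊆ K → IsCompact K₁ → IsCompact K₂ → P K₁ → P K₂ → P (K₁ ∪ K₂))
    (hloc : ∀ x ∈ K, ∃ Ω : Opens X, x ∈ Ω ∧ ∀ C, IsCompact C → C ⊆ K → C ⊆ (Ω : Set X) → P C) : P K := by
  classical
  have : CompactSpace K := isCompact_iff_compactSpace.1 hK
  have : T2Space K := t2Space_iff_disjoint_nhds.2 fun x y hxy => by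
    simp only [nhds_induced]
    exact Filter.disjoint_comap (hsep x x.2 y y.2 fun e => hxy (Subtype.ext e))
  have hx : ∀ x : K, ∃ C : Set K, C ∈ 𝓝 x ∧ IsClosed C ∧ P (Subtype.val '' C) := fun x => by
    obtain ⟨Ω, hxΩ, hΩ⟩ := hloc x x.2
    obtain ⟨C, hC, hCc, hCΩ⟩ := exists_mem_nhds_isClosed_subset
      ((Ω.2.preimage continuous_subtype_val).mem_nhds hxΩ)
    exact ⟨C, hC, hCc, hΩ _ (hCc.isCompact.image continuous_subtype_val) (by simp)
      (Set.image_subset_iff.2 hCΩ)⟩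
  choose C hC hCc hCP using hx
  obtain ⟨s, hs⟩ := isCompact_univ.elim_nhds_subcover C (fun x _ => hC x)
  have key : ∀ s : Finset K, IsCompact (Subtype.val '' (⋃ x ∈ s, C x)) ∧
      P (Subtype.val '' (⋃ x ∈ s, C x)) := by
    intro s
    induction s using Finset.induction with
    | empty => simpa using h0
    | insert a s _ ih =>
      have h1 := (hCc a).isCompact.image (continuous_subtype_val (p := (· ∈ K)))
      rw [Finset.set_biUnion_insert, Set.image_union]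
      exact ⟨h1.union ih.1, hu _ _ (by simp) (by simp) h1 ih.1 (hCP a) ih.2⟩
  have hcov : Subtype.val '' (⋃ x ∈ s, C x) = K :=
    subset_antisymm (by simp) fun x hx => ⟨⟨x, hx⟩, hs.2 trivial, rfl⟩
  exact hcov ▸ (key s).2

section Map

variable (i : Z ⟶ X)

/-- Germs along a compact set given locally by sections come from a section near the compact set. -/
lemma exists_section_near (hi : Function.Injective i) {K : Set Z} (hK : IsCompact K) (hsep : SepPts (i '' K))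
    (F : CohTop.Ab X) (g : ∀ z, CohTop.stalk F (i z))
    (hloc : ∀ z ∈ K, ∃ (Ω : Opens X) (t : F.obj.obj (op Ω)), i z ∈ Ω ∧
      ∀ w ∈ K, ∀ hw : i w ∈ Ω, germ F (i w) hw t = g w) :
    ∃ (Ω : Opens X) (t : F.obj.obj (op Ω)), i '' K ⊆ Ω ∧
      ∀ w ∈ K, ∀ hw : i w ∈ Ω, germ F (i w) hw t = g w := by
  have hsepK : SepPts K := fun x hx y hy hxy =>
    (Filter.disjoint_comap (m := i) (hsep _ ⟨x, hx, rfl⟩ _ ⟨y, hy, rfl⟩ (fun e => hxy (hi e)))).mono
      (Filter.map_le_iff_le_comap.1 i.hom.continuous.continuousAt)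
      (Filter.map_le_iff_le_comap.1 i.hom.continuous.continuousAt)
  refine compact_induction hK hsepK (fun C => ∃ (Ω : Opens X) (t : F.obj.obj (op Ω)), i '' C ⊆ Ω ∧
      ∀ w ∈ C, ∀ hw : i w ∈ Ω, germ F (i w) hw t = g w) ⟨⊥, 0, by simp, by simp⟩ ?_ ?_
  · rintro C₁ C₂ hC₁ hC₂ hc₁ hc₂ ⟨Ω₁, t₁, hΩ₁, ht₁⟩ ⟨Ω₂, t₂, hΩ₂, ht₂⟩
    obtain ⟨N, hN₁, hN₂, hN, hNt⟩ := exists_agree F t₁ t₂
    obtain ⟨W₁, W₂, h₁, h₂, t, hW₁, hW₂, e₁, e₂⟩ := exists_merge F (hc₁.image i.hom.continuous)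
      (hc₂.image i.hom.continuous)
      (fun x hx y hy => hsep x (by rcases hx with h | h; exacts [Set.image_mono hC₁ h, Set.image_mono hC₂ h])
        y (by rcases hy with h | h; exacts [Set.image_mono hC₁ h, Set.image_mono hC₂ h]))
      hΩ₁ hΩ₂ t₁ t₂ (by
        rintro x ⟨⟨w, hw₁, rfl⟩, ⟨w', hw₂, e⟩⟩
        obtain rfl := hi e
        exact hN _ (hΩ₁ ⟨w', hw₁, rfl⟩) (hΩ₂ ⟨w', hw₂, rfl⟩) ((ht₁ _ hw₁ _).trans (ht₂ _ hw₂ _).symm))
      hN₁ hN₂ hNt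
    refine ⟨W₁ ⊔ W₂, t, ?_, fun w hw hw' => ?_⟩
    · rw [Set.image_union, Opens.coe_sup]
      exact Set.union_subset_union hW₁ hW₂
    rcases hw with hw | hw
    · rw [← germ_rs F le_sup_left _ (hW₁ ⟨w, hw, rfl⟩) t, e₁, germ_rs]
      exact ht₁ w hw _
    · rw [← germ_rs F le_sup_right _ (hW₂ ⟨w, hw, rfl⟩) t, e₂, germ_rs]
      exact ht₂ w hw _
  · intro z hz
    obtain ⟨Ω, t, hzΩ, ht⟩ := hloc z hz
    exact ⟨(Opens.map i).obj Ω, hzΩ, fun C _ hC hCΩ =>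
      ⟨Ω, t, Set.image_subset_iff.2 hCΩ, fun w hw hw' => ht w (hC hw) hw'⟩⟩

/-- A section of the inverse image comes from a section of the sheaf near a compact set. -/
lemma exists_ext_near (hi : Topology.IsEmbedding i) {K : Set Z} (hK : IsCompact K) (hsep : SepPts (i '' K))
    (F : CohTop.Ab X) {W : Opens Z} (hW : K ⊆ W) (s : ((CohTop.pull i).obj F).obj.obj (op W)) :
    ∃ (Ω : Opens X) (t : F.obj.obj (op Ω)) (W' : Opens Z) (h : W' ≤ (Opens.map i).obj Ω) (h' : W' ≤ W),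
      i '' K ⊆ Ω ∧ K ⊆ W' ∧
        rs ((CohTop.pull i).obj F).obj h ((unitPre i F).app (op Ω) t) =
          rs ((CohTop.pull i).obj F).obj h' s := by
  classical
  let G := (CohTop.pull i).obj F
  let e : ∀ z, CohTop.stalk F (i z) ≃ CohTop.stalk G z := fun z =>
    Equiv.ofBijective _ (stalkUnit_bijective i F z)
  let g : ∀ z, CohTop.stalk F (i z) := fun z => if hz : z ∈ W then (e z).symm (germ G z hz s) else 0
  have hg : ∀ z (hz : z ∈ W), stalkUnit i F z (g z) = germ G z hz s := fun z hz => by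
    simp only [g, dif_pos hz]
    exact (e z).apply_symm_apply _
  obtain ⟨Ω, t, hKΩ, ht⟩ := exists_section_near i hi.injective hK hsep F g fun z hz => by
    obtain ⟨V, hzV, t₀, ht₀⟩ := TopCat.Presheaf.exists_germ_eq F.obj (g z)
    obtain ⟨N, hN₁, hN₂, hN, hNt⟩ := exists_agree G ((unitPre i F).app (op V) t₀) s
    obtain ⟨O, hO, hON⟩ := hi.isInducing.isOpen_iff.1 N.2
    have hzN : z ∈ N := hN z hzV (hW hz) ((germ_stalkUnit_apply i F z V hzV t₀).symm.trans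
      ((congrArg _ ht₀).trans (hg z _)))
    refine ⟨V ⊓ ⟨O, hO⟩, rs F.obj inf_le_left t₀, ⟨hzV, hON.ge hzN⟩, fun w hw hwΩ => ?_⟩
    have hwN : w ∈ N := hON.le hwΩ.2
    rw [germ_rs]
    refine (stalkUnit_bijective i F w).1 ((germ_stalkUnit_apply i F w V hwΩ.1 t₀).trans
      (Eq.trans ?_ (hg w (hN₂ hwN)).symm))
    exact ((germ_rs G hN₁ w hwN _).symm.trans (congrArg _ hNt)).trans (germ_rs G hN₂ w hwN s)
  obtain ⟨N, hN₁, hN₂, hN, hNt⟩ := exists_agree G ((unitPre i F).app (op Ω) t) s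
  refine ⟨Ω, t, N, hN₁, hN₂, hKΩ, fun z hz => hN z (hKΩ ⟨z, hz, rfl⟩) (hW hz) ?_, hNt⟩
  exact (germ_stalkUnit_apply i F z Ω _ t).symm.trans ((congrArg _ (ht z hz _)).trans (hg z _))

end Map

/-- Every section near a compact set extends to the whole space, after shrinking. -/
def IsSoft (G : CohTop.Ab Z) : Prop :=
  ∀ (K : Set Z), IsCompact K → ∀ (W : Opens Z), K ⊆ W → ∀ s : G.obj.obj (op W),
    ∃ (t : G.obj.obj (op ⊤)) (W' : Opens Z) (h : W' ≤ W),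
      K ⊆ W' ∧ rs G.obj (le_top : W' ≤ ⊤) t = rs G.obj h s

lemma isSoft_of_isFlasque (G : CohTop.Ab Z) [h : TopCat.Sheaf.IsFlasque G] : IsSoft G := by
  intro K _ W hW s
  obtain ⟨t, ht⟩ := (AddCommGrpCat.epi_iff_surjective _).1 (h.epi (homOfLE (le_top : W ≤ ⊤)).op) s
  exact ⟨t, W, le_rfl, hW, ht.trans (rs_self _ _ _).symm⟩

/-- The inverse image of a flasque sheaf on a compact subspace with separated points is soft. -/
lemma isSoft_pull (i : Z ⟶ X) (hi : Topology.IsEmbedding i) (hsep : SepPts (Set.range i)) (F : CohTop.Ab X)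
    [h : TopCat.Sheaf.IsFlasque F] : IsSoft ((CohTop.pull i).obj F) := by
  intro K hK W hW s
  obtain ⟨Ω, t, W', hW'Ω, hW'W, hKΩ, hKW', e⟩ := exists_ext_near i hi hK
    (fun x hx y hy => hsep x (Set.image_subset_range _ _ hx) y (Set.image_subset_range _ _ hy)) F hW s
  obtain ⟨t', ht'⟩ := (AddCommGrpCat.epi_iff_surjective _).1 (h.epi (homOfLE (le_top : Ω ≤ ⊤)).op) t
  refine ⟨(unitPre i F).app (op ⊤) t', W', hW'W, hKW', Eq.trans ?_ e⟩
  rw [← ht']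
  exact ((congrArg (rs _ hW'Ω) (ConcreteCategory.congr_hom ((unitPre i F).naturality (homOfLE (le_top : Ω ≤ ⊤)).op) t')).trans
    (rs_rs _ _ _ _)).symm

section Acyclic

variable [T2Space Z] {S : ShortComplex (CohTop.Ab Z)}

lemma sepPts_of_t2 (K : Set Z) : SepPts K := fun _ _ _ _ h => disjoint_nhds_nhds.2 h

/-- Sections of a quotient by a soft sheaf lift near compact sets. -/
lemma exists_lift_near (hS : S.ShortExact) (h₁ : IsSoft S.X₁) {K : Set Z} (hK : IsCompact K)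
    {W : Opens Z} (hW : K ⊆ W) (r : S.X₃.obj.obj (op W)) :
    ∃ (W' : Opens Z) (h : W' ≤ W) (j : S.X₂.obj.obj (op W')),
      K ⊆ W' ∧ S.g.hom.app (op W') j = rs S.X₃.obj h r := by
  have := hS.epi_g
  obtain ⟨V, hV, t, hsup, ht⟩ := exists_local_preimage S.g W r
  refine compact_induction hK (sepPts_of_t2 K) (fun C => ∃ (W' : Opens Z) (h : W' ≤ W)
      (j : S.X₂.obj.obj (op W')), C ⊆ W' ∧ S.g.hom.app (op W') j = rs S.X₃.obj h r)
    ⟨⊥, bot_le, 0, by simp, @Subsingleton.elim _ (subsingleton_sections_bot' S.X₃) _ _⟩ ?_ ?_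
  · rintro C₁ C₂ - - hc₁ hc₂ ⟨W₁, hle₁, j₁, hC₁, e₁⟩ ⟨W₂, hle₂, j₂, hC₂, e₂⟩
    let d : S.X₂.obj.obj (op (W₁ ⊓ W₂)) := rs _ inf_le_left j₁ - rs _ inf_le_right j₂
    have hd : S.g.hom.app (op (W₁ ⊓ W₂)) d = 0 := by
      have n₁ := ConcreteCategory.congr_hom (S.g.hom.naturality (homOfLE (inf_le_left : W₁ ⊓ W₂ ≤ W₁)).op) j₁
      have n₂ := ConcreteCategory.congr_hom (S.g.hom.naturality (homOfLE (inf_le_right : W₁ ⊓ W₂ ≤ W₂)).op) j₂
      refine (map_sub _ _ _).trans (sub_eq_zero.2 ?_)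
      refine (n₁.trans (congrArg (rs S.X₃.obj inf_le_left) e₁)).trans
        (Eq.trans ?_ (n₂.trans (congrArg (rs S.X₃.obj inf_le_right) e₂)).symm)
      rw [rs_rs, rs_rs]
    obtain ⟨a, ha⟩ := TopCat.Sheaf.sections_exact_of_left_exact hS.exact hS.mono_f d hd
    obtain ⟨T, N, hN, hCN, hT⟩ := h₁ (C₁ ∩ C₂) (hc₁.inter_right hc₂.isClosed) (W₁ ⊓ W₂)
      (fun z hz => ⟨hC₁ hz.1, hC₂ hz.2⟩) a
    let j₂' := j₂ + S.f.hom.app (op W₂) (rs _ le_top T)
    have e₂' : S.g.hom.app (op W₂) j₂' = rs S.X₃.obj hle₂ r := by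
      rw [map_add, app_g_f, add_zero, e₂]
    have hN' : rs S.X₂.obj (hN.trans inf_le_left) j₁ = rs S.X₂.obj (hN.trans inf_le_right) j₂' := by
      have nf : ∀ {A B : Opens Z} (h : B ≤ A) (x : S.X₁.obj.obj (op A)),
          rs S.X₂.obj h (S.f.hom.app (op A) x) = S.f.hom.app (op B) (rs S.X₁.obj h x) :=
        fun h x => (ConcreteCategory.congr_hom (S.f.hom.naturality (homOfLE h).op) x).symm
      rw [map_add, nf, rs_rs, hT, ← nf, ha, map_sub, rs_rs, rs_rs]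
      abel
    obtain ⟨V₁, V₂, h₁', h₂', j, hV₁, hV₂, f₁, f₂⟩ := exists_merge S.X₂ hc₁ hc₂ (sepPts_of_t2 _)
      hC₁ hC₂ j₁ j₂' hCN _ _ hN'
    refine ⟨V₁ ⊔ V₂, sup_le (h₁'.trans hle₁) (h₂'.trans hle₂), j, ?_, ?_⟩
    · rw [Opens.coe_sup]
      exact Set.union_subset_union hV₁ hV₂
    · apply eq_of_rs_eq₂
      · refine (ConcreteCategory.congr_hom (S.g.hom.naturality (homOfLE (le_sup_left : V₁ ≤ V₁ ⊔ V₂)).op) j).symm.trans ?_
        refine ((congrArg (S.g.hom.app (op V₁)) f₁).trans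
          (ConcreteCategory.congr_hom (S.g.hom.naturality (homOfLE h₁').op) j₁)).trans ?_
        exact ((congrArg (rs S.X₃.obj h₁') e₁).trans (rs_rs _ _ _ _)).trans (rs_rs _ _ _ _).symm
      · refine (ConcreteCategory.congr_hom (S.g.hom.naturality (homOfLE (le_sup_right : V₂ ≤ V₁ ⊔ V₂)).op) j).symm.trans ?_
        refine ((congrArg (S.g.hom.app (op V₂)) f₂).trans
          (ConcreteCategory.congr_hom (S.g.hom.naturality (homOfLE h₂').op) j₂')).trans ?_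
        exact ((congrArg (rs S.X₃.obj h₂') e₂').trans (rs_rs _ _ _ _)).trans (rs_rs _ _ _ _).symm
  · intro z hz
    obtain ⟨k, hk⟩ := Opens.mem_iSup.1 (hsup.symm ▸ hW hz : z ∈ iSup V)
    exact ⟨V k, hk, fun C _ _ hC => ⟨V k, hV k, t k, hC, ht k⟩⟩
where
  subsingleton_sections_bot' (G : CohTop.Ab Z) : Subsingleton (G.obj.obj (op (⊥ : Opens Z))) :=
    ⟨fun a b => eq_of_germ_eq G fun x hx => absurd hx (by simp)⟩

lemma isSoft_X₃ (hS : S.ShortExact) (h₁ : IsSoft S.X₁) (h₂ : IsSoft S.X₂) : IsSoft S.X₃ := by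
  intro K hK W hW r
  obtain ⟨W', h, j, hKW', e⟩ := exists_lift_near hS h₁ hK hW r
  obtain ⟨T, W'', h', hKW'', eT⟩ := h₂ K hK W' hKW' j
  refine ⟨S.g.hom.app (op ⊤) T, W'', h'.trans h, hKW'', ?_⟩
  refine ((ConcreteCategory.congr_hom (S.g.hom.naturality (homOfLE (le_top : W'' ≤ ⊤)).op) T).symm.trans
    (congrArg (S.g.hom.app (op W'')) eT)).trans ?_
  refine ((ConcreteCategory.congr_hom (S.g.hom.naturality (homOfLE h').op) j).trans ?_)
  exact (congrArg (rs S.X₃.obj h') e).trans (rs_rs _ _ _ _)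

variable [CompactSpace Z]

lemma surjective_top_of_isSoft (hS : S.ShortExact) (h₁ : IsSoft S.X₁) :
    Function.Surjective (S.g.hom.app (op (⊤ : Opens Z))) := fun r => by
  obtain ⟨W', h, j, hW', e⟩ := exists_lift_near hS h₁ isCompact_univ (W := ⊤) (fun _ _ => trivial) r
  obtain rfl : W' = ⊤ := top_le_iff.1 fun x _ => hW' trivial
  exact ⟨j, e.trans (rs_self _ _ _)⟩

/-- Soft sheaves on compact Hausdorff spaces are acyclic. -/
lemma subsingleton_E_of_isSoft : ∀ (n : ℕ) (G : CohTop.Ab Z), IsSoft G → Subsingleton (E G (n + 1) ⊤) := by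
  intro n
  induction n with
  | zero =>
    intro G hG
    refine subsingleton_of_forall_eq 0 fun x => ?_
    have hS := injSES_shortExact G
    have := subsingleton_E_of_injective (Injective.under G) 0 ⊤
    obtain ⟨y, rfl⟩ := exact₁ hS (zero_add 1) ⊤ x (Subsingleton.elim (α := E (Injective.under G) 1 ⊤) _ _)
    obtain ⟨t, ht⟩ := surjective_top_of_isSoft hS hG (E₀ _ ⊤ y)
    rw [show y = emap (injSES G).g 0 ⊤ ((E₀ _ ⊤).symm t) from (E₀ _ ⊤).injective (by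
      rw [E₀_emap, AddEquiv.apply_symm_apply]; exact ht.symm), δ_emap_g]
  | succ n ih =>
    intro G hG
    have hS := injSES_shortExact G
    have hI : IsSoft (injSES G).X₂ :=
      @isSoft_of_isFlasque _ _ (isFlasque_of_injective (Injective.under G))
    have := ih _ (isSoft_X₃ hS hG hI)
    exact (δ_bijective hS (rfl : n + 1 + 1 = n + 2) ⊤ (subsingleton_E_of_injective (Injective.under G) n ⊤)
      (subsingleton_E_of_injective (Injective.under G) (n + 1) ⊤)).2.subsingleton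

lemma subsingleton_H_of_isSoft (n : ℕ) (G : CohTop.Ab Z) (hG : IsSoft G) :
    Subsingleton (CohTop.H G (n + 1)) := by
  have := subsingleton_E_of_isSoft n G hG
  exact (HEquivTop G (n + 1)).toEquiv.subsingleton

end Acyclic

end Groth.Agent.TopCoh49
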