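import Groth.Agent.TopCoh49.PullMap
import Groth.Agent.TopCoh49.Soft

/-!
Continuity of cohomology for compact subspaces with separated points.
-/

universe u

open CategoryTheory Limits TopologicalSpace Opposite Abelian

namespace Groth.Agent.TopCoh49

variable {Z X : TopCat.{u}} (i : Z ⟶ X)

lemma top_le_map {U : Opens X} (h : Set.range i ⊆ U) : ⊤ ≤ (Opens.map i).obj U :=
  fun z _ => h ⟨z, rfl⟩

/-- Continuity of cohomology at a compact subspace with separated points. -/
theorem pullE_continuity_compact [CompactSpace Z] [T2Space Z] (hi : Topology.IsEmbedding i)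
    (hsep : SepPts (Set.range i)) (p : ℕ) (F : CohTop.Ab X) :
    (∀ y : E ((CohTop.pull i).obj F) p ⊤, ∃ (U : Opens X) (h : Set.range i ⊆ U) (x : E F p U),
        pullE i F p (top_le_map i h) x = y) ∧
      (∀ (U : Opens X) (h : Set.range i ⊆ U) (x : E F p U), pullE i F p (top_le_map i h) x = 0 →
        ∃ (V : Opens X) (hVU : V ≤ U), Set.range i ⊆ V ∧ eres F p hVU x = 0) := by
  refine pullE_continuity i (fun U => Set.range i ⊆ U) (fun U h => top_le_map i h)
    (fun U V hU hV => ⟨U ⊓ V, Set.subset_inter hU hV, inf_le_left, inf_le_right⟩) ?_ ?_ ?_ p F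
  · intro F s
    obtain ⟨Ω, t, W', hW'Ω, hW'top, hΩ, hW', e⟩ := exists_ext_near i hi isCompact_univ
      (fun x hx y hy => hsep x (Set.image_subset_range _ _ hx) y (Set.image_subset_range _ _ hy))
      F (W := ⊤) (fun _ _ => trivial) s
    obtain rfl : W' = ⊤ := top_le_iff.1 fun z _ => hW' trivial
    exact ⟨Ω, by simpa using hΩ, t, e.trans (rs_self _ _ _)⟩
  · intro F U h t ht
    obtain ⟨N, hN₁, hN₂, hN, hNt⟩ := exists_agree F t (0 : F.obj.obj (op U))
    refine ⟨N, hN₁, ?_, hNt.trans (map_zero _)⟩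
    rintro _ ⟨z, rfl⟩
    refine hN _ (h ⟨z, rfl⟩) (h ⟨z, rfl⟩) ((stalkUnit_bijective i F z).1 ?_)
    rw [map_zero, map_zero]
    refine (germ_stalkUnit_apply i F z U _ t).trans ?_
    refine ((germ_rs _ (top_le_map i h) z trivial _).symm.trans (congrArg _ ht)).trans ?_
    exact map_zero _
  · intro I hI q
    have : TopCat.Sheaf.IsFlasque I := isFlasque_of_injective I
    exact subsingleton_E_of_isSoft q _ (isSoft_pull i hi hsep I)

/-- A filtered colimit of abelian groups identified by a compatible family of maps. -/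
lemma nonempty_addEquiv_colimit {I : Type u} [SmallCategory I] [IsFiltered I] (K : I ⥤ AddCommGrpCat.{u})
    (A : Type u) [AddCommGroup A] (φ : ∀ i, K.obj i →+ A)
    (hnat : ∀ {i j} (f : i ⟶ j) (x : K.obj i), φ j (K.map f x) = φ i x)
    (hsurj : ∀ y : A, ∃ i x, φ i x = y)
    (hker : ∀ i (x : K.obj i), φ i x = 0 → ∃ (k : I) (f : i ⟶ k), K.map f x = 0) :
    Nonempty ((colimit K : AddCommGrpCat.{u}) ≃+ A) := by
  let c : Cocone K :=
    { pt := AddCommGrpCat.of A
      ι := { app := fun i => AddCommGrpCat.ofHom (φ i)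
             naturality := fun i j f => by
              ext x
              exact hnat f x } }
  obtain ⟨hc⟩ := nonempty_isColimit_of_surj_ker c hsurj hker
  exact ⟨((colimit.isColimit K).coconePointUniqueUpToIso hc).addCommGroupIsoToAddEquiv⟩

/-- The cohomology presheaf functor restricts by `eres`. -/
lemma cohPre_map (F : CohTop.Ab X) (p : ℕ) {U V : (Opens X)ᵒᵖ} (f : U ⟶ V) (x : E F p U.unop) :
    ((Sheaf.cohomologyPresheafFunctor (Opens.grothendieckTopology X) p).obj F).map f x =
      eres F p (leOfHom f.unop) x :=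
  flip_extFunctor_map (freeFun X) p F f.unop x

end Groth.Agent.TopCoh49
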