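import Groth.Agent.TopCoh49.Compare
import Groth.Agent.TopCoh49.StalkPull
import Mathlib.CategoryTheory.Adjunction.FullyFaithful
import Mathlib.Algebra.Homology.ShortComplex.ExactFunctor

/-!
# Direct image along closed embeddings
-/

set_option autoImplicit false
set_option linter.style.haveILetI false
universe u

open CategoryTheory Limits TopologicalSpace Opposite TopCat

namespace Groth.Agent.TopCoh49

variable {X Y : TopCat.{u}}

theorem epi_push_of_locallyAcyclic (f : X ⟶ Y) {S : ShortComplex (CohTop.Ab X)} (hS : S.ShortExact)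
    (h : LocallyAcyclic f S.X₁) : Epi ((CohTop.push f).map S.g) :=
  epi_of_locally_surjective _ fun U s y hy => by
    obtain ⟨V, hV, hyV, h0⟩ := h 0 U
      (δ hS (zero_add 1) _ ((E₀ S.X₃ ((Opens.map f).obj U)).symm s)) y hy
    erw [eres_δ] at h0
    obtain ⟨z, hz⟩ := exact₃ hS (zero_add 1) _ _ h0
    refine ⟨V, hV, hyV, E₀ S.X₂ ((Opens.map f).obj V) z, ?_⟩
    exact ((E₀_emap S.g _ z).symm.trans (congrArg (E₀ _ _) hz)).trans
      ((E₀_eres _ _ _).trans (congrArg _ ((E₀ S.X₃ ((Opens.map f).obj U)).apply_symm_apply s)))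

theorem preservesFiniteColimits_push (f : X ⟶ Y) (hf : Topology.IsClosedEmbedding f) :
    PreservesFiniteColimits (CohTop.push f) := by
  haveI : PreservesFiniteLimits (CohTop.push f) :=
    haveI : PreservesLimitsOfSize.{0, 0} (CohTop.push f) :=
      (TopCat.Sheaf.pullbackPushforwardAdjunction AddCommGrpCat.{u} f).rightAdjoint_preservesLimits
    PreservesLimitsOfSize.preservesFiniteLimits _
  haveI : (CohTop.push f).Additive := inferInstance
  refine (Functor.preservesFiniteColimits_iff_forall_exact_map_and_epi _).2 fun S hS => ⟨?_, ?_⟩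
  · haveI := hS.mono_f
    haveI : Mono (S.map (CohTop.push f)).f := (CohTop.push f).map_mono S.f
    exact ShortComplex.exact_of_f_is_kernel _ (KernelFork.mapIsLimit _ hS.fIsKernel (CohTop.push f))
  · exact epi_push_of_locallyAcyclic f hS (locallyAcyclic_of_isZero_Rpush f S.X₁
      (fun q => isZero_Rpush_of_isClosedEmbedding f hf S.X₁ q))

theorem isIso_stalk_counit (f : X ⟶ Y) (hf : Topology.IsInducing f) (F : CohTop.Ab X) (x : X) :
    IsIso ((Presheaf.stalkFunctor AddCommGrpCat.{u} x).map
      ((TopCat.Sheaf.pullbackPushforwardAdjunction AddCommGrpCat.{u} f).counit.app F).hom) := by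
  let adj := TopCat.Sheaf.pullbackPushforwardAdjunction AddCommGrpCat.{u} f
  have htri : unitPre f ((CohTop.push f).obj F) ≫
      (Presheaf.pushforward AddCommGrpCat.{u} f).map (adj.counit.app F).hom = 𝟙 _ :=
    congrArg (fun φ => φ.hom) (adj.right_triangle_components F)
  have key : stalkUnit f ((CohTop.push f).obj F) x ≫
      (Presheaf.stalkFunctor AddCommGrpCat.{u} x).map (adj.counit.app F).hom =
        Presheaf.stalkPushforward AddCommGrpCat.{u} f F.obj x := by
    refine TopCat.Presheaf.stalk_hom_ext _ fun U hU => ?_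
    rw [← Category.assoc, germ_stalkUnit, Category.assoc]
    erw [Presheaf.stalkFunctor_map_germ, Presheaf.stalkPushforward_germ]
    refine (Category.assoc _ _ _).symm.trans ?_
    refine (congrArg (· ≫ _) (congrArg (fun φ => NatTrans.app φ (op U)) htri)).trans ?_
    exact Category.id_comp _
  haveI := Presheaf.stalkPushforward.stalkPushforward_iso_of_isInducing (C := AddCommGrpCat.{u}) hf F.obj x
  haveI : IsIso (stalkUnit f ((CohTop.push f).obj F) x ≫
      (Presheaf.stalkFunctor AddCommGrpCat.{u} x).map (adj.counit.app F).hom) :=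
    key.symm ▸ this
  exact IsIso.of_isIso_comp_left (stalkUnit f ((CohTop.push f).obj F) x) _

theorem isIso_counit (f : X ⟶ Y) (hf : Topology.IsInducing f) :
    IsIso (TopCat.Sheaf.pullbackPushforwardAdjunction AddCommGrpCat.{u} f).counit := by
  haveI : ∀ F, IsIso ((TopCat.Sheaf.pullbackPushforwardAdjunction AddCommGrpCat.{u} f).counit.app F) := by
    intro F
    haveI := isIso_stalk_counit f hf F
    exact Presheaf.isIso_of_stalkFunctor_map_iso _
  exact NatIso.isIso_of_isIso_app _

theorem isZero_stalk_push (f : X ⟶ Y) (hf : Topology.IsClosedEmbedding f) (F : CohTop.Ab X) (y : Y)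
    (hy : y ∉ Set.range f) : IsZero (CohTop.stalk ((CohTop.push f).obj F) y) := by
  haveI : Subsingleton (CohTop.stalk ((CohTop.push f).obj F) y) := subsingleton_of_forall_eq 0 fun t => by
    obtain ⟨U, hU, a, rfl⟩ := Presheaf.exists_germ_eq ((CohTop.push f).obj F).obj (x := y) t
    let W : Opens Y := U ⊓ ⟨(Set.range f)ᶜ, hf.isClosed_range.isOpen_compl⟩
    have hb : (Opens.map f).obj W = ⊥ := eq_bot_iff.2 fun z hz => (hz.2 ⟨z, rfl⟩).elim
    rw [← Presheaf.germ_res_apply ((CohTop.push f).obj F).obj
      (homOfLE (inf_le_left : W ≤ U)) y ⟨hU, hy⟩ a]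
    have hsub : Subsingleton (F.obj.obj (op ((Opens.map f).obj W))) := hb ▸ subsingleton_sections_bot F
    have h0 : ((CohTop.push f).obj F).obj.map (homOfLE (inf_le_left : W ≤ U)).op a = 0 := hsub.elim _ _
    exact (congrArg _ h0).trans (map_zero _)
  exact AddCommGrpCat.isZero_of_subsingleton _

theorem essImage_push_iff (f : X ⟶ Y) (hf : Topology.IsClosedEmbedding f) (G : CohTop.Ab Y) :
    (CohTop.push f).essImage G ↔ ∀ y : Y, y ∉ Set.range f → IsZero (CohTop.stalk G y) := by
  constructor
  · rintro ⟨F, ⟨e⟩⟩ y hy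
    exact (isZero_stalk_push f hf F y hy).of_iso
      (((sheafToPresheaf _ _ ⋙ Presheaf.stalkFunctor AddCommGrpCat.{u} y).mapIso e).symm)
  · intro h
    let adj := TopCat.Sheaf.pullbackPushforwardAdjunction AddCommGrpCat.{u} f
    haveI : ∀ y : Y, IsIso ((Presheaf.stalkFunctor AddCommGrpCat.{u} y).map (adj.unit.app G).hom) := by
      intro y
      by_cases hy : y ∈ Set.range f
      · obtain ⟨x, rfl⟩ := hy
        have hsp := Presheaf.stalkPushforward.stalkPushforward_iso_of_isInducing (C := AddCommGrpCat.{u})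
          hf.isInducing ((CohTop.pull f).obj G).obj x
        haveI : IsIso ((Presheaf.stalkFunctor AddCommGrpCat.{u} (f x)).map (adj.unit.app G).hom ≫
            Presheaf.stalkPushforward AddCommGrpCat.{u} f ((CohTop.pull f).obj G).obj x) :=
          isIso_stalkUnit f G x
        exact @IsIso.of_isIso_comp_right _ _ _ _ _ _
          (Presheaf.stalkPushforward AddCommGrpCat.{u} f ((CohTop.pull f).obj G).obj x) hsp this
      · exact Limits.isIso_of_isInitial (h y hy).isInitial (isZero_stalk_push f hf _ y hy).isInitial _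
    haveI : IsIso (adj.unit.app G) := Presheaf.isIso_of_stalkFunctor_map_iso _
    exact ⟨(CohTop.pull f).obj G, ⟨(asIso (adj.unit.app G)).symm⟩⟩

end Groth.Agent.TopCoh49
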