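import Groth.Agent.TopCoh49.Inst

universe u

open CategoryTheory Limits TopologicalSpace Opposite Abelian

namespace Groth.Agent.TopCoh49

universe w v₁ u₁ v₂ u₂

lemma flip_extFunctor_map {C : Type u₁} [Category.{v₁} C] {A : Type u₂} [Category.{v₂} A] [Abelian A]
    [HasExt.{w} A] (G : C ⥤ A) (n : ℕ) (F : A) {U V : C} (f : V ⟶ U) (x : Ext.{w} (G.obj U) F n) :
    (((G.op ⋙ Abelian.extFunctor n).flip.obj F).map f.op).hom x =
      (Ext.mk₀ (G.map f)).comp x (zero_add n) := rfl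

lemma flip_extFunctor_map_app {C : Type u₁} [Category.{v₁} C] {A : Type u₂} [Category.{v₂} A] [Abelian A]
    [HasExt.{w} A] (G : C ⥤ A) (n : ℕ) {F F' : A} (g : F ⟶ F') (U : C) (x : Ext.{w} (G.obj U) F n) :
    ((((G.op ⋙ Abelian.extFunctor n).flip).map g).app (op U)).hom x =
      x.comp (Ext.mk₀ g) (add_zero n) := rfl

variable {X : TopCat.{u}}

/-- The free abelian sheaf functor on opens. -/
noncomputable abbrev freeFun (X : TopCat.{u}) : Opens X ⥤ CohTop.Ab X :=
  yoneda ⋙ (Functor.whiskeringRight _ _ _).obj AddCommGrpCat.free ⋙ presheafToSheaf _ _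

/-- The free abelian sheaf on an open. -/
noncomputable abbrev freeU (U : Opens X) : CohTop.Ab X := (freeFun X).obj U

/-- Maps out of the free sheaf on `U` are sections over `U`. -/
noncomputable def freeHomEquiv (U : Opens X) (F : CohTop.Ab X) :
    (freeU U ⟶ F) ≃ F.obj.obj (op U) :=
  ((sheafificationAdjunction _ _).homEquiv _ F).trans
    (((AddCommGrpCat.adj.whiskerRight _).homEquiv (yoneda.obj U) F.obj).trans yonedaEquiv)

/-- The tautological section of the free sheaf on `U`. -/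
noncomputable def gen (U : Opens X) : (freeU U).obj.obj (op U) := freeHomEquiv U _ (𝟙 _)

lemma freeHomEquiv_comp (U : Opens X) {F G : CohTop.Ab X} (φ : freeU U ⟶ F) (g : F ⟶ G) :
    freeHomEquiv U G (φ ≫ g) = g.hom.app (op U) (freeHomEquiv U F φ) := by
  simp only [freeHomEquiv, Equiv.trans_apply, Adjunction.homEquiv_naturality_right]
  erw [Adjunction.homEquiv_naturality_right, yonedaEquiv_comp]

lemma freeHomEquiv_precomp {U V : Opens X} (i : V ⟶ U) {F : CohTop.Ab X} (φ : freeU U ⟶ F) :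
    freeHomEquiv V F ((freeFun X).map i ≫ φ) = F.obj.map i.op (freeHomEquiv U F φ) := by
  simp only [freeHomEquiv, Equiv.trans_apply]
  change yonedaEquiv (((AddCommGrpCat.adj.whiskerRight _).homEquiv (yoneda.obj V) F.obj)
    ((sheafificationAdjunction _ _).homEquiv _ F
      ((presheafToSheaf _ _).map (((Functor.whiskeringRight _ _ _).obj AddCommGrpCat.free).map (yoneda.map i)) ≫ φ))) = _
  rw [Adjunction.homEquiv_naturality_left, Adjunction.homEquiv_naturality_left,
    ← yonedaEquiv_naturality]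
  rfl

lemma freeHomEquiv_add (U : Opens X) {F : CohTop.Ab X} (φ ψ : freeU U ⟶ F) :
    freeHomEquiv U F (φ + ψ) = freeHomEquiv U F φ + freeHomEquiv U F ψ := by
  have h : ∀ χ : freeU U ⟶ F, freeHomEquiv U F χ = χ.hom.app (op U) (gen U) := fun χ => by
    rw [gen, ← freeHomEquiv_comp, Category.id_comp]
  simp only [h]
  rfl

/-- `freeHomEquiv` as an additive equivalence. -/
noncomputable def freeHomAddEquiv (U : Opens X) (F : CohTop.Ab X) :
    (freeU U ⟶ F) ≃+ F.obj.obj (op U) :=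
  { freeHomEquiv U F with map_add' := freeHomEquiv_add U }

instance mono_freeFun_map {U V : Opens X} (i : V ⟶ U) : Mono ((freeFun X).map i) := by
  dsimp
  infer_instance

lemma addEquiv₀_mk₀ {A B : CohTop.Ab X} (f : A ⟶ B) : Ext.addEquiv₀ (Ext.mk₀ f) = f :=
  Ext.homEquiv₀.apply_symm_apply f

/-- Cohomology over `U`, as a plain Ext group. -/
noncomputable abbrev E (F : CohTop.Ab X) (n : ℕ) (U : Opens X) : Type u := Ext.{u} (freeU U) F n

/-- Restriction, for `E`. -/
noncomputable abbrev eres (F : CohTop.Ab X) (n : ℕ) {U V : Opens X} (h : V ≤ U) : E F n U →+ E F n V :=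
  (Ext.mk₀ ((freeFun X).map (homOfLE h))).precomp F (zero_add n)

/-- Functoriality, for `E`. -/
noncomputable abbrev emap {F G : CohTop.Ab X} (g : F ⟶ G) (n : ℕ) (U : Opens X) : E F n U →+ E G n U :=
  (Ext.mk₀ g).postcomp (freeU U) (add_zero n)

/-- `CohTop.res` is `eres`. -/
lemma res_eq_eres (F : CohTop.Ab X) (n : ℕ) {U V : Opens X} (h : V ≤ U) (x : E F n U) :
    CohTop.res F n h x = eres F n h x :=
  flip_extFunctor_map (freeFun X) n F (homOfLE h) x

/-- `CohTop.HUmap` is `emap`. -/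
lemma HUmap_eq_emap {F G : CohTop.Ab X} (g : F ⟶ G) (n : ℕ) (U : Opens X) (x : E F n U) :
    CohTop.HUmap g n U x = emap g n U x :=
  flip_extFunctor_map_app (freeFun X) n g U x

/-- Degree zero cohomology over `U` is sections over `U`. -/
noncomputable def E₀ (F : CohTop.Ab X) (U : Opens X) : E F 0 U ≃+ F.obj.obj (op U) :=
  Ext.addEquiv₀.trans (freeHomAddEquiv U F)

lemma E₀_mk₀ (F : CohTop.Ab X) (U : Opens X) (f : freeU U ⟶ F) :
    E₀ F U (Ext.mk₀ f) = freeHomEquiv U F f :=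
  congrArg (freeHomEquiv U F) (addEquiv₀_mk₀ f)

lemma E₀_emap {F G : CohTop.Ab X} (g : F ⟶ G) (U : Opens X) (x : E F 0 U) :
    E₀ G U (emap g 0 U x) = g.hom.app (op U) (E₀ F U x) := by
  obtain ⟨f, rfl⟩ := (Ext.mk₀_bijective _ _).surjective x
  change E₀ G U ((Ext.mk₀ f).comp (Ext.mk₀ g) (add_zero 0)) = _
  rw [Ext.mk₀_comp_mk₀, E₀_mk₀, E₀_mk₀, freeHomEquiv_comp]

lemma E₀_eres (F : CohTop.Ab X) {U V : Opens X} (h : V ≤ U) (x : E F 0 U) :
    E₀ F V (eres F 0 h x) = F.obj.map (homOfLE h).op (E₀ F U x) := by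
  obtain ⟨f, rfl⟩ := (Ext.mk₀_bijective _ _).surjective x
  change E₀ F V ((Ext.mk₀ _).comp (Ext.mk₀ f) (zero_add 0)) = _
  rw [Ext.mk₀_comp_mk₀, E₀_mk₀, E₀_mk₀, freeHomEquiv_precomp]

theorem isFlasque_of_injective (F : CohTop.Ab X) [Injective F] : TopCat.Sheaf.IsFlasque F := by
  constructor
  rintro ⟨U⟩ ⟨V⟩ ⟨i⟩
  rw [AddCommGrpCat.epi_iff_surjective]
  intro s
  refine ⟨freeHomEquiv U F (Injective.factorThru ((freeHomEquiv V F).symm s) ((freeFun X).map i)), ?_⟩
  refine (freeHomEquiv_precomp i _).symm.trans ?_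
  rw [Injective.comp_factorThru, Equiv.apply_symm_apply]

end Groth.Agent.TopCoh49
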