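import Groth.Agent.TopCoh49.Continuity
import Mathlib.Topology.Sheaves.Sheafify

/-!
Stalks of higher direct images as colimits of cohomology, identified by continuity.
-/

universe u

open CategoryTheory Limits TopologicalSpace Opposite Abelian

namespace Groth.Agent.TopCoh49

variable {X Y Z : TopCat.{u}} (i : Z ⟶ X) (f : X ⟶ Y) (y : Y) (F : CohTop.Ab X) (p : ℕ)

/-- Stalk of a higher direct image via continuity of cohomology at a subspace. -/
theorem stalk_Rpush_equiv (htop : ∀ V : Opens Y, y ∈ V → ⊤ ≤ (Opens.map i).obj ((Opens.map f).obj V))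
    (hsurj : ∀ z : E ((CohTop.pull i).obj F) p ⊤, ∃ (V : Opens Y) (hV : y ∈ V)
      (x : E F p ((Opens.map f).obj V)), pullE i F p (htop V hV) x = z)
    (hker : ∀ (V : Opens Y) (hV : y ∈ V) (x : E F p ((Opens.map f).obj V)),
      pullE i F p (htop V hV) x = 0 →
        ∃ (V' : Opens Y) (hle : V' ≤ V), y ∈ V' ∧ eres F p ((Opens.map f).monotone hle) x = 0) :
    Nonempty (CohTop.stalk ((CohTop.Rpush f p).obj F) y ≅
      AddCommGrpCat.of (CohTop.H ((CohTop.pull i).obj F) p)) := by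
  let H := HEquivTop ((CohTop.pull i).obj F) p
  let K := (OpenNhds.inclusion y).op ⋙ hPre f F p
  have hmap : ∀ {N M : (OpenNhds y)ᵒᵖ} (g : N ⟶ M) (x : E F p ((Opens.map f).obj N.unop.1)),
      K.map g x = eres F p ((Opens.map f).monotone (leOfHom ((OpenNhds.inclusion y).map g.unop))) x :=
    fun g x => flip_extFunctor_map (freeFun X) p F
      (homOfLE ((Opens.map f).monotone (leOfHom ((OpenNhds.inclusion y).map g.unop)))) x
  obtain ⟨e⟩ := nonempty_addEquiv_colimit K (CohTop.H ((CohTop.pull i).obj F) p)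
    (fun N => H.symm.toAddMonoidHom.comp (pullE i F p (htop N.unop.1 N.unop.2)))
    (fun {N M} g x => congrArg H.symm ((congrArg _ (hmap g x)).trans
      (pullE_eres i F p ((Opens.map f).monotone (leOfHom ((OpenNhds.inclusion y).map g.unop)))
        (htop M.unop.1 M.unop.2) x)))
    (fun z => by
      obtain ⟨V, hV, x, hx⟩ := hsurj (H z)
      exact ⟨op ⟨V, hV⟩, x, (congrArg H.symm hx).trans (H.symm_apply_apply z)⟩)
    (fun N x hx => by
      obtain ⟨V', hle, hyV', h0⟩ := hker N.unop.1 N.unop.2 x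
        ((map_eq_zero_iff _ H.symm.injective).1 hx)
      let M : OpenNhds y := ⟨V', hyV'⟩
      exact ⟨op M, (homOfLE (show M ≤ N.unop from hle)).op, (hmap _ x).trans h0⟩)
  have := TopCat.Presheaf.stalkFunctor_map_unit_toSheafify_isIso y AddCommGrpCat.{u} (hPre f F p)
  exact ⟨(TopCat.Presheaf.stalkFunctor AddCommGrpCat.{u} y).mapIso
      ((sheafToPresheaf _ _).mapIso (RpushIso f F p)) ≪≫
    (@asIso _ _ _ _ _ this).symm ≪≫ e.toAddCommGrpIso⟩

/-- Stalks of higher direct images along a closed map with compact separated fibre. -/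
theorem stalk_Rpush_of_closed [CompactSpace Z] [T2Space Z] (hi : Topology.IsEmbedding i)
    (hsep : SepPts (Set.range i)) (hrange : Set.range i = f ⁻¹' {y}) (hf : IsClosedMap f) :
    Nonempty (CohTop.stalk ((CohTop.Rpush f p).obj F) y ≅
      AddCommGrpCat.of (CohTop.H ((CohTop.pull i).obj F) p)) := by
  have htop : ∀ V : Opens Y, y ∈ V → Set.range i ⊆ ((Opens.map f).obj V : Set X) := fun V hV a ha =>
    show f a ∈ V from (hrange.le ha : f a = y).symm ▸ hV
  have hcof : ∀ W : Opens X, Set.range i ⊆ W → ∃ V : Opens Y, y ∈ V ∧ (Opens.map f).obj V ≤ W := fun W hW => by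
    refine ⟨⟨(f '' (W : Set X)ᶜ)ᶜ, (hf _ W.2.isClosed_compl).isOpen_compl⟩, ?_, fun a ha => ?_⟩
    · rintro ⟨a, ha, hay⟩
      exact ha (hW (hrange.ge hay))
    · by_contra hc
      exact ha ⟨a, hc, rfl⟩
  have hc := pullE_continuity_compact i hi hsep p F
  refine stalk_Rpush_equiv i f y F p (fun V hV => top_le_map i (htop V hV)) (fun z => ?_) fun V hV x hx => ?_
  · obtain ⟨W, hW, x, hx⟩ := hc.1 z
    obtain ⟨V, hV, hVW⟩ := hcof W hW
    exact ⟨V, hV, eres F p hVW x, (pullE_eres i F p hVW (top_le_map i (htop V hV)) x).trans hx⟩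
  · obtain ⟨W, hWV, hW, h0⟩ := hc.2 _ (htop V hV) x hx
    obtain ⟨V', hV', hV'W⟩ := hcof W hW
    refine ⟨V' ⊓ V, inf_le_right, ⟨hV', hV⟩, ?_⟩
    have hle : (Opens.map f).obj (V' ⊓ V) ≤ W := fun a ha => hV'W ha.1
    refine (eres_eres F p hWV hle x).symm.trans ?_
    rw [h0, map_zero]

end Groth.Agent.TopCoh49
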