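import Groth.Agent.TopCoh49.Cech
import Mathlib.LinearAlgebra.Finsupp.LinearCombination
import Mathlib.SetTheory.Cardinal.Finite

/-!
# The Čech complex of ordered cochains of a finite family, and of a family with a largest member
-/

set_option autoImplicit false
set_option linter.style.haveILetI false
universe u

open CategoryTheory Limits TopologicalSpace Opposite

namespace Groth.Agent.TopCoh49

namespace OrdChain

variable {ι : Type u}

/-- Chains on tuples of length `m`. -/
abbrev C (ι : Type u) (m : ℕ) : Type u := (Fin m → ι) →₀ ℤ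

/-- The boundary, with augmentation in length `0`. -/
noncomputable def bd (m : ℕ) : C ι (m + 1) →ₗ[ℤ] C ι m :=
  Finsupp.linearCombination ℤ fun a => ∑ j : Fin (m + 1), (-1 : ℤ) ^ (j : ℕ) • Finsupp.single (a ∘ j.succAbove) 1

theorem bd_single (m : ℕ) (a : Fin (m + 1) → ι) :
    bd m (Finsupp.single a 1) = ∑ j : Fin (m + 1), (-1 : ℤ) ^ (j : ℕ) • Finsupp.single (a ∘ j.succAbove) 1 := by
  rw [bd, Finsupp.linearCombination_single, one_smul]

/-- Prepend a vertex. -/
noncomputable def cone (m : ℕ) (v : ι) : C ι m →ₗ[ℤ] C ι (m + 1) :=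
  Finsupp.linearCombination ℤ fun b => Finsupp.single (Fin.cons v b) 1

theorem cone_single (m : ℕ) (v : ι) (b : Fin m → ι) :
    cone m v (Finsupp.single b 1) = Finsupp.single (Fin.cons v b) 1 := by
  rw [cone, Finsupp.linearCombination_single, one_smul]

theorem cons_comp_succAbove_zero {m : ℕ} (v : ι) (b : Fin m → ι) :
    (Fin.cons v b : Fin (m + 1) → ι) ∘ (0 : Fin (m + 1)).succAbove = b :=
  funext fun k => by simp

theorem cons_comp_succAbove_succ {m : ℕ} (v : ι) (b : Fin (m + 1) → ι) (j : Fin (m + 1)) :
    (Fin.cons v b : Fin (m + 2) → ι) ∘ j.succ.succAbove = Fin.cons v (b ∘ j.succAbove) :=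
  funext fun k => by
    induction k using Fin.cases with
    | zero => simp
    | succ k => simp

theorem bd_cone (m : ℕ) (v : ι) (c : C ι (m + 1)) : bd (m + 1) (cone (m + 1) v c) = c - cone m v (bd m c) := by
  refine LinearMap.congr_fun (f := bd (m + 1) ∘ₗ cone (m + 1) v)
    (g := LinearMap.id - cone m v ∘ₗ bd m) (Finsupp.lhom_ext' fun b => LinearMap.ext_ring ?_) c
  show bd (m + 1) (cone (m + 1) v (Finsupp.single b 1)) = Finsupp.single b 1 - cone m v (bd m (Finsupp.single b 1))
  rw [cone_single, bd_single, bd_single, map_sum, Fin.sum_univ_succ, cons_comp_succAbove_zero]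
  simp only [Fin.val_zero, pow_zero, one_smul, map_zsmul, cone_single, cons_comp_succAbove_succ,
    Fin.val_succ, pow_succ, mul_neg_one, neg_smul, Finset.sum_neg_distrib, sub_eq_add_neg]

theorem bd_single_zero (a : Fin 1 → ι) :
    bd 0 (Finsupp.single a 1) = Finsupp.single (default : Fin 0 → ι) 1 := by
  refine (bd_single 0 a).trans ((Fin.sum_univ_succ _).trans ?_)
  simp [Subsingleton.elim (a ∘ (0 : Fin 1).succAbove) default]

theorem bd_bd : ∀ (m : ℕ) (c : C ι (m + 2)), bd m (bd (m + 1) c) = 0 := by
  intro m
  induction m with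
  | zero =>
    intro c
    refine LinearMap.congr_fun (f := bd 0 ∘ₗ bd 1) (g := 0) (Finsupp.lhom_ext' fun a => LinearMap.ext_ring ?_) c
    show bd 0 (bd 1 (Finsupp.single a 1)) = 0
    rw [← Fin.cons_self_tail a, ← cone_single, bd_cone, map_sub, bd_single]
    simp [cone_single, bd_single, Fin.sum_univ_succ, Subsingleton.elim (Fin.tail a ∘ (0 : Fin 1).succAbove) default,
      Subsingleton.elim ((Fin.cons (a 0) (default : Fin 0 → ι) : Fin 1 → ι) ∘ (0 : Fin 1).succAbove) default]
  | succ m ih =>
    intro c
    refine LinearMap.congr_fun (f := bd (m + 1) ∘ₗ bd (m + 2)) (g := 0)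
      (Finsupp.lhom_ext' fun a => LinearMap.ext_ring ?_) c
    show bd (m + 1) (bd (m + 2) (Finsupp.single a 1)) = 0
    rw [← Fin.cons_self_tail a, ← cone_single, bd_cone, map_sub, bd_cone, ih, map_zero, sub_zero, sub_self]

/-- Chains on tuples taking values in a set. -/
noncomputable abbrev supp (m : ℕ) (s : Set ι) : Submodule ℤ (C ι m) :=
  Finsupp.supported ℤ ℤ {b | Set.range b ⊆ s}

theorem mem_supp_single {m : ℕ} {s : Set ι} {b : Fin m → ι} (h : Set.range b ⊆ s) :
    Finsupp.single b (1 : ℤ) ∈ supp m s :=
  Finsupp.single_mem_supported ℤ 1 h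

theorem bd_mem {m : ℕ} {s : Set ι} {c : C ι (m + 1)} (h : c ∈ supp (m + 1) s) : bd m c ∈ supp m s := by
  rw [supp, Finsupp.supported_eq_span_single] at h
  induction h using Submodule.span_induction with
  | zero => rw [map_zero]; exact zero_mem _
  | add x y _ _ hx hy => rw [map_add]; exact add_mem hx hy
  | smul r x _ hx => rw [map_smul]; exact Submodule.smul_mem _ r hx
  | mem x hx =>
    obtain ⟨b, hb, rfl⟩ := hx
    show bd m (Finsupp.single b 1) ∈ _
    rw [bd_single]
    exact Submodule.sum_mem _ fun j _ => Submodule.smul_mem _ _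
      (mem_supp_single ((Set.range_comp_subset_range _ _).trans hb))

theorem cone_mem {m : ℕ} {s : Set ι} {v : ι} (hv : v ∈ s) {c : C ι m} (h : c ∈ supp m s) :
    cone m v c ∈ supp (m + 1) s := by
  rw [supp, Finsupp.supported_eq_span_single] at h
  induction h using Submodule.span_induction with
  | zero => rw [map_zero]; exact zero_mem _
  | add x y _ _ hx hy => rw [map_add]; exact add_mem hx hy
  | smul r x _ hx => rw [map_smul]; exact Submodule.smul_mem _ r hx
  | mem x hx =>
    obtain ⟨b, hb, rfl⟩ := hx
    show cone m v (Finsupp.single b 1) ∈ _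
    rw [cone_single]
    refine mem_supp_single ?_
    rw [Fin.range_cons]
    exact Set.insert_subset hv hb

variable [LinearOrder ι]

/-- Chains on increasing tuples taking values in a set. -/
noncomputable abbrev inc (m : ℕ) (s : Set ι) : Submodule ℤ (C ι m) :=
  Finsupp.supported ℤ ℤ {b | StrictMono b ∧ Set.range b ⊆ s}

/-- Prepend a vertex to the tuples lying strictly above it. -/
noncomputable def cone' (m : ℕ) (v : ι) : C ι m →ₗ[ℤ] C ι (m + 1) :=
  Finsupp.linearCombination ℤ fun b => if ∀ k, v < b k then Finsupp.single (Fin.cons v b) 1 else 0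

theorem cone'_single (m : ℕ) (v : ι) (b : Fin m → ι) :
    cone' m v (Finsupp.single b 1) = if ∀ k, v < b k then Finsupp.single (Fin.cons v b) 1 else 0 := by
  rw [cone', Finsupp.linearCombination_single, one_smul]

theorem cone'_mem {m : ℕ} {s : Set ι} {v : ι} (hv : v ∈ s) {c : C ι m} (h : c ∈ inc m s) :
    cone' m v c ∈ inc (m + 1) s := by
  rw [inc, Finsupp.supported_eq_span_single] at h
  induction h using Submodule.span_induction with
  | zero => rw [map_zero]; exact zero_mem _
  | add x y _ _ hx hy => rw [map_add]; exact add_mem hx hy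
  | smul r x _ hx => rw [map_smul]; exact Submodule.smul_mem _ r hx
  | mem x hx =>
    obtain ⟨b, hb, rfl⟩ := hx
    show cone' m v (Finsupp.single b 1) ∈ _
    rw [cone'_single]
    split_ifs with hk
    · refine Finsupp.single_mem_supported ℤ 1 ⟨?_, ?_⟩
      · intro i j hij
        induction j using Fin.cases with
        | zero => exact absurd hij (Fin.not_lt_zero i)
        | succ j =>
          induction i using Fin.cases with
          | zero => simpa using hk j
          | succ i => simpa using hb.1 (Fin.succ_lt_succ_iff.1 hij)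
      · rw [Fin.range_cons]
        exact Set.insert_subset hv hb.2
    · exact zero_mem _

theorem bd_cone' {m : ℕ} {s : Set ι} {v : ι} (hs : ∀ x ∈ s, v ≤ x) {c : C ι (m + 1)}
    (h : c ∈ inc (m + 1) s) : bd (m + 1) (cone' (m + 1) v c) = c - cone' m v (bd m c) := by
  rw [inc, Finsupp.supported_eq_span_single] at h
  induction h using Submodule.span_induction with
  | zero => simp
  | add x y _ _ hx hy => simp only [map_add, hx, hy]; abel
  | smul r x _ hx => simp only [map_smul, hx, smul_sub]
  | mem x hx =>
    obtain ⟨b, ⟨hb, hbs⟩, rfl⟩ := hx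
    have hge : ∀ k, v ≤ b k := fun k => hs _ (hbs ⟨k, rfl⟩)
    show bd (m + 1) (cone' (m + 1) v (Finsupp.single b 1)) = Finsupp.single b 1 - cone' m v (bd m (Finsupp.single b 1))
    rw [cone'_single]
    by_cases hk : ∀ k, v < b k
    · rw [if_pos hk, ← cone_single, bd_cone]
      congr 1
      rw [bd_single, map_sum, map_sum]
      refine Finset.sum_congr rfl fun j _ => ?_
      rw [map_zsmul, map_zsmul, cone_single, cone'_single,
        if_pos (show ∀ k, v < (b ∘ j.succAbove) k from fun k => hk (j.succAbove k))]
    · rw [if_neg hk, map_zero]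
      push Not at hk
      obtain ⟨k, hk⟩ := hk
      have h0 : b 0 = v := le_antisymm ((hb.monotone (Fin.zero_le k)).trans hk) (hge 0)
      rw [bd_single, map_sum, Fin.sum_univ_succ, Finset.sum_eq_zero, add_zero]
      · rw [Fin.val_zero, pow_zero, one_smul, cone'_single, if_pos, ← h0,
          show Fin.cons (b 0) (b ∘ (0 : Fin (m + 1)).succAbove) = b from by
            rw [Fin.succAbove_zero]; exact Fin.cons_self_tail b, sub_self]
        intro i
        rw [← h0]
        exact hb (by simp)
      · intro j _
        rw [map_zsmul, cone'_single, if_neg, smul_zero]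
        intro hall
        obtain ⟨n, rfl⟩ : ∃ n, m = n + 1 := ⟨m - 1, (Nat.succ_pred_eq_of_pos (Fin.pos j)).symm⟩
        have := hall 0
        rw [Function.comp_apply, Fin.succ_succAbove_zero, h0] at this
        exact lt_irrefl v this

/-- The least entry of a tuple. -/
noncomputable def least {m : ℕ} (a : Fin (m + 1) → ι) : ι :=
  (Finset.univ.image a).min' (Finset.univ_nonempty.image a)

theorem least_mem {m : ℕ} (a : Fin (m + 1) → ι) : least a ∈ Set.range a := by
  have := Finset.min'_mem _ (Finset.univ_nonempty.image a)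
  obtain ⟨k, -, hk⟩ := Finset.mem_image.1 this
  exact ⟨k, hk⟩

theorem least_le {m : ℕ} (a : Fin (m + 1) → ι) : ∀ x ∈ Set.range a, least a ≤ x := by
  rintro _ ⟨k, rfl⟩
  exact Finset.min'_le _ _ (Finset.mem_image_of_mem a (Finset.mem_univ k))

/-- The projection onto increasing chains. -/
noncomputable def proj : (m : ℕ) → C ι m →ₗ[ℤ] C ι m
  | 0 => LinearMap.id
  | m + 1 => Finsupp.linearCombination ℤ fun a => cone' m (least a) (proj m (bd m (Finsupp.single a 1)))

theorem proj_mem : ∀ {m : ℕ} {s : Set ι} {c : C ι m}, c ∈ supp m s → proj m c ∈ inc m s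
  | 0, s, c, h => fun b hb => ⟨fun i => i.elim0, h hb⟩
  | m + 1, s, c, h => by
    rw [supp, Finsupp.supported_eq_span_single] at h
    induction h using Submodule.span_induction with
    | zero => rw [map_zero]; exact zero_mem _
    | add x y _ _ hx hy => rw [map_add]; exact add_mem hx hy
    | smul r x _ hx => rw [map_smul]; exact Submodule.smul_mem _ r hx
    | mem x hx =>
      obtain ⟨a, ha, rfl⟩ := hx
      show proj (m + 1) (Finsupp.single a 1) ∈ _
      rw [proj, Finsupp.linearCombination_single, one_smul]
      exact cone'_mem (ha (least_mem a)) (proj_mem (bd_mem (mem_supp_single ha)))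

theorem bd_proj : ∀ (m : ℕ) (c : C ι (m + 1)), bd m (proj (m + 1) c) = proj m (bd m c) := by
  intro m
  induction m with
  | zero =>
    intro c
    refine LinearMap.congr_fun (f := bd 0 ∘ₗ proj 1) (g := proj 0 ∘ₗ bd 0)
      (Finsupp.lhom_ext' fun a => LinearMap.ext_ring ?_) c
    show bd 0 (proj 1 (Finsupp.single a 1)) = proj 0 (bd 0 (Finsupp.single a 1))
    simp only [proj, Finsupp.linearCombination_single, one_smul, LinearMap.id_apply]
    rw [bd_single_zero a, cone'_single, if_pos (fun k : Fin 0 => k.elim0)]
    exact bd_single_zero _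
  | succ m ih =>
    intro c
    refine LinearMap.congr_fun (f := bd (m + 1) ∘ₗ proj (m + 2)) (g := proj (m + 1) ∘ₗ bd (m + 1))
      (Finsupp.lhom_ext' fun a => LinearMap.ext_ring ?_) c
    show bd (m + 1) (proj (m + 2) (Finsupp.single a 1)) = proj (m + 1) (bd (m + 1) (Finsupp.single a 1))
    conv_lhs => rw [proj, Finsupp.linearCombination_single, one_smul]
    rw [bd_cone' (least_le a) (proj_mem (bd_mem (mem_supp_single le_rfl))), ih, bd_bd, map_zero, map_zero,
      sub_zero]

/-- The homotopy. -/
noncomputable def htp : (m : ℕ) → C ι m →ₗ[ℤ] C ι (m + 1)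
  | 0 => 0
  | m + 1 => Finsupp.linearCombination ℤ fun a =>
      cone (m + 1) (a 0) (proj (m + 1) (Finsupp.single a 1) - Finsupp.single a 1 - htp m (bd m (Finsupp.single a 1)))

theorem htp_mem : ∀ {m : ℕ} {s : Set ι} {c : C ι m}, c ∈ supp m s → htp m c ∈ supp (m + 1) s
  | 0, s, c, h => by rw [htp, LinearMap.zero_apply]; exact zero_mem _
  | m + 1, s, c, h => by
    rw [supp, Finsupp.supported_eq_span_single] at h
    induction h using Submodule.span_induction with
    | zero => rw [map_zero]; exact zero_mem _
    | add x y _ _ hx hy => rw [map_add]; exact add_mem hx hy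
    | smul r x _ hx => rw [map_smul]; exact Submodule.smul_mem _ r hx
    | mem x hx =>
      obtain ⟨a, ha, rfl⟩ := hx
      show htp (m + 1) (Finsupp.single a 1) ∈ _
      rw [htp, Finsupp.linearCombination_single, one_smul]
      exact cone_mem (ha ⟨0, rfl⟩) (sub_mem (sub_mem
        (Finsupp.supported_mono (fun b hb => hb.2) (proj_mem (mem_supp_single ha))) (mem_supp_single ha))
        (htp_mem (bd_mem (mem_supp_single ha))))

theorem htp_spec : ∀ (m : ℕ) (c : C ι (m + 1)),
    bd (m + 1) (htp (m + 1) c) + htp m (bd m c) = proj (m + 1) c - c := by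
  intro m
  induction m with
  | zero =>
    intro c
    refine LinearMap.congr_fun (f := bd 1 ∘ₗ htp 1 + htp 0 ∘ₗ bd 0) (g := proj 1 - LinearMap.id)
      (Finsupp.lhom_ext' fun a => LinearMap.ext_ring ?_) c
    show bd 1 (htp 1 (Finsupp.single a 1)) + htp 0 (bd 0 (Finsupp.single a 1)) = proj 1 (Finsupp.single a 1) - Finsupp.single a 1
    conv_lhs => enter [1]; rw [htp, Finsupp.linearCombination_single, one_smul, bd_cone]
    simp only [htp, LinearMap.zero_apply, map_sub, bd_proj]
    simp [proj]
  | succ m ih =>
    intro c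
    refine LinearMap.congr_fun (f := bd (m + 2) ∘ₗ htp (m + 2) + htp (m + 1) ∘ₗ bd (m + 1))
      (g := proj (m + 2) - LinearMap.id) (Finsupp.lhom_ext' fun a => LinearMap.ext_ring ?_) c
    show bd (m + 2) (htp (m + 2) (Finsupp.single a 1)) + htp (m + 1) (bd (m + 1) (Finsupp.single a 1)) =
      proj (m + 2) (Finsupp.single a 1) - Finsupp.single a 1
    conv_lhs => enter [1]; rw [htp, Finsupp.linearCombination_single, one_smul, bd_cone]
    have hih := ih (bd (m + 1) (Finsupp.single a 1))
    rw [bd_bd, map_zero, add_zero] at hih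
    simp only [map_sub, bd_proj, hih, sub_self, map_zero, sub_zero]
    abel

theorem inc_eq_bot [Finite ι] {m : ℕ} (s : Set ι) (h : Nat.card ι < m) : inc m s = ⊥ := by
  rw [inc, show {b : Fin m → ι | StrictMono b ∧ Set.range b ⊆ s} = ∅ from Set.eq_empty_of_forall_notMem
    fun b hb => absurd (Nat.card_le_card_of_injective b hb.1.injective) (by simpa using h),
    Finsupp.supported_empty]

end OrdChain

open OrdChain

variable {X : TopCat.{u}} {ι : Type u} (P : (Opens X)ᵒᵖ ⥤ AddCommGrpCat.{u}) (U : ι → Opens X)

/-- Evaluation of a cochain on chains, over a fixed open. -/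
noncomputable def evOn {n : ℕ} (W : Opens X) (f : Coch P U n) : C ι (n + 1) →ₗ[ℤ] P.obj (op W) :=
  open Classical in
  Finsupp.linearCombination ℤ fun b => if h : W ≤ inter U b then P.map (homOfLE h).op (f b) else 0

theorem evOn_single {n : ℕ} (W : Opens X) (f : Coch P U n) (b : Fin (n + 1) → ι) (h : W ≤ inter U b) :
    evOn P U W f (Finsupp.single b 1) = P.map (homOfLE h).op (f b) := by
  rw [evOn, Finsupp.linearCombination_single, one_smul, dif_pos h]

omit P in
theorem inter_le_of_range {n m : ℕ} {a : Fin (n + 1) → ι} {b : Fin (m + 1) → ι}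
    (h : Set.range b ⊆ Set.range a) : inter U a ≤ inter U b := le_iInf fun k => by
  obtain ⟨l, hl⟩ := h ⟨k, rfl⟩
  rw [← hl]
  exact inter_le U a l

theorem map_map {A B D : Opens X} (h : B ≤ A) (h' : D ≤ B) (x : P.obj (op A)) :
    P.map (homOfLE h').op (P.map (homOfLE h).op x) = P.map (homOfLE (h'.trans h)).op x :=
  (ConcreteCategory.congr_hom (P.map_comp (homOfLE h).op (homOfLE h').op) x).symm

theorem map_evOn {n m : ℕ} (f : Coch P U n) {a : Fin (m + 1) → ι} {W : Opens X} (hW : W ≤ inter U a)
    {c : C ι (n + 1)} (hc : c ∈ supp (n + 1) (Set.range a)) :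
    P.map (homOfLE hW).op (evOn P U (inter U a) f c) = evOn P U W f c := by
  rw [supp, Finsupp.supported_eq_span_single] at hc
  induction hc using Submodule.span_induction with
  | zero => simp
  | add x y _ _ hx hy => simp only [map_add, hx, hy]
  | smul r x _ hx => rw [map_smul, map_zsmul, map_smul, hx]
  | mem x hx =>
    obtain ⟨b, hb, rfl⟩ := hx
    show P.map _ (evOn P U _ f (Finsupp.single b 1)) = evOn P U W f (Finsupp.single b 1)
    rw [evOn_single P U _ f b (inter_le_of_range U hb), evOn_single P U W f b (hW.trans (inter_le_of_range U hb)),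
      map_map]

theorem evOn_bd {n : ℕ} (f : Coch P U n) {m : ℕ} {a : Fin (m + 1) → ι} {c : C ι (n + 2)}
    (hc : c ∈ supp (n + 2) (Set.range a)) :
    evOn P U (inter U a) f (bd (n + 1) c) = evOn P U (inter U a) (cochD P U n f) c := by
  rw [supp, Finsupp.supported_eq_span_single] at hc
  induction hc using Submodule.span_induction with
  | zero => simp
  | add x y _ _ hx hy => simp only [map_add, hx, hy]
  | smul r x _ hx => rw [map_smul, map_smul, map_smul, hx]
  | mem x hx =>
    obtain ⟨b, hb, rfl⟩ := hx
    show evOn P U _ f (bd _ (Finsupp.single b 1)) = evOn P U _ _ (Finsupp.single b 1)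
    rw [bd_single, map_sum, evOn_single P U _ _ b (inter_le_of_range U hb), cochD_apply, map_sum]
    refine Finset.sum_congr rfl fun j _ => ?_
    rw [map_zsmul, map_zsmul, evOn_single P U _ f _ ((inter_le_of_range U hb).trans (inter_comp_le U b _)),
      map_map]

theorem isZero_cechH_of_card_le [Finite ι] (q : ℕ) (hq : Nat.card ι ≤ q) : IsZero (CohTop.cechH P U q) := by
  classical
  letI : LinearOrder ι := linearOrderOfSTO (WellOrderingRel : ι → ι → Prop)
  cases q with
  | zero =>
    haveI : IsEmpty ι := Finite.card_eq_zero_iff.1 (Nat.le_zero.1 hq)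
    haveI : Subsingleton ((cechCx P U).X 0) := (cochEquiv P U 0).toEquiv.subsingleton
    exact (HomologicalComplex.exactAt_iff_isZero_homology _ _).1
      (ShortComplex.exact_of_isZero_X₂ _ (AddCommGrpCat.isZero_of_subsingleton ((cechCx P U).X 0)))
  | succ p =>
    rw [isZero_cechH_succ_iff]
    intro f hf
    let g : Coch P U p := fun b => -evOn P U (inter U b) f (htp (p + 1) (Finsupp.single b 1))
    refine ⟨g, funext fun a => ?_⟩
    have hs := htp_spec (p + 1) (Finsupp.single a 1)
    have hproj : proj (p + 2) (Finsupp.single a 1) = 0 := by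
      have := proj_mem (mem_supp_single (s := Set.range a) (b := a) le_rfl)
      rwa [inc_eq_bot _ (by omega), Submodule.mem_bot] at this
    rw [hproj, zero_sub] at hs
    have key := congrArg (evOn P U (inter U a) f) hs
    rw [map_add, evOn_bd P U f (htp_mem (mem_supp_single le_rfl)), hf, map_neg,
      evOn_single P U _ f a le_rfl] at key
    have hz : evOn P U (inter U a) (0 : Coch P U (p + 2)) = 0 := by
      refine Finsupp.lhom_ext' fun b => LinearMap.ext_ring ?_
      show evOn P U _ _ (Finsupp.single b 1) = 0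
      rw [evOn, Finsupp.linearCombination_single, one_smul]
      split_ifs with h
      · exact map_zero _
      · rfl
    rw [hz, LinearMap.zero_apply, zero_add] at key
    have hid : P.map (homOfLE (le_refl (inter U a))).op (f a) = f a :=
      ConcreteCategory.congr_hom (P.map_id _) (f a)
    rw [hid] at key
    rw [← neg_neg (f a), ← key, cochD_apply, bd_single, map_sum, map_sum, ← Finset.sum_neg_distrib]
    refine Finset.sum_congr rfl fun j _ => ?_
    rw [map_zsmul, map_zsmul, ← smul_neg, map_neg,
      map_evOn P U f (inter_comp_le U a j.succAbove) (htp_mem (mem_supp_single le_rfl))]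

end Groth.Agent.TopCoh49
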