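import Groth.Agent.TopCoh49.MV
import Groth.Agent.TopCoh49.StalkPull
import Groth.Agent.TopCoh49.Rpush
import Groth.Agent.TopCoh49.ColimCoh
import Mathlib.Algebra.Homology.DerivedCategory.Ext.Map

/-!
Pullback in cohomology along a continuous map, and continuity of cohomology along neighbourhood systems.
-/

universe u

open CategoryTheory Limits TopologicalSpace Opposite Abelian

namespace Groth.Agent.TopCoh49

variable {Z X : TopCat.{u}} (i : Z ⟶ X)

instance preservesFiniteColimits_pull : PreservesFiniteColimits (CohTop.pull i) :=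
  have := (TopCat.Sheaf.pullbackPushforwardAdjunction AddCommGrpCat.{u} i).isLeftAdjoint
  have : PreservesColimitsOfSize.{0, 0} (CohTop.pull i) :=
    (TopCat.Sheaf.pullbackPushforwardAdjunction AddCommGrpCat.{u} i).leftAdjoint_preservesColimits
  PreservesColimitsOfSize.preservesFiniteColimits _

instance additive_pull : (CohTop.pull i).Additive := Functor.additive_of_preserves_binary_products _

lemma gen_map {U V : Opens X} (h : V ≤ U) :
    ((freeFun X).map (homOfLE h)).hom.app (op V) (gen V) = rs (freeU U).obj h (gen U) := by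
  rw [gen, ← freeHomEquiv_comp, Category.id_comp, ← Category.comp_id ((freeFun X).map (homOfLE h)),
    freeHomEquiv_precomp]
  rfl

lemma freeHomEquiv_eq_gen (U : Opens X) {F : CohTop.Ab X} (φ : freeU U ⟶ F) :
    freeHomEquiv U F φ = φ.hom.app (op U) (gen U) := by
  rw [gen, ← freeHomEquiv_comp, Category.id_comp]

lemma unitPre_app_map {F G : CohTop.Ab X} (g : F ⟶ G) (U : Opens X) (t : F.obj.obj (op U)) :
    ((CohTop.pull i).map g).hom.app (op ((Opens.map i).obj U)) ((unitPre i F).app (op U) t) =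
      (unitPre i G).app (op U) (g.hom.app (op U) t) :=
  (ConcreteCategory.congr_hom (NatTrans.congr_app (unitPre_naturality i g) (op U)) t).symm

variable {W : Opens Z}

/-- The tautological section, pulled back. -/
noncomputable def pullGen {U : Opens X} (h : W ≤ (Opens.map i).obj U) :
    freeU W ⟶ (CohTop.pull i).obj (freeU U) :=
  (freeHomEquiv W _).symm (rs _ h ((unitPre i (freeU U)).app (op U) (gen U)))

lemma freeHomEquiv_pullGen_comp {U : Opens X} (h : W ≤ (Opens.map i).obj U) {F : CohTop.Ab X}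
    (φ : freeU U ⟶ F) :
    freeHomEquiv W _ (pullGen i h ≫ (CohTop.pull i).map φ) =
      rs _ h ((unitPre i F).app (op U) (φ.hom.app (op U) (gen U))) := by
  rw [freeHomEquiv_comp, pullGen, Equiv.apply_symm_apply, ← unitPre_app_map]
  exact ConcreteCategory.congr_hom (((CohTop.pull i).map φ).hom.naturality (homOfLE h).op) _

lemma pullGen_comp {U V : Opens X} (hVU : V ≤ U) (hV : W ≤ (Opens.map i).obj V) :
    pullGen i hV ≫ (CohTop.pull i).map ((freeFun X).map (homOfLE hVU)) =
      pullGen i (hV.trans ((Opens.map i).monotone hVU)) := by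
  apply (freeHomEquiv W _).injective
  rw [freeHomEquiv_pullGen_comp, gen_map, pullGen, Equiv.apply_symm_apply]
  refine (congrArg (rs _ hV) (ConcreteCategory.congr_hom ((unitPre i (freeU U)).naturality (homOfLE hVU).op) (gen U))).trans ?_
  exact rs_rs _ ((Opens.map i).monotone hVU) hV _

/-- Pullback in cohomology from an open containing the range. -/
noncomputable def pullE (F : CohTop.Ab X) (p : ℕ) {U : Opens X} (h : W ≤ (Opens.map i).obj U) :
    E F p U →+ E ((CohTop.pull i).obj F) p W :=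
  ((Ext.mk₀ (pullGen i h)).precomp _ (zero_add p)).comp ((CohTop.pull i).mapExtAddHom (freeU U) F p)

lemma pullE_apply (F : CohTop.Ab X) (p : ℕ) {U : Opens X} (h : W ≤ (Opens.map i).obj U) (x : E F p U) :
    pullE i F p h x = (Ext.mk₀ (pullGen i h)).comp (x.mapExactFunctor (CohTop.pull i)) (zero_add p) := rfl

lemma pullE_eres (F : CohTop.Ab X) (p : ℕ) {U V : Opens X} (hVU : V ≤ U) (hV : W ≤ (Opens.map i).obj V)
    (x : E F p U) :
    pullE i F p hV (eres F p hVU x) = pullE i F p (hV.trans ((Opens.map i).monotone hVU)) x := by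
  rw [pullE_apply, pullE_apply]
  change (Ext.mk₀ _).comp (((Ext.mk₀ _).comp x (zero_add p)).mapExactFunctor (CohTop.pull i)) (zero_add p) = _
  rw [Ext.mapExactFunctor_comp, Ext.mapExactFunctor_mk₀, Ext.mk₀_comp_mk₀_assoc, pullGen_comp]

lemma pullE_emap {F G : CohTop.Ab X} (g : F ⟶ G) (p : ℕ) {U : Opens X} (h : W ≤ (Opens.map i).obj U)
    (x : E F p U) :
    pullE i G p h (emap g p U x) = emap ((CohTop.pull i).map g) p W (pullE i F p h x) := by
  rw [pullE_apply, pullE_apply]
  change (Ext.mk₀ _).comp ((x.comp (Ext.mk₀ g) (add_zero p)).mapExactFunctor (CohTop.pull i)) (zero_add p) =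
    ((Ext.mk₀ _).comp _ (zero_add p)).comp (Ext.mk₀ _) (add_zero p)
  rw [Ext.mapExactFunctor_comp, Ext.mapExactFunctor_mk₀, Ext.comp_assoc _ _ _ (zero_add p) (add_zero p) (by omega)]

lemma pull_shortExact {S : ShortComplex (CohTop.Ab X)} (hS : S.ShortExact) :
    (S.map (CohTop.pull i)).ShortExact := hS.map_of_exact _

lemma pullE_δ {S : ShortComplex (CohTop.Ab X)} (hS : S.ShortExact) {n m : ℕ} (hnm : n + 1 = m)
    {U : Opens X} (h : W ≤ (Opens.map i).obj U) (x : E S.X₃ n U) :
    pullE i S.X₁ m h (δ hS hnm U x) = δ (pull_shortExact i hS) hnm W (pullE i S.X₃ n h x) := by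
  rw [pullE_apply, pullE_apply]
  change (Ext.mk₀ _).comp ((x.comp hS.extClass hnm).mapExactFunctor (CohTop.pull i)) (zero_add m) =
    ((Ext.mk₀ _).comp _ (zero_add n)).comp _ hnm
  rw [Ext.mapExactFunctor_comp, Ext.mapExactFunctor_extClass]
  exact (Ext.comp_assoc _ _ _ (zero_add n) hnm (by omega)).symm

lemma E₀_pullE (F : CohTop.Ab X) {U : Opens X} (h : W ≤ (Opens.map i).obj U) (x : E F 0 U) :
    E₀ _ W (pullE i F 0 h x) = rs _ h ((unitPre i F).app (op U) (E₀ F U x)) := by
  obtain ⟨φ, rfl⟩ := (Ext.mk₀_bijective _ _).surjective x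
  rw [pullE_apply, Ext.mapExactFunctor_mk₀, Ext.mk₀_comp_mk₀, E₀_mk₀, E₀_mk₀, freeHomEquiv_pullGen_comp,
    freeHomEquiv_eq_gen]

lemma freeMap_pullGen {W' : Opens Z} (hW : W' ≤ W) {U : Opens X} (h : W ≤ (Opens.map i).obj U) :
    (freeFun Z).map (homOfLE hW) ≫ pullGen i h = pullGen i (hW.trans h) := by
  apply (freeHomEquiv W' _).injective
  rw [freeHomEquiv_precomp, pullGen, pullGen, Equiv.apply_symm_apply, Equiv.apply_symm_apply]
  exact rs_rs _ h hW _

lemma eres_pullE (F : CohTop.Ab X) (p : ℕ) {W' : Opens Z} (hW : W' ≤ W) {U : Opens X}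
    (h : W ≤ (Opens.map i).obj U) (x : E F p U) :
    eres _ p hW (pullE i F p h x) = pullE i F p (hW.trans h) x := by
  rw [pullE_apply, pullE_apply]
  change (Ext.mk₀ _).comp ((Ext.mk₀ _).comp _ (zero_add p)) (zero_add p) = _
  rw [Ext.mk₀_comp_mk₀_assoc, freeMap_pullGen]

/-- Continuity of cohomology along a system of opens containing the range. -/
theorem pullE_continuity (P : Opens X → Prop) (hP : ∀ U, P U → ⊤ ≤ (Opens.map i).obj U)
    (hdir : ∀ U V, P U → P V → ∃ W, P W ∧ W ≤ U ∧ W ≤ V)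
    (hsurj : ∀ (F : CohTop.Ab X) (s : ((CohTop.pull i).obj F).obj.obj (op ⊤)),
      ∃ (U : Opens X) (h : P U) (t : F.obj.obj (op U)),
        rs _ (hP U h) ((unitPre i F).app (op U) t) = s)
    (hker : ∀ (F : CohTop.Ab X) (U : Opens X) (h : P U) (t : F.obj.obj (op U)),
      rs _ (hP U h) ((unitPre i F).app (op U) t) = 0 →
        ∃ (V : Opens X) (hVU : V ≤ U), P V ∧ rs F.obj hVU t = 0)
    (hacyc : ∀ (I : CohTop.Ab X), Injective I → ∀ q, Subsingleton (E ((CohTop.pull i).obj I) (q + 1) ⊤)) :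
    ∀ (p : ℕ) (F : CohTop.Ab X),
      (∀ y : E ((CohTop.pull i).obj F) p ⊤, ∃ (U : Opens X) (h : P U) (x : E F p U),
        pullE i F p (hP U h) x = y) ∧
      (∀ (U : Opens X) (h : P U) (x : E F p U), pullE i F p (hP U h) x = 0 →
        ∃ (V : Opens X) (hVU : V ≤ U), P V ∧ eres F p hVU x = 0) := by
  intro p
  induction p with
  | zero =>
    intro F
    refine ⟨fun y => ?_, fun U h x hx => ?_⟩
    · obtain ⟨U, h, t, ht⟩ := hsurj F (E₀ _ ⊤ y)
      refine ⟨U, h, (E₀ F U).symm t, (E₀ _ ⊤).injective ?_⟩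
      rw [E₀_pullE, AddEquiv.apply_symm_apply, ht]
    · obtain ⟨V, hVU, hV, h0⟩ := hker F U h (E₀ F U x)
        (by rw [← E₀_pullE, hx, map_zero])
      refine ⟨V, hVU, hV, (E₀ F V).injective ?_⟩
      rw [E₀_eres, map_zero]
      exact h0
  | succ p ih =>
    intro F
    have hS := injSES_shortExact F
    have hS' := pull_shortExact i hS
    refine ⟨fun y => ?_, fun U h x hx => ?_⟩
    · obtain ⟨z, hz⟩ := exact₁ hS' (rfl : p + 1 = p + 1) ⊤ y
        ((hacyc _ (inferInstanceAs (Injective (Injective.under F))) p).elim _ _)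
      obtain ⟨U, h, w, rfl⟩ := (ih (injSES F).X₃).1 z
      exact ⟨U, h, δ hS rfl U w, (pullE_δ i hS rfl (hP U h) w).trans hz⟩
    · have hI := subsingleton_E_of_injective (Injective.under F) p U
      obtain ⟨z, rfl⟩ := exact₁ hS (rfl : p + 1 = p + 1) U x (hI.elim _ _)
      obtain ⟨w, hw⟩ := exact₃ hS' rfl ⊤ (pullE i _ p (hP U h) z)
        ((pullE_δ i hS rfl (hP U h) z).symm.trans hx)
      obtain ⟨V, hV, v, rfl⟩ := (ih (injSES F).X₂).1 w
      obtain ⟨W, hW, hWU, hWV⟩ := hdir U V h hV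
      obtain ⟨W', hW'W, hW', h0⟩ := (ih (injSES F).X₃).2 W hW
        (eres _ p hWU z - emap (injSES F).g p W (eres _ p hWV v)) (by
          rw [map_sub, sub_eq_zero, pullE_eres, pullE_emap, pullE_eres]
          exact hw.symm)
      refine ⟨W', hW'W.trans hWU, hW', ?_⟩
      refine (eres_δ hS rfl (hW'W.trans hWU) z).trans ?_
      rw [map_sub, sub_eq_zero, eres_eres, eres_emap] at h0
      rw [h0]
      exact δ_emap_g hS rfl W' _

end Groth.Agent.TopCoh49
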