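import Groth.Agent.TopCoh49.Compare
import Mathlib.Topology.Irreducible

universe u

open CategoryTheory Limits TopologicalSpace Opposite Abelian

namespace Groth.Agent.TopCoh49

variable {X : TopCat.{u}} [IrreducibleSpace X]

/-- Constant functions on nonempty opens. -/
noncomputable def irrPre (X : TopCat.{u}) (A : Type u) [AddCommGroup A] : (Opens X)ᵒᵖ ⥤ AddCommGrpCat.{u} where
  obj V := AddCommGrpCat.of (PLift (V.unop : Set X).Nonempty → A)
  map i := AddCommGrpCat.ofHom
    { toFun := fun s h => s ⟨h.down.mono (leOfHom i.unop)⟩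
      map_zero' := rfl
      map_add' := fun _ _ => rfl }

omit [IrreducibleSpace X] in
lemma irrPre_map_apply (A : Type u) [AddCommGroup A] {V W : (Opens X)ᵒᵖ} (i : V ⟶ W)
    (s : PLift (V.unop : Set X).Nonempty → A) (h : PLift (W.unop : Set X).Nonempty) :
    ((irrPre X A).map i s : _ → A) h = s ⟨h.down.mono (leOfHom i.unop)⟩ := rfl

lemma isSheaf_irrPre (A : Type u) [AddCommGroup A] :
    Presheaf.IsSheaf (Opens.grothendieckTopology X) (irrPre X A) := by
  refine (Presheaf.isSheaf_iff_isSheaf_comp _ _ (forget AddCommGrpCat.{u})).2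
    (TopCat.Presheaf.isSheaf_of_isSheafUniqueGluing_types _ fun κ U sf hsf => ?_)
  classical
  have hne : ∀ h : PLift ((iSup U : Opens X) : Set X).Nonempty, ∃ k, (U k : Set X).Nonempty := fun h => by
    obtain ⟨x, hx⟩ := h.down
    obtain ⟨k, hk⟩ := Opens.mem_iSup.1 hx
    exact ⟨k, x, hk⟩
  refine ⟨fun h => sf (hne h).choose ⟨(hne h).choose_spec⟩, fun k => funext fun h => ?_, fun s hs => funext fun h => ?_⟩
  · set h' : PLift ((iSup U : Opens X) : Set X).Nonempty := ⟨h.down.mono (leOfHom (Opens.leSupr U k))⟩
    obtain ⟨x, -, hx₁, hx₂⟩ := (IrreducibleSpace.isIrreducible_univ X).isPreirreducible _ _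
      (U (hne h').choose).2 (U k).2 (by simpa using (hne h').choose_spec) (by simpa using h.down)
    exact congrFun (hsf (hne h').choose k) ⟨⟨x, hx₁, hx₂⟩⟩
  · exact congrFun (hs (hne h).choose) ⟨(hne h).choose_spec⟩

/-- The sheaf of constant functions on nonempty opens. -/
noncomputable def irrSheaf (X : TopCat.{u}) [IrreducibleSpace X] (A : Type u) [AddCommGroup A] : CohTop.Ab X :=
  ⟨irrPre X A, isSheaf_irrPre A⟩

/-- Morphisms out of a constant sheaf. -/
noncomputable def constAdjEquiv (A : Type u) [AddCommGroup A] (G : CohTop.Ab X) :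
    (CohTop.const X A ⟶ G) ≃ (AddCommGrpCat.of A ⟶ G.obj.obj (op ⊤)) :=
  (constantSheafAdj _ AddCommGrpCat (isTerminalTop (α := Opens X))).homEquiv _ G

omit [IrreducibleSpace X] in
lemma constAdjEquiv_comp (A : Type u) [AddCommGroup A] {F G : CohTop.Ab X} (φ : CohTop.const X A ⟶ F)
    (g : F ⟶ G) : constAdjEquiv A G (φ ≫ g) = constAdjEquiv A F φ ≫ g.hom.app (op ⊤) :=
  Adjunction.homEquiv_naturality_right _ _ _

/-- From the constant sheaf to constant functions. -/
noncomputable def toIrr (A : Type u) [AddCommGroup A] : CohTop.const X A ⟶ irrSheaf X A :=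
  (constAdjEquiv A _).symm (AddCommGrpCat.ofHom
    { toFun := fun a _ => a
      map_zero' := rfl
      map_add' := fun _ _ => rfl })

/-- The generating sections of the constant sheaf. -/
noncomputable def constSec (A : Type u) [AddCommGroup A] :
    AddCommGrpCat.of A ⟶ (CohTop.const X A).obj.obj (op ⊤) :=
  constAdjEquiv A _ (𝟙 _)

lemma toIrr_constSec (A : Type u) [AddCommGroup A] (a : A) :
    ((toIrr A).hom.app (op ⊤) (constSec (X := X) A a) : _ → A) = fun _ => a := by
  have h := constAdjEquiv_comp A (𝟙 (CohTop.const X A)) (toIrr A)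
  rw [Category.id_comp] at h
  exact (ConcreteCategory.congr_hom (h.symm.trans ((constAdjEquiv A (irrSheaf X A)).apply_symm_apply _)) a)

open scoped Classical in
/-- From constant functions to the constant sheaf. -/
noncomputable def fromIrr (A : Type u) [AddCommGroup A] : irrSheaf X A ⟶ CohTop.const X A :=
  ⟨{ app := fun V => AddCommGrpCat.ofHom
      { toFun := fun s => if h : (V.unop : Set X).Nonempty then
          (CohTop.const X A).obj.map (homOfLE le_top).op (constSec A ((s : _ → A) ⟨h⟩)) else 0
        map_zero' := by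
          split_ifs with h
          · exact (congrArg _ (map_zero (constSec (X := X) A).hom)).trans (map_zero _)
          · rfl
        map_add' := fun s t => by
          by_cases h : (V.unop : Set X).Nonempty
          · simp only [dif_pos h]
            exact (congrArg _ (map_add (constSec (X := X) A).hom _ _)).trans (map_add _ _ _)
          · simp [dif_neg h] }
     naturality := fun V W i => by
      ext s
      change dite _ _ _ = (CohTop.const X A).obj.map i (dite _ _ _)
      by_cases h : (W.unop : Set X).Nonempty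
      · rw [dif_pos h, dif_pos (h.mono (leOfHom i.unop))]
        exact (rs_rs (CohTop.const X A).obj le_top (leOfHom i.unop) _).symm
      · obtain ⟨W⟩ := W
        obtain rfl : W = ⊥ := eq_bot_iff.2 fun x hx => (h ⟨x, hx⟩).elim
        exact (subsingleton_sections_bot _).elim _ _ }⟩

lemma fromIrr_toIrr (A : Type u) [AddCommGroup A] : fromIrr (X := X) A ≫ toIrr A = 𝟙 _ := by
  ext V s
  funext h
  classical
  change ((toIrr A).hom.app V (dite _ _ _) : _ → A) h = (s : _ → A) h
  rw [dif_pos h.down]
  exact (congrFun (ConcreteCategory.congr_hom ((toIrr A).hom.naturality (homOfLE le_top).op) _) h).trans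
    (congrFun (toIrr_constSec A _) _)

lemma toIrr_fromIrr (A : Type u) [AddCommGroup A] : toIrr (X := X) A ≫ fromIrr A = 𝟙 _ := by
  apply (constAdjEquiv A _).injective
  rw [constAdjEquiv_comp]
  ext a
  classical
  have hX : ((⊤ : Opens X) : Set X).Nonempty := ⟨Classical.arbitrary X, trivial⟩
  change dite _ _ _ = constSec (X := X) A a
  rw [dif_pos hX]
  have h : (constAdjEquiv A (irrSheaf X A) (toIrr A) a : _ → A) ⟨hX⟩ = a := by
    exact congrFun (ConcreteCategory.congr_hom ((constAdjEquiv A (irrSheaf X A)).apply_symm_apply _) a) _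
  refine (congrArg _ (congrArg (fun z : A => constSec (X := X) A z) h)).trans ?_
  change (CohTop.const X A).obj.map (𝟙 _) _ = _
  rw [CategoryTheory.Functor.map_id]
  rfl

/-- The constant sheaf of an irreducible space. -/
noncomputable def irrIso (A : Type u) [AddCommGroup A] : CohTop.const X A ≅ irrSheaf X A :=
  ⟨toIrr A, fromIrr A, toIrr_fromIrr A, fromIrr_toIrr A⟩

lemma isFlasque_irrSheaf (A : Type u) [AddCommGroup A] : TopCat.Sheaf.IsFlasque (irrSheaf X A) where
  epi {U V} i := by
    rw [AddCommGrpCat.epi_iff_surjective]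
    intro s
    classical
    refine ⟨fun _ => if h : (V.unop : Set X).Nonempty then (s : _ → A) ⟨h⟩ else 0, funext fun h => ?_⟩
    exact dif_pos h.down

lemma isFlasque_const (A : Type u) [AddCommGroup A] : TopCat.Sheaf.IsFlasque (CohTop.const X A) where
  epi {U V} i := by
    have hi := (isFlasque_irrSheaf (X := X) A).epi i
    rw [AddCommGrpCat.epi_iff_surjective] at hi ⊢
    intro s
    obtain ⟨t, ht⟩ := hi ((toIrr A).hom.app V s)
    refine ⟨(fromIrr A).hom.app U t, ?_⟩
    refine (ConcreteCategory.congr_hom ((fromIrr A).hom.naturality i) t).symm.trans ?_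
    refine (congrArg ((fromIrr A).hom.app V) ht).trans ?_
    exact ConcreteCategory.congr_hom (NatTrans.congr_app (congrArg (fun φ => φ.hom) (toIrr_fromIrr A)) V) s

end Groth.Agent.TopCoh49
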