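import Groth.Agent.TopCoh49.Inst
import Groth.Agent.LocCohZ46.Open
import Mathlib.CategoryTheory.Abelian.RightDerived
import Mathlib.Algebra.Homology.QuasiIso

/-!
Higher direct images commute with restriction to an open of the base.
-/

universe u

open CategoryTheory CategoryTheory.Limits TopologicalSpace Opposite

namespace Groth.Agent.TopCoh49

section Generic

variable {A A' B B' : Type*} [Category A] [Category A'] [Category B] [Category B']
  [Abelian A] [Abelian A'] [Abelian B] [Abelian B'] [HasInjectiveResolutions A] [HasInjectiveResolutions A']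
  (F : A ⥤ B) [F.Additive] (F' : A' ⥤ B') [F'.Additive] (G : B ⥤ B') [G.Additive]
  (R : A ⥤ A') [R.Additive]

/-- An exact functor preserving injectives maps injective resolutions to injective resolutions. -/
noncomputable def mapInjRes [PreservesFiniteLimits R] [PreservesFiniteColimits R]
    (hR : ∀ I : A, Injective I → Injective (R.obj I)) {X : A} (P : InjectiveResolution X) :
    InjectiveResolution (R.obj X) where
  cocomplex := (R.mapHomologicalComplex _).obj P.cocomplex
  injective n := hR _ (P.injective n)
  ι := (HomologicalComplex.singleMapHomologicalComplex R _ 0).inv.app X ≫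
    (R.mapHomologicalComplex _).map P.ι
  quasiIso := by
    have := P.quasiIso
    infer_instance

theorem nonempty_obj_rightDerived_iso [PreservesFiniteLimits R] [PreservesFiniteColimits R]
    [PreservesFiniteLimits G] [PreservesFiniteColimits G]
    (hR : ∀ I : A, Injective I → Injective (R.obj I))
    (e : F ⋙ G ≅ R ⋙ F') (n : ℕ) (X : A) :
    Nonempty (G.obj ((F.rightDerived n).obj X) ≅ (F'.rightDerived n).obj (R.obj X)) := by
  let P := injectiveResolution X
  let K : CochainComplex B ℕ := (F.mapHomologicalComplex _).obj P.cocomplex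
  refine ⟨G.mapIso (P.isoRightDerivedObj F n) ≪≫ ?_ ≪≫ ((mapInjRes R hR P).isoRightDerivedObj F' n).symm⟩
  refine ((K.sc n).mapHomologyIso G).symm ≪≫ ?_
  exact HomologicalComplex.homologyMapIso ((NatIso.mapHomologicalComplex e _).app P.cocomplex) n

end Generic

variable {X Y : TopCat.{u}} (f : X ⟶ Y) (V : Opens Y)

/-- The map induced over an open of the base. -/
noncomputable abbrev resBase : TopCat.of ((Opens.map f).obj V) ⟶ TopCat.of V :=
  TopCat.ofHom ⟨(V : Set Y).restrictPreimage f, f.hom.continuous.restrictPreimage⟩

lemma map_imU_resBase (W : Opens (TopCat.of V)) :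
    (Opens.map f).obj (LocCohZ46.imU V W) =
      LocCohZ46.imU ((Opens.map f).obj V) ((Opens.map (resBase f V)).obj W) := by
  ext x
  constructor
  · rintro ⟨z, hz, e⟩
    have hx : f x ∈ V := by
      have e' : f x = z.1 := e.symm
      rw [e']
      exact z.2
    exact ⟨⟨x, hx⟩, (show (⟨f x, hx⟩ : V) ∈ W from (Subtype.ext (show z.1 = f x from e) : z = ⟨f x, hx⟩) ▸ hz), rfl⟩
  · rintro ⟨z, hz, rfl⟩
    exact ⟨_, hz, rfl⟩

/-- Direct image commutes with restriction to an open of the base. -/
noncomputable def pushRestrIso :
    CohTop.push f ⋙ CohTop.restrFunctor V ≅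
      CohTop.restrFunctor ((Opens.map f).obj V) ⋙ CohTop.push (resBase f V) :=
  NatIso.ofComponents
    (fun F => (fullyFaithfulSheafToPresheaf _ _).preimageIso
      (NatIso.ofComponents (fun W => F.obj.mapIso (eqToIso (congrArg op (map_imU_resBase f V W.unop))))
        (fun {W W'} i => by
          exact ((F.obj.map_comp _ _).symm.trans (congrArg _ (Subsingleton.elim _ _))).trans
            (F.obj.map_comp _ _))))
    (fun {F G} φ => ObjectProperty.hom_ext _ (by
      ext W : 2
      exact (φ.hom.naturality _).symm))

instance additive_push_resBase : (CohTop.push (resBase f V)).Additive where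
  map_add := rfl

theorem nonempty_restr_Rpush_iso (F : CohTop.Ab X) (p : ℕ) :
    Nonempty (CohTop.restr ((CohTop.Rpush f p).obj F) V ≅
      (CohTop.Rpush (resBase f V) p).obj (CohTop.restr F ((Opens.map f).obj V))) :=
  nonempty_obj_rightDerived_iso (CohTop.push f) (CohTop.push (resBase f V)) (CohTop.restrFunctor V)
    (CohTop.restrFunctor ((Opens.map f).obj V))
    (fun I hI => @LocCohZ46.injective_restr _ _ I hI) (pushRestrIso f V) p F

end Groth.Agent.TopCoh49
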