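import Mathlib.CategoryTheory.Abelian.RightDerived
import Mathlib.Algebra.Homology.HomologySequence
import Mathlib.Algebra.Homology.HomologicalComplexBiprod
import Mathlib.Algebra.Homology.HomologicalComplexAbelian
import Mathlib.Algebra.Homology.ExactSequence
import Mathlib.Algebra.Homology.ShortComplex.ShortExact

/-!
Long exact sequence of right derived functors of a sequence of functors which is short exact on injectives.
-/

universe w v u

open CategoryTheory CategoryTheory.Limits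

namespace Groth.Agent.TopCoh49

lemma shortExact_biprod {B : Type w} [Category.{v} B] [Abelian B] {K₀ K₁ K₂ K₃ : CochainComplex B ℕ}
    (a₁ : K₀ ⟶ K₁) (a₂ : K₀ ⟶ K₂) (b₁ : K₁ ⟶ K₃) (b₂ : K₂ ⟶ K₃)
    (h0 : biprod.lift a₁ a₂ ≫ biprod.desc b₁ (-b₂) = 0)
    (h : ∀ i, ∃ h0 : biprod.lift (a₁.f i) (a₂.f i) ≫ biprod.desc (b₁.f i) (-(b₂.f i)) = 0,
      (ShortComplex.mk _ _ h0).ShortExact) :
    (ShortComplex.mk _ _ h0).ShortExact := by
  refine HomologicalComplex.shortExact_of_degreewise_shortExact _ fun i => ?_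
  obtain ⟨h1, h2⟩ := h i
  refine ShortComplex.shortExact_of_iso ?_ h2
  refine ShortComplex.isoMk (Iso.refl _) (HomologicalComplex.biprodXIso K₁ K₂ i).symm (Iso.refl _) ?_ ?_
  · refine HomologicalComplex.biprodX_ext_to ?_ ?_
    · simp only [ShortComplex.map, HomologicalComplex.eval, Iso.refl_hom, Category.id_comp, Iso.symm_hom]
      rw [← HomologicalComplex.comp_f, biprod.lift_fst, Category.assoc,
        ← HomologicalComplex.biprodXIso_hom_fst, Iso.inv_hom_id_assoc, biprod.lift_fst]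
    · simp only [ShortComplex.map, HomologicalComplex.eval, Iso.refl_hom, Category.id_comp, Iso.symm_hom]
      rw [← HomologicalComplex.comp_f, biprod.lift_snd, Category.assoc,
        ← HomologicalComplex.biprodXIso_hom_snd, Iso.inv_hom_id_assoc, biprod.lift_snd]
  · apply biprod.hom_ext'
    · simp only [ShortComplex.map, HomologicalComplex.eval, Iso.refl_hom, Category.comp_id, Iso.symm_hom,
        biprod.inl_desc, HomologicalComplex.inl_biprodXIso_inv_assoc]
      rw [← HomologicalComplex.comp_f, biprod.inl_desc]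
    · simp only [ShortComplex.map, HomologicalComplex.eval, Iso.refl_hom, Category.comp_id, Iso.symm_hom,
        biprod.inr_desc, HomologicalComplex.inr_biprodXIso_inv_assoc]
      rw [← HomologicalComplex.comp_f, biprod.inr_desc, HomologicalComplex.neg_f_apply]

theorem exact_homology_biprod {B : Type w} [Category.{v} B] [Abelian B] {K₀ K₁ K₂ K₃ : CochainComplex B ℕ}
    (a₁ : K₀ ⟶ K₁) (a₂ : K₀ ⟶ K₂) (b₁ : K₁ ⟶ K₃) (b₂ : K₂ ⟶ K₃)
    (h0 : biprod.lift a₁ a₂ ≫ biprod.desc b₁ (-b₂) = 0) (hS : (ShortComplex.mk _ _ h0).ShortExact)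
    (R₀ R₁ R₂ R₃ : ℕ → B) (e₀ : ∀ n, R₀ n ≅ K₀.homology n) (e₁ : ∀ n, R₁ n ≅ K₁.homology n)
    (e₂ : ∀ n, R₂ n ≅ K₂.homology n) (e₃ : ∀ n, R₃ n ≅ K₃.homology n)
    (r₁ : ∀ n, R₀ n ⟶ R₁ n) (r₂ : ∀ n, R₀ n ⟶ R₂ n) (s₁ : ∀ n, R₁ n ⟶ R₃ n) (s₂ : ∀ n, R₂ n ⟶ R₃ n)
    (hr₁ : ∀ n, r₁ n = (e₀ n).hom ≫ HomologicalComplex.homologyMap a₁ n ≫ (e₁ n).inv)
    (hr₂ : ∀ n, r₂ n = (e₀ n).hom ≫ HomologicalComplex.homologyMap a₂ n ≫ (e₂ n).inv)
    (hs₁ : ∀ n, s₁ n = (e₁ n).hom ≫ HomologicalComplex.homologyMap b₁ n ≫ (e₃ n).inv)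
    (hs₂ : ∀ n, s₂ n = (e₂ n).hom ≫ HomologicalComplex.homologyMap b₂ n ≫ (e₃ n).inv) :
    ∃ δ : ∀ n, R₃ n ⟶ R₀ (n + 1), Mono (biprod.lift (r₁ 0) (r₂ 0)) ∧ ∀ n,
      (ComposableArrows.mk₂ (biprod.lift (r₁ n) (r₂ n)) (biprod.desc (s₁ n) (-(s₂ n)))).Exact ∧
      (ComposableArrows.mk₂ (biprod.desc (s₁ n) (-(s₂ n))) (δ n)).Exact ∧
      (ComposableArrows.mk₂ (δ n) (biprod.lift (r₁ (n + 1)) (r₂ (n + 1)))).Exact := by
  let M : ∀ n, (K₁ ⊞ K₂).homology n ≅ R₁ n ⊞ R₂ n := fun n =>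
    { hom := biprod.lift (HomologicalComplex.homologyMap (biprod.fst : K₁ ⊞ K₂ ⟶ K₁) n ≫ (e₁ n).inv)
        (HomologicalComplex.homologyMap (biprod.snd : K₁ ⊞ K₂ ⟶ K₂) n ≫ (e₂ n).inv)
      inv := biprod.desc ((e₁ n).hom ≫ HomologicalComplex.homologyMap (biprod.inl : K₁ ⟶ K₁ ⊞ K₂) n)
        ((e₂ n).hom ≫ HomologicalComplex.homologyMap (biprod.inr : K₂ ⟶ K₁ ⊞ K₂) n)
      hom_inv_id := by
        rw [biprod.lift_desc]
        simp only [Category.assoc, Iso.inv_hom_id_assoc, ← HomologicalComplex.homologyMap_comp,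
          ← HomologicalComplex.homologyMap_add, biprod.total]
        exact HomologicalComplex.homologyMap_id _ _
      inv_hom_id := by
        apply biprod.hom_ext' <;> apply biprod.hom_ext <;>
          simp [← HomologicalComplex.homologyMap_comp_assoc] }
  have hf : ∀ n, HomologicalComplex.homologyMap (biprod.lift a₁ a₂) n ≫ (M n).hom =
      (e₀ n).inv ≫ biprod.lift (r₁ n) (r₂ n) := by
    intro n
    apply biprod.hom_ext
    · simp only [M, Category.assoc, biprod.lift_fst]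
      rw [← HomologicalComplex.homologyMap_comp_assoc, biprod.lift_fst, hr₁, Iso.inv_hom_id_assoc]
    · simp only [M, Category.assoc, biprod.lift_snd]
      rw [← HomologicalComplex.homologyMap_comp_assoc, biprod.lift_snd, hr₂, Iso.inv_hom_id_assoc]
  have hg : ∀ n, HomologicalComplex.homologyMap (biprod.desc b₁ (-b₂)) n ≫ (e₃ n).inv =
      (M n).hom ≫ biprod.desc (s₁ n) (-(s₂ n)) := by
    intro n
    rw [← Iso.inv_comp_eq]
    apply biprod.hom_ext'
    · simp only [M, Category.assoc, biprod.inl_desc_assoc, biprod.inl_desc]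
      rw [← HomologicalComplex.homologyMap_comp_assoc, biprod.inl_desc, hs₁]
    · simp only [M, Category.assoc, biprod.inr_desc_assoc, biprod.inr_desc]
      rw [← HomologicalComplex.homologyMap_comp_assoc, biprod.inr_desc, hs₂,
        HomologicalComplex.homologyMap_neg, Preadditive.neg_comp, Preadditive.comp_neg]
  refine ⟨fun n => (e₃ n).hom ≫ hS.δ n (n + 1) rfl ≫ (e₀ (n + 1)).inv, ?_, fun n => ⟨?_, ?_, ?_⟩⟩
  · have hmf : Mono (biprod.lift a₁ a₂) := hS.mono_f
    have hm : Mono (HomologicalComplex.homologyMap (biprod.lift a₁ a₂) 0) := by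
      have h1 := HomologicalComplex.cyclesMap_i (biprod.lift a₁ a₂) 0
      have : Mono ((biprod.lift a₁ a₂).f 0) :=
        inferInstanceAs (Mono ((HomologicalComplex.eval B (ComplexShape.up ℕ) 0).map (biprod.lift a₁ a₂)))
      have : Mono (HomologicalComplex.cyclesMap (biprod.lift a₁ a₂) 0) := mono_of_mono_fac h1
      have := K₀.isIso_homologyπ 0 0 (CochainComplex.prev_nat_zero) (K₀.shape _ _ (by simp))
      have := (K₁ ⊞ K₂).isIso_homologyπ 0 0 (CochainComplex.prev_nat_zero) ((K₁ ⊞ K₂).shape _ _ (by simp))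
      have h2 : inv (K₀.homologyπ 0) ≫ HomologicalComplex.cyclesMap (biprod.lift a₁ a₂) 0 ≫
          (K₁ ⊞ K₂).homologyπ 0 = HomologicalComplex.homologyMap (biprod.lift a₁ a₂) 0 := by
        rw [IsIso.inv_comp_eq, HomologicalComplex.homologyπ_naturality]
      rw [← h2]
      infer_instance
    have : biprod.lift (r₁ 0) (r₂ 0) =
        (e₀ 0).hom ≫ HomologicalComplex.homologyMap (biprod.lift a₁ a₂) 0 ≫ (M 0).hom := by
      rw [hf, Iso.hom_inv_id_assoc]
    rw [this]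
    exact @mono_comp _ _ _ _ _ _ (inferInstanceAs (Mono (e₀ 0).hom)) _ (@mono_comp _ _ _ _ _ _ hm _ (@IsIso.mono_of_iso _ _ _ _ _ (Iso.isIso_hom (M 0))))
  · have z : biprod.lift (r₁ n) (r₂ n) ≫ biprod.desc (s₁ n) (-(s₂ n)) = 0 := by
      rw [← cancel_epi (e₀ n).inv, comp_zero, ← reassoc_of% (hf n), ← hg n,
        ← HomologicalComplex.homologyMap_comp_assoc, h0, HomologicalComplex.homologyMap_zero, zero_comp]
    exact (ShortComplex.exact_iff_exact_toComposableArrows (ShortComplex.mk _ _ z)).1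
      (ShortComplex.exact_of_iso (ShortComplex.isoMk (e₀ n).symm (M n) (e₃ n).symm (hf n).symm (hg n).symm)
        (hS.homology_exact₂ n))
  · have z : biprod.desc (s₁ n) (-(s₂ n)) ≫
        (e₃ n).hom ≫ hS.δ n (n + 1) rfl ≫ (e₀ (n + 1)).inv = 0 := by
      rw [← Iso.cancel_iso_hom_left (M n), comp_zero, ← reassoc_of% (hg n), Iso.inv_hom_id_assoc, ← Category.assoc,
        hS.comp_δ, zero_comp]
    exact (ShortComplex.exact_iff_exact_toComposableArrows (ShortComplex.mk _ _ z)).1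
      (ShortComplex.exact_of_iso (ShortComplex.isoMk (M n) (e₃ n).symm (e₀ (n + 1)).symm (hg n).symm
        (by simp)) (hS.homology_exact₃ n (n + 1) rfl))
  · have z : ((e₃ n).hom ≫ hS.δ n (n + 1) rfl ≫ (e₀ (n + 1)).inv) ≫
        biprod.lift (r₁ (n + 1)) (r₂ (n + 1)) = 0 := by
      rw [Category.assoc, Category.assoc, ← hf, ← Category.assoc (hS.δ n (n + 1) rfl), hS.δ_comp, zero_comp, comp_zero]
    exact (ShortComplex.exact_iff_exact_toComposableArrows (ShortComplex.mk _ _ z)).1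
      (ShortComplex.exact_of_iso (ShortComplex.isoMk (e₃ n).symm (e₀ (n + 1)).symm (M (n + 1))
        (by simp) (hf (n + 1)).symm) (hS.homology_exact₁ n (n + 1) rfl))

variable {A : Type u} [Category.{v} A] [Abelian A] [HasInjectiveResolutions A]
  {B : Type w} [Category.{v} B] [Abelian B]
  {T₀ T₁ T₂ T₃ : A ⥤ B} [T₀.Additive] [T₁.Additive] [T₂.Additive] [T₃.Additive]
  (α₁ : T₀ ⟶ T₁) (α₂ : T₀ ⟶ T₂) (β₁ : T₁ ⟶ T₃) (β₂ : T₂ ⟶ T₃) (w : α₁ ≫ β₁ = α₂ ≫ β₂)

include w in
theorem exists_mayerVietoris_derived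
    (hinj : ∀ I : A, Injective I → (ShortComplex.mk (biprod.lift (α₁.app I) (α₂.app I))
      (biprod.desc (β₁.app I) (-β₂.app I)) (by
        rw [biprod.lift_desc, Preadditive.comp_neg, ← NatTrans.comp_app, ← NatTrans.comp_app, w,
          add_neg_cancel])).ShortExact) (X : A) :
    ∃ δ : ∀ n : ℕ, (T₃.rightDerived n).obj X ⟶ (T₀.rightDerived (n + 1)).obj X,
      Mono (biprod.lift ((NatTrans.rightDerived α₁ 0).app X) ((NatTrans.rightDerived α₂ 0).app X)) ∧
      ∀ n : ℕ,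
        (ComposableArrows.mk₂
          (biprod.lift ((NatTrans.rightDerived α₁ n).app X) ((NatTrans.rightDerived α₂ n).app X))
          (biprod.desc ((NatTrans.rightDerived β₁ n).app X) (-((NatTrans.rightDerived β₂ n).app X)))).Exact ∧
        (ComposableArrows.mk₂
          (biprod.desc ((NatTrans.rightDerived β₁ n).app X) (-((NatTrans.rightDerived β₂ n).app X)))
          (δ n)).Exact ∧
        (ComposableArrows.mk₂ (δ n)
          (biprod.lift ((NatTrans.rightDerived α₁ (n + 1)).app X)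
            ((NatTrans.rightDerived α₂ (n + 1)).app X))).Exact := by
  let P := injectiveResolution X
  let K₀ := (T₀.mapHomologicalComplex (ComplexShape.up ℕ)).obj P.cocomplex
  let K₁ := (T₁.mapHomologicalComplex (ComplexShape.up ℕ)).obj P.cocomplex
  let K₂ := (T₂.mapHomologicalComplex (ComplexShape.up ℕ)).obj P.cocomplex
  let K₃ := (T₃.mapHomologicalComplex (ComplexShape.up ℕ)).obj P.cocomplex
  let a₁ : K₀ ⟶ K₁ := (NatTrans.mapHomologicalComplex α₁ _).app P.cocomplex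
  let a₂ : K₀ ⟶ K₂ := (NatTrans.mapHomologicalComplex α₂ _).app P.cocomplex
  let b₁ : K₁ ⟶ K₃ := (NatTrans.mapHomologicalComplex β₁ _).app P.cocomplex
  let b₂ : K₂ ⟶ K₃ := (NatTrans.mapHomologicalComplex β₂ _).app P.cocomplex
  have hab : a₁ ≫ b₁ = a₂ ≫ b₂ := by
    ext i
    exact NatTrans.congr_app w (P.cocomplex.X i)
  let S : ShortComplex (CochainComplex B ℕ) := ShortComplex.mk (biprod.lift a₁ a₂) (biprod.desc b₁ (-b₂)) (by
    rw [biprod.lift_desc, Preadditive.comp_neg, hab, add_neg_cancel])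
  have hS : S.ShortExact := shortExact_biprod a₁ a₂ b₁ b₂ _ fun i =>
    ⟨_, hinj (P.cocomplex.X i) (P.injective i)⟩
  exact exact_homology_biprod a₁ a₂ b₁ b₂ _ hS _ _ _ _ (P.isoRightDerivedObj T₀) (P.isoRightDerivedObj T₁)
    (P.isoRightDerivedObj T₂) (P.isoRightDerivedObj T₃) _ _ _ _ (P.rightDerived_app_eq α₁)
    (P.rightDerived_app_eq α₂) (P.rightDerived_app_eq β₁) (P.rightDerived_app_eq β₂)

end Groth.Agent.TopCoh49
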