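import Groth.Prelude.Def_CohCx
import Groth.Agent.TopCoh49.SeqDerived
import Groth.Agent.TopCoh49.Compare
import Groth.Agent.TopCoh49.MV
import Groth.Agent.LocCohZ46.Sheaf

/-!
Relative Mayer–Vietoris for an injective sheaf.
-/

universe u

open CategoryTheory CategoryTheory.Limits TopologicalSpace Opposite
open Groth.Agent.TopCoh49

namespace Groth.Agent.TopCoh49

variable {X Y : TopCat.{u}} (f : X ⟶ Y) (U V : Opens X)

lemma pushToRestrPush_comp :
    CohCx.pushToRestrPush f U ≫ CohCx.restrPushToRestrPush f (inf_le_left : U ⊓ V ≤ U) =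
      CohCx.pushToRestrPush f V ≫ CohCx.restrPushToRestrPush f (inf_le_right : U ⊓ V ≤ V) := by
  ext F W s
  change F.obj.map _ (F.obj.map _ s) = F.obj.map _ (F.obj.map _ s)
  rw [← Functor.map_comp_apply, ← Functor.map_comp_apply]
  rfl

lemma biprod_sections_ext {A B : CohTop.Ab Y} (W : Opens Y) (a b : (A ⊞ B).obj.obj (op W))
    (e₁ : (biprod.fst : A ⊞ B ⟶ A).hom.app (op W) a = (biprod.fst : A ⊞ B ⟶ A).hom.app (op W) b)
    (e₂ : (biprod.snd : A ⊞ B ⟶ B).hom.app (op W) a = (biprod.snd : A ⊞ B ⟶ B).hom.app (op W) b) :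
    a = b := by
  have e : ∀ z : (A ⊞ B).obj.obj (op W),
      z = (biprod.inl : A ⟶ A ⊞ B).hom.app (op W) ((biprod.fst : A ⊞ B ⟶ A).hom.app (op W) z) +
        (biprod.inr : B ⟶ A ⊞ B).hom.app (op W) ((biprod.snd : A ⊞ B ⟶ B).hom.app (op W) z) :=
    fun z => (ConcreteCategory.congr_hom (NatTrans.congr_app
      (congrArg (fun φ => φ.hom) (biprod.total (X := A) (Y := B))) (op W)) z).symm
  rw [e a, e b, e₁, e₂]

lemma eq_of_rs_eq₂' (F : CohTop.Ab X) (W : Opens Y) {A B : Opens X} (hA : A ≤ (Opens.map f).obj W)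
    (hB : B ≤ (Opens.map f).obj W) (hcov : (Opens.map f).obj W ≤ A ⊔ B)
    {s t : F.obj.obj (op ((Opens.map f).obj W))} (e₁ : rs F.obj hA s = rs F.obj hA t)
    (e₂ : rs F.obj hB s = rs F.obj hB t) : s = t := by
  have h : rs F.obj (sup_le hA hB) s = rs F.obj (sup_le hA hB) t := by
    refine eq_of_rs_eq₂ F ?_ ?_ <;> rw [rs_rs, rs_rs] <;> assumption
  have := congrArg (rs F.obj hcov) h
  rwa [rs_rs, rs_rs, rs_self, rs_self] at this

theorem shortExact_relMV (hUV : U ⊔ V = ⊤) (I : CohTop.Ab X) [Injective I] (h0) :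
    (ShortComplex.mk
      (biprod.lift ((CohCx.pushToRestrPush f U).app I) ((CohCx.pushToRestrPush f V).app I))
      (biprod.desc ((CohCx.restrPushToRestrPush f (inf_le_left : U ⊓ V ≤ U)).app I)
        (-(CohCx.restrPushToRestrPush f (inf_le_right : U ⊓ V ≤ V)).app I)) h0).ShortExact := by
  set S := ShortComplex.mk
      (biprod.lift ((CohCx.pushToRestrPush f U).app I) ((CohCx.pushToRestrPush f V).app I))
      (biprod.desc ((CohCx.restrPushToRestrPush f (inf_le_left : U ⊓ V ≤ U)).app I)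
        (-(CohCx.restrPushToRestrPush f (inf_le_right : U ⊓ V ≤ V)).app I)) h0
  have hflq : TopCat.Sheaf.IsFlasque I := isFlasque_of_injective I
  -- opens over `W`
  let OU : Opens Y → Opens X := fun W => LocCohZ46.imU U ((Opens.map (CohCx.incl U ≫ f)).obj W)
  let OV : Opens Y → Opens X := fun W => LocCohZ46.imU V ((Opens.map (CohCx.incl V ≫ f)).obj W)
  let OUV : Opens Y → Opens X := fun W => LocCohZ46.imU (U ⊓ V) ((Opens.map (CohCx.incl (U ⊓ V) ≫ f)).obj W)
  have hOU : ∀ W, OU W = (Opens.map f).obj W ⊓ U := fun W => LocCohZ46.imU_map U ((Opens.map f).obj W)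
  have hOV : ∀ W, OV W = (Opens.map f).obj W ⊓ V := fun W => LocCohZ46.imU_map V ((Opens.map f).obj W)
  have hOUV : ∀ W, OUV W = (Opens.map f).obj W ⊓ (U ⊓ V) := fun W => LocCohZ46.imU_map (U ⊓ V) ((Opens.map f).obj W)
  have hcov : ∀ W, (Opens.map f).obj W ≤ OU W ⊔ OV W := fun W => by
    rw [hOU, hOV, ← inf_sup_left, hUV, inf_top_eq]
  have hU1 : ∀ W, OU W ≤ (Opens.map f).obj W := fun W => (hOU W).trans_le inf_le_left
  have hV1 : ∀ W, OV W ≤ (Opens.map f).obj W := fun W => (hOV W).trans_le inf_le_left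
  have hI1 : ∀ W, OUV W ≤ OU W := fun W => by rw [hOU, hOUV]; exact inf_le_inf_left _ inf_le_left
  have hI2 : ∀ W, OUV W ≤ OV W := fun W => by rw [hOV, hOUV]; exact inf_le_inf_left _ inf_le_right
  let AU := (CohTop.restrFunctor U ⋙ CohTop.push (CohCx.incl U ≫ f)).obj I
  let AV := (CohTop.restrFunctor V ⋙ CohTop.push (CohCx.incl V ≫ f)).obj I
  let p₁ : S.X₂ ⟶ AU := (biprod.fst : AU ⊞ AV ⟶ AU)
  let p₂ : S.X₂ ⟶ AV := (biprod.snd : AU ⊞ AV ⟶ AV)
  let j₁ : AU ⟶ S.X₂ := (biprod.inl : AU ⟶ AU ⊞ AV)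
  have hf1 : ∀ (W : Opens Y) (s : I.obj.obj (op ((Opens.map f).obj W))),
      p₁.hom.app (op W) (S.f.hom.app (op W) s) = rs I.obj (hU1 W) s := fun W s => by
    refine (ConcreteCategory.congr_hom (NatTrans.congr_app (congrArg (fun φ => φ.hom)
      (biprod.lift_fst ((CohCx.pushToRestrPush f U).app I) ((CohCx.pushToRestrPush f V).app I))) (op W)) s).trans ?_
    rfl
  have hf2 : ∀ (W : Opens Y) (s : I.obj.obj (op ((Opens.map f).obj W))),
      p₂.hom.app (op W) (S.f.hom.app (op W) s) = rs I.obj (hV1 W) s := fun W s => by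
    refine (ConcreteCategory.congr_hom (NatTrans.congr_app (congrArg (fun φ => φ.hom)
      (biprod.lift_snd ((CohCx.pushToRestrPush f U).app I) ((CohCx.pushToRestrPush f V).app I))) (op W)) s).trans ?_
    rfl
  have hg : ∀ (W : Opens Y) (z : S.X₂.obj.obj (op W)),
      (S.g.hom.app (op W) z : I.obj.obj (op (OUV W))) =
        rs I.obj (hI1 W) (p₁.hom.app (op W) z) -
          rs I.obj (hI2 W) (p₂.hom.app (op W) z) := fun W z => by
    refine (ConcreteCategory.congr_hom (NatTrans.congr_app (congrArg (fun φ => φ.hom)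
      (biprod.desc_eq : S.g = _)) (op W)) z).trans ?_
    exact (sub_eq_add_neg _ _).symm
  have hm : Mono S.f := by
    have : ∀ W, Mono (S.f.hom.app W) := fun W => (AddCommGrpCat.mono_iff_injective _).2
      ((injective_iff_map_eq_zero _).2 fun s hs => by
        refine eq_of_rs_eq₂' f I W.unop (hU1 _) (hV1 _) (hcov _) ?_ ?_
        · rw [← hf1]
          exact ((congrArg (p₁.hom.app W) hs).trans (map_zero _)).trans (map_zero _).symm
        · rw [← hf2]
          exact ((congrArg (p₂.hom.app W) hs).trans (map_zero _)).trans (map_zero _).symm)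
    have : Mono S.f.hom := NatTrans.mono_of_mono_app _
    exact (sheafToPresheaf _ _).mono_of_mono_map this
  refine { exact := ?_, mono_f := hm, epi_g := ?_ }
  · apply ShortComplex.exact_of_f_is_kernel
    refine KernelFork.IsLimit.ofι' _ _ fun {A} k hk => ?_
    have key : ∀ (W : (Opens Y)ᵒᵖ) (a : A.obj.obj W), ∃ s : I.obj.obj (op ((Opens.map f).obj W.unop)),
        S.f.hom.app W s = k.hom.app W a := by
      rintro ⟨W⟩ a
      set z : S.X₂.obj.obj (op W) := k.hom.app (op W) a
      have h1 : (S.g.hom.app (op W) z : I.obj.obj (op (OUV W))) = 0 :=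
        ConcreteCategory.congr_hom (NatTrans.congr_app (congrArg (fun φ => φ.hom) hk) (op W)) a
      let z₁ : I.obj.obj (op (OU W)) := p₁.hom.app (op W) z
      let z₂ : I.obj.obj (op (OV W)) := p₂.hom.app (op W) z
      have h0 : rs I.obj (hI1 W) z₁ = rs I.obj (hI2 W) z₂ := sub_eq_zero.1 ((hg W z).symm.trans h1)
      have hle : OU W ⊓ OV W ≤ OUV W := by
        rw [hOU, hOV, hOUV]
        exact le_inf (inf_le_left.trans inf_le_left) (inf_le_inf inf_le_right inf_le_right)
      obtain ⟨c, hc₁, hc₂⟩ := exists_glue₂ I (U := OU W) (V := OV W)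
        (p₁.hom.app (op W) z) (p₂.hom.app (op W) z) (by
          have e := congrArg (rs I.obj hle) h0
          rw [rs_rs, rs_rs] at e
          exact e)
      refine ⟨rs I.obj (hcov W) c, biprod_sections_ext W _ _ ?_ ?_⟩
      · rw [hf1, rs_rs]
        exact hc₁
      · rw [hf2, rs_rs]
        exact hc₂
    have hinj : ∀ W, Function.Injective (S.f.hom.app W) := fun W => by
      have : Mono S.f.hom := (sheafToPresheaf _ _).map_mono S.f
      exact (AddCommGrpCat.mono_iff_injective _).1
        (inferInstanceAs (Mono (((CategoryTheory.evaluation _ _).obj W).map S.f.hom)))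
    choose l hl using key
    let L : A ⟶ S.X₁ :=
      ⟨{ app := fun W => AddCommGrpCat.ofHom
          { toFun := l W
            map_zero' := hinj W ((hl W 0).trans ((map_zero _).trans (map_zero _).symm))
            map_add' := fun a b => hinj W ((hl W _).trans ((map_add _ _ _).trans
              ((congrArg₂ (· + ·) (hl W a) (hl W b)).symm.trans (map_add _ _ _).symm))) }
         naturality := fun W W' i => by
          ext a
          exact hinj W' ((hl W' _).trans ((k.hom.naturality_apply i a).trans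
            ((congrArg (S.X₂.obj.map i) (hl W a)).symm.trans (S.f.hom.naturality_apply i (l W a)).symm))) }⟩
    refine ⟨L, ?_⟩
    ext W a
    exact hl W a
  · refine epi_of_locally_surjective _ fun W s x hx => ⟨W, le_rfl, hx, ?_⟩
    obtain ⟨t, ht⟩ := (AddCommGrpCat.epi_iff_surjective _).1 (hflq.epi (homOfLE (hI1 W)).op) s
    refine ⟨j₁.hom.app (op W) t, ?_⟩
    rw [rs_self]
    refine (ConcreteCategory.congr_hom (NatTrans.congr_app (congrArg (fun φ => φ.hom)
      (biprod.inl_desc ((CohCx.restrPushToRestrPush f (inf_le_left : U ⊓ V ≤ U)).app I)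
        (-(CohCx.restrPushToRestrPush f (inf_le_right : U ⊓ V ≤ V)).app I))) (op W)) t).trans ?_
    exact ht

end Groth.Agent.TopCoh49
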