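import Groth.Agent.TopCoh49.Cech
import Mathlib.Algebra.Homology.Homotopy
import Mathlib.Algebra.Homology.SingleHomology

/-!
# The Čech complex of a family with a largest member
-/

set_option autoImplicit false
set_option linter.style.haveILetI false
universe u

open CategoryTheory Limits TopologicalSpace Opposite

namespace Groth.Agent.TopCoh49

variable {X : TopCat.{u}} {ι : Type u} (P : (Opens X)ᵒᵖ ⥤ AddCommGrpCat.{u}) (U : ι → Opens X)
  (i : ι) (hi : U i = iSup U)

/-- Restriction along an inclusion. -/
noncomputable abbrev res' {A B : Opens X} (h : B ≤ A) : P.obj (op A) →+ P.obj (op B) :=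
  (P.map (homOfLE h).op).hom

theorem res'_res' {A B D : Opens X} (h : B ≤ A) (h' : D ≤ B) (x : P.obj (op A)) :
    res' P h' (res' P h x) = res' P (h'.trans h) x :=
  (ConcreteCategory.congr_hom (P.map_comp (homOfLE h).op (homOfLE h').op) x).symm

theorem res'_congr {n : ℕ} (f : Coch P U n) {b b' : Fin (n + 1) → ι} (e : b = b') {W : Opens X}
    (h : W ≤ inter U b) (h' : W ≤ inter U b') : res' P h (f b) = res' P h' (f b') := by
  subst e
  rfl

omit P in
include hi in
theorem inter_le_cons {n : ℕ} (a : Fin (n + 1) → ι) : inter U a ≤ inter U (Fin.cons i a : Fin (n + 2) → ι) :=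
  le_iInf fun k => by
    induction k using Fin.cases with
    | zero =>
      rw [Fin.cons_zero, hi]
      exact (inter_le U a 0).trans (le_iSup U (a 0))
    | succ k =>
      rw [Fin.cons_succ]
      exact inter_le U a k

omit P in
include hi in
theorem iSup_le_inter : iSup U ≤ inter U (fun _ : Fin 1 => i) := le_iInf fun _ => hi.ge

omit P in
theorem inter_le_iSup {n : ℕ} (a : Fin (n + 1) → ι) : inter U a ≤ iSup U :=
  (inter_le U a 0).trans (le_iSup U (a 0))

/-- Prepending `i` to the arguments. -/
noncomputable def coneHtp (n : ℕ) : Coch P U (n + 1) →+ Coch P U n :=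
  AddMonoidHom.mk' (fun f a => res' P (inter_le_cons U i hi a) (f (Fin.cons i a)))
    fun f g => funext fun a => map_add _ _ _

/-- The augmentation. -/
noncomputable def augC : P.obj (op (iSup U)) →+ Coch P U 0 :=
  AddMonoidHom.mk' (fun x a => res' P (inter_le_iSup U a) x) fun x y => funext fun a => map_add _ _ _

/-- Evaluation at the largest member. -/
noncomputable def evC : Coch P U 0 →+ P.obj (op (iSup U)) :=
  AddMonoidHom.mk' (fun f => res' P (iSup_le_inter U i hi) (f fun _ => i)) fun f g => map_add _ _ _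

theorem cochD_augC (x : P.obj (op (iSup U))) : cochD P U 0 (augC P U x) = 0 := by
  funext a
  rw [cochD_apply, Fin.sum_univ_two]
  show (-1 : ℤ) ^ 0 • res' P _ (res' P _ x) + (-1 : ℤ) ^ 1 • res' P _ (res' P _ x) = 0
  rw [res'_res', res'_res', pow_zero, pow_one, one_smul, neg_one_smul, add_neg_cancel]

theorem coneHtp_cochD_zero (f : Coch P U 0) :
    coneHtp P U i hi 0 (cochD P U 0 f) = f - augC P U (evC P U i hi f) := by
  funext a
  show res' P _ (cochD P U 0 f (Fin.cons i a)) = f a - res' P _ (res' P _ (f fun _ => i))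
  rw [cochD_apply, map_sum, Fin.sum_univ_two, map_zsmul, map_zsmul]
  show (-1 : ℤ) ^ 0 • res' P _ (res' P _ _) + (-1 : ℤ) ^ 1 • res' P _ (res' P _ _) = _
  rw [res'_res', res'_res', res'_res', pow_zero, pow_one, one_smul, neg_one_smul, sub_eq_add_neg,
    res'_congr P U f (b' := a) (funext fun k => by simp) _ le_rfl,
    res'_congr P U f (b := (Fin.cons i a : Fin 2 → ι) ∘ (1 : Fin 2).succAbove) (b' := fun _ => i)
      (funext fun k => by fin_cases k; rfl) _ ((inter_le_iSup U a).trans (iSup_le_inter U i hi))]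
  exact congrArg (· + _) (ConcreteCategory.congr_hom (P.map_id _) (f a))

theorem cochD_coneHtp (n : ℕ) (f : Coch P U (n + 1)) :
    cochD P U n (coneHtp P U i hi n f) + coneHtp P U i hi (n + 1) (cochD P U (n + 1) f) = f := by
  funext a
  show cochD P U n (coneHtp P U i hi n f) a + res' P _ (cochD P U (n + 1) f (Fin.cons i a)) = f a
  rw [cochD_apply P U n, cochD_apply P U (n + 1), map_sum, Fin.sum_univ_succ (n := n + 2), map_zsmul,
    Fin.val_zero, pow_zero, one_smul]
  have hid : res' P (le_refl (inter U a)) (f a) = f a := ConcreteCategory.congr_hom (P.map_id _) (f a)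
  have h0 : res' P (inter_le_cons U i hi a)
      (res' P (inter_comp_le U (Fin.cons i a : Fin (n + 3) → ι) (0 : Fin (n + 3)).succAbove)
        (f ((Fin.cons i a : Fin (n + 3) → ι) ∘ (0 : Fin (n + 3)).succAbove))) = f a := by
    rw [res'_res', res'_congr P U f (b' := a) (funext fun k => by simp) _ le_rfl, hid]
  rw [show ((P.map (homOfLE (inter_comp_le U (Fin.cons i a : Fin (n + 3) → ι)
      (0 : Fin (n + 3)).succAbove)).op) : _ → _) = res' P _ from rfl, h0]
  rw [add_left_comm, ← Finset.sum_add_distrib, Finset.sum_eq_zero, add_zero]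
  intro j _
  rw [map_zsmul, Fin.val_succ, pow_succ, mul_neg_one, neg_smul]
  show (-1 : ℤ) ^ (j : ℕ) • res' P _ (res' P _ _) + -((-1 : ℤ) ^ (j : ℕ) • res' P _ (res' P _ _)) = 0
  rw [res'_res', res'_res']
  rw [add_neg_eq_zero]
  refine congrArg _ (res'_congr P U f (funext fun k => ?_) _ _)
  induction k using Fin.cases with
  | zero => simp
  | succ k => simp

/-- The explicit cochains as an object. -/
noncomputable abbrev cochIso (n : ℕ) : (cechCx P U).X n ≅ AddCommGrpCat.of (Coch P U n) :=
  (cochEquiv P U n).toAddCommGrpIso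

theorem cochIso_d (n : ℕ) :
    (cechCx P U).d n (n + 1) ≫ (cochIso P U (n + 1)).hom =
      (cochIso P U n).hom ≫ AddCommGrpCat.ofHom (cochD P U n) := by
  refine AddCommGrpCat.ext fun x => ?_
  exact cochEquiv_d P U n x

include i hi in
theorem nonempty_homotopyEquiv :
    Nonempty (HomotopyEquiv ((CochainComplex.single₀ AddCommGrpCat.{u}).obj (P.obj (op (iSup U))))
      (cechCx P U)) := by
  let e : P.obj (op (iSup U)) ⟶ (cechCx P U).X 0 := AddCommGrpCat.ofHom (augC P U) ≫ (cochIso P U 0).inv
  let r : (cechCx P U).X 0 ⟶ P.obj (op (iSup U)) := (cochIso P U 0).hom ≫ AddCommGrpCat.ofHom (evC P U i hi)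
  let h : ∀ n, (cechCx P U).X (n + 1) ⟶ (cechCx P U).X n := fun n =>
    (cochIso P U (n + 1)).hom ≫ AddCommGrpCat.ofHom (coneHtp P U i hi n) ≫ (cochIso P U n).inv
  have he : e ≫ (cechCx P U).d 0 1 = 0 := by
    rw [← cancel_mono (cochIso P U 1).hom, zero_comp, Category.assoc, cochIso_d, Category.assoc,
      Iso.inv_hom_id_assoc]
    refine AddCommGrpCat.ext fun x => ?_
    exact cochD_augC P U x
  have her : e ≫ r = 𝟙 _ := by
    rw [Category.assoc, Iso.inv_hom_id_assoc]
    refine AddCommGrpCat.ext fun x => ?_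
    show res' P _ (res' P _ x) = x
    rw [res'_res']
    exact ConcreteCategory.congr_hom (P.map_id _) x
  have h0 : (cechCx P U).d 0 1 ≫ h 0 = 𝟙 _ - r ≫ e := by
    rw [← cancel_mono (cochIso P U 0).hom]
    simp only [h, e, r, Category.assoc, Iso.inv_hom_id, Category.comp_id, Preadditive.sub_comp,
      Category.id_comp]
    rw [← Category.assoc, cochIso_d, Category.assoc]
    refine AddCommGrpCat.ext fun x => ?_
    exact coneHtp_cochD_zero P U i hi (cochEquiv P U 0 x)
  have hs : ∀ n, (cechCx P U).d (n + 1) (n + 2) ≫ h (n + 1) + h n ≫ (cechCx P U).d n (n + 1) = 𝟙 _ := by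
    intro n
    rw [← cancel_mono (cochIso P U (n + 1)).hom]
    simp only [h, Category.assoc, Preadditive.add_comp, Iso.inv_hom_id, Category.comp_id, Category.id_comp]
    rw [← Category.assoc ((cechCx P U).d (n + 1) (n + 2)), cochIso_d, cochIso_d, Category.assoc,
      Iso.inv_hom_id_assoc]
    refine AddCommGrpCat.ext fun x => ?_
    exact (add_comm _ _).trans (cochD_coneHtp P U i hi n (cochEquiv P U (n + 1) x))
  let F := (CochainComplex.fromSingle₀Equiv (cechCx P U) (P.obj (op (iSup U)))).symm ⟨e, he⟩
  let R := (CochainComplex.toSingle₀Equiv (cechCx P U) (P.obj (op (iSup U)))).symm r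
  have hF : F.f 0 = e := CochainComplex.fromSingle₀Equiv_symm_apply_f_zero e he
  have hR : R.f 0 = r := CochainComplex.toSingle₀Equiv_symm_apply_f_zero r
  refine ⟨{ hom := F, inv := R, homotopyHomInvId := Homotopy.ofEq ?_, homotopyInvHomId := ?_ }⟩
  · refine HomologicalComplex.hom_ext _ _ fun n => ?_
    cases n with
    | zero => rw [HomologicalComplex.comp_f, hF, hR]; exact her
    | succ n => exact (HomologicalComplex.isZero_single_obj_X _ 0 _ _ (by simp)).eq_of_src _ _
  · refine Homotopy.symm
      { hom := fun a b => if hab : b + 1 = a then eqToHom (by rw [hab]) ≫ h b else 0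
        zero := fun a b hab => dif_neg fun hh => hab hh
        comm := fun n => ?_ }
    cases n with
    | zero =>
      rw [dNext_eq _ (show (ComplexShape.up ℕ).Rel 0 1 from rfl), HomologicalComplex.id_f,
        HomologicalComplex.comp_f, hR, hF, dif_pos rfl, eqToHom_refl, Category.id_comp, h0]
      rw [show prevD 0 (fun a b => if hab : b + 1 = a then eqToHom (by rw [hab]) ≫ h b else 0) = 0 from by
        simp [prevD]]
      rw [add_zero]
      exact (sub_add_cancel _ _).symm
    | succ n =>
      rw [dNext_eq _ (show (ComplexShape.up ℕ).Rel (n + 1) (n + 2) from rfl),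
        prevD_eq _ (show (ComplexShape.up ℕ).Rel n (n + 1) from rfl), HomologicalComplex.id_f,
        HomologicalComplex.comp_f, dif_pos rfl, dif_pos rfl, eqToHom_refl, eqToHom_refl, Category.id_comp,
        Category.id_comp, hs n, (HomologicalComplex.isZero_single_obj_X _ 0 _ (n + 1) (by simp)).eq_of_tgt
          (R.f (n + 1)) 0, zero_comp, add_zero]

end Groth.Agent.TopCoh49
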