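import Groth.Agent.TopCoh49.FreeGen
import Groth.Agent.TopCoh49.MV
import Mathlib.CategoryTheory.Subobject.Lattice

/-!
Cohomological vanishing for all sheaves from vanishing for free sheaves on quasi-compact opens.
-/

universe u

open CategoryTheory Limits TopologicalSpace Opposite Abelian

namespace Groth.Agent.TopCoh49

lemma eq_zero_of_sup_eq {C : Type*} [Category C] [Abelian C] {F : C} (A B : Subobject F) {Q : C}
    (h : ((A ⊔ B : Subobject F) : C) ⟶ Q) (hA : Subobject.ofLE A (A ⊔ B) le_sup_left ≫ h = 0)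
    (hB : Subobject.ofLE B (A ⊔ B) le_sup_right ≫ h = 0) : h = 0 := by
  have hle : A ⊔ B ≤ Subobject.mk (kernel.ι h ≫ (A ⊔ B).arrow) :=
    sup_le (Subobject.le_mk_of_comm (kernel.lift h _ hA) (by simp))
      (Subobject.le_mk_of_comm (kernel.lift h _ hB) (by simp))
  have e : Subobject.ofLEMk _ _ hle ≫ kernel.ι h = 𝟙 _ := by
    rw [← cancel_mono (A ⊔ B).arrow, Category.assoc, Subobject.ofLEMk_comp, Category.id_comp]
  have : (Subobject.ofLEMk _ _ hle ≫ kernel.ι h) ≫ h = 0 := by
    rw [Category.assoc, kernel.condition, comp_zero]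
  rwa [e, Category.id_comp] at this

variable {X : TopCat.{u}} {d : ℕ}

lemma VanishAbove.ext {S : ShortComplex (CohTop.Ab X)} (hS : S.ShortExact) (h₁ : VanishAbove d S.X₁)
    (h₃ : VanishAbove d S.X₃) : VanishAbove d S.X₂ := fun p hp => by
  refine subsingleton_of_forall_eq 0 fun x => ?_
  obtain ⟨y, rfl⟩ := exact₂ hS p ⊤ x ((h₃ p hp).elim _ _)
  rw [(h₁ p hp).elim y 0, map_zero]

lemma VanishAbove.coker {S : ShortComplex (CohTop.Ab X)} (hS : S.ShortExact) (h₁ : VanishAbove d S.X₁)
    (h₂ : VanishAbove d S.X₂) : VanishAbove d S.X₃ := fun p hp => by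
  refine subsingleton_of_forall_eq 0 fun x => ?_
  obtain ⟨y, rfl⟩ := exact₃ hS rfl ⊤ x ((h₁ (p + 1) (by omega)).elim _ _)
  rw [(h₂ p hp).elim y 0, map_zero]

lemma VanishAbove.biprod {A B : CohTop.Ab X} (hA : VanishAbove d A) (hB : VanishAbove d B) :
    VanishAbove d (A ⊞ B) :=
  VanishAbove.ext (S := ShortComplex.mk (biprod.inl : A ⟶ A ⊞ B) biprod.snd biprod.inl_snd)
    (ShortComplex.Splitting.ofHasBinaryBiproduct A B).shortExact hA hB

variable [CompactSpace X] [PrespectralSpace X] [QuasiSeparatedSpace X]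

lemma VanishAbove.colimit {I : Type u} [SmallCategory I] [IsFiltered I] (D : I ⥤ CohTop.Ab X)
    (h : ∀ i, VanishAbove d (D.obj i)) : VanishAbove d (colimit D) := fun p hp => by
  refine subsingleton_of_forall_eq 0 fun y => ?_
  obtain ⟨i, x, rfl⟩ := (colim_E (U := ⊤) isCompact_univ p D).1 y
  rw [(h i p hp).elim x 0, map_zero]

lemma VanishAbove.of_directed {I : Type u} [SmallCategory I] [IsFiltered I] (D : I ⥤ CohTop.Ab X)
    (F : CohTop.Ab X) (c : D ⟶ (Functor.const I).obj F) [∀ i, Mono (c.app i)]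
    (hloc : ∀ (W : Opens X) (s : F.obj.obj (op W)) (x : X), x ∈ W → ∃ (V : Opens X) (hV : V ≤ W),
      x ∈ V ∧ ∃ (i : I) (t : (D.obj i).obj.obj (op V)),
        (c.app i).hom.app (op V) t = rs F.obj hV s)
    (h : ∀ i, VanishAbove d (D.obj i)) : VanishAbove d F := by
  let φ : Limits.colimit D ⟶ F := colimit.desc D ⟨F, c⟩
  have he : Epi φ := epi_of_locally_surjective φ fun W s x hx => by
    obtain ⟨V, hV, hxV, i, t, ht⟩ := hloc W s x hx
    refine ⟨V, hV, hxV, (colimit.ι D i).hom.app (op V) t, ?_⟩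
    exact (ConcreteCategory.congr_hom (NatTrans.congr_app
      (congrArg (fun f => f.hom) (colimit.ι_desc (⟨F, c⟩ : Cocone D) i)) (op V)) t).trans ht
  have hm : Mono φ := by
    have : Mono c := NatTrans.mono_of_mono_app _
    have : Mono (colim.map c) := inferInstance
    have : CategoryTheory.IsConnected I := IsFiltered.isConnected I
    let k : Limits.colimit ((Functor.const I).obj F) ⟶ F := colimit.desc _ ⟨F, 𝟙 _⟩
    have hk' : k = ((colimit.isColimit _).coconePointUniqueUpToIso (isColimitConstCocone I F)).hom :=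
      colimit.hom_ext fun i => by
        exact (colimit.ι_desc _ i).trans ((colimit.isColimit _).comp_coconePointUniqueUpToIso_hom _ i).symm
    have hk : IsIso k := hk' ▸ inferInstance
    have : φ = colim.map c ≫ k := colimit.hom_ext fun i => by simp [φ, k]
    rw [this]
    infer_instance
  have : IsIso φ := isIso_of_mono_of_epi _
  exact (VanishAbove.colimit D h).of_iso (asIso φ)

variable (hfree : ∀ U : Opens X, IsCompact (U : Set X) → VanishAbove d (freeU U))
include hfree

lemma vanish_ind {W : Opens X} (hW : IsCompact (W : Set X)) {n : ℤ} (hn : n ≠ 0) :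
    VanishAbove d (subSheaf (ind W n)) :=
  have := isIso_freeToSub W hn
  (hfree W hW).of_iso (asIso (freeToSub W n))

lemma vanish_gens : ∀ (k : ℕ) (L : List (Opens X × ℤ)), L.length = k →
    (∀ p ∈ L, IsCompact (p.1 : Set X)) → VanishAbove d (subSheaf (gens L)) := by
  intro k
  induction k with
  | zero =>
    intro L hL _
    obtain rfl := List.length_eq_zero_iff.1 hL
    refine VanishAbove.isZero ((IsZero.iff_id_eq_zero _).2 ?_)
    ext V f
    exact Subtype.ext (funext fun x => AddSubgroup.mem_bot.1 ((f : secI (gens []) V.unop).2.2 x))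
  | succ k ih =>
    intro L hL hc
    obtain ⟨⟨W, n⟩, L, rfl⟩ := List.exists_cons_of_length_eq_add_one hL
    have hlen : L.length = k := by simpa using hL
    have hcL : ∀ p ∈ L, IsCompact (p.1 : Set X) := fun p hp => hc p (List.mem_cons_of_mem _ hp)
    have hWc : IsCompact (W : Set X) := hc (W, n) List.mem_cons_self
    by_cases hn : n = 0
    · have e : gens ((W, n) :: L) = gens L := by
        subst hn
        funext x
        by_cases hx : x ∈ W
        · simp [gens, ind_of_mem hx]
        · simp [gens, ind_of_not_mem hx]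
      rw [e]
      exact ih L hlen hcL
    · refine VanishAbove.coker (subMV_shortExact (openI_ind W n) (openI_gens L)) ?_
        (VanishAbove.biprod (vanish_ind hfree hWc hn) (ih L hlen hcL))
      change VanishAbove d (subSheaf (ind W n ⊓ gens L))
      rw [ind_inf_gens]
      refine ih _ (by simp [hlen]) ?_
      intro p hp
      obtain ⟨q, hq, rfl⟩ := List.mem_map.1 hp
      exact QuasiSeparatedSpace.inter_isCompact _ _ W.2 hWc q.1.2 (hcL q hq)

omit hfree in
lemma gens_le_iff (L : List (Opens X × ℤ)) (J : X → AddSubgroup ℤ) :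
    gens L ≤ J ↔ ∀ p ∈ L, ind p.1 p.2 ≤ J := by
  induction L with
  | nil => simp [gens]
  | cons p L ih => simp [gens, ih]

omit hfree in
lemma ind_le_gens {L : List (Opens X × ℤ)} {p : Opens X × ℤ} (h : p ∈ L) : ind p.1 p.2 ≤ gens L :=
  (gens_le_iff L _).1 le_rfl p h

lemma vanish_openI (J : X → AddSubgroup ℤ) (hJ : OpenI J) : VanishAbove d (subSheaf J) := by
  classical
  let σ : Type u := {p : Opens X × ULift.{u} ℤ // IsCompact (p.1 : Set X) ∧ ∀ x ∈ p.1, p.2.down ∈ J x}
  let lst : Finset σ → List (Opens X × ℤ) := fun s => s.toList.map fun p => (p.1.1, p.1.2.down)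
  have hle : ∀ s, gens (lst s) ≤ J := fun s => (gens_le_iff _ _).2 fun p hp => by
    obtain ⟨q, -, rfl⟩ := List.mem_map.1 hp
    intro x
    by_cases hx : x ∈ q.1.1
    · rw [ind_of_mem hx, AddSubgroup.zmultiples_le]
      exact q.2.2 x hx
    · rw [ind_of_not_mem hx]
      exact bot_le
  have hmono : Monotone fun s => gens (lst s) := fun s t hst => (gens_le_iff _ _).2 fun p hp => by
    obtain ⟨q, hq, rfl⟩ := List.mem_map.1 hp
    exact ind_le_gens (List.mem_map.2 ⟨q, Finset.mem_toList.2 (hst (Finset.mem_toList.1 hq)), rfl⟩)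
  let D : Finset σ ⥤ CohTop.Ab X :=
    { obj := fun s => subSheaf (gens (lst s))
      map := fun f => subIncl (hmono (leOfHom f))
      map_id := fun s => by ext V f; rfl
      map_comp := fun f g => by ext V a; rfl }
  let c : D ⟶ (Functor.const _).obj (subSheaf J) :=
    { app := fun s => subIncl (hle s)
      naturality := fun s t f => by ext V a; rfl }
  have : ∀ s, Mono (c.app s) := fun s => mono_subIncl (hle s)
  refine VanishAbove.of_directed D _ c (fun W s x hx => ?_) (fun s => vanish_gens hfree _ _ rfl ?_)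
  · obtain ⟨O, hO, hxO, hOc⟩ := (IsLocallyConstant.iff_exists_open _).1 (s : secI J W).2.1 ⟨x, hx⟩
    obtain ⟨O', hO', rfl⟩ := hO
    obtain ⟨V, ⟨hVo, hVc⟩, hxV, hVsub⟩ := (PrespectralSpace.isTopologicalBasis (X := X)).exists_subset_of_mem_open
      (show x ∈ (W : Set X) ∩ O' from ⟨hx, hxO⟩) (W.isOpen.inter hO')
    set m : ℤ := (s : secI J W).1 ⟨x, hx⟩ with hm
    let q : σ := ⟨(⟨V, hVo⟩, ⟨m⟩), hVc, fun y hy => by
      have := (s : secI J W).2.2 ⟨y, (hVsub hy).1⟩
      rwa [show (s : secI J W).1 ⟨y, (hVsub hy).1⟩ = m from hOc _ (hVsub hy).2] at this⟩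
    refine ⟨⟨V, hVo⟩, fun y hy => (hVsub hy).1, hxV, {q},
      (⟨fun _ => m, IsLocallyConstant.const _, fun y => ?_⟩ : secI (gens (lst {q})) ⟨V, hVo⟩), ?_⟩
    · refine ind_le_gens (p := (q.1.1, m)) (List.mem_map.2 ⟨q, by simp, rfl⟩) y.1 ?_
      rw [ind_of_mem (show y.1 ∈ q.1.1 from y.2)]
      exact AddSubgroup.mem_zmultiples m
    · exact Subtype.ext (funext fun y => (hOc ⟨y.1, (hVsub y.2).1⟩ (hVsub y.2).2).symm)
  · intro p hp
    obtain ⟨q, -, rfl⟩ := List.mem_map.1 hp
    exact q.2.1

lemma vanish_sub_free {U : Opens X} {K : CohTop.Ab X} (k : K ⟶ freeU U) [Mono k] : VanishAbove d K := by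
  let m : K ⟶ subSheaf (ind U 1) := k ≫ freeToSub U 1
  have := isIso_freeToSub U (n := 1) one_ne_zero
  have hmm : Mono m := mono_comp _ _
  have hinj : ∀ V, Function.Injective (m.hom.app (op V)) := fun V => by
    have : Mono m.hom := (sheafToPresheaf _ _).map_mono m
    exact (AddCommGrpCat.mono_iff_injective _).1
      (inferInstanceAs (Mono (((CategoryTheory.evaluation _ _).obj (op V)).map m.hom)))
  let val : ∀ V : Opens X, K.obj.obj (op V) → ↥V → ℤ :=
    fun V a => (m.hom.app (op V) a : secI (ind U 1) V).1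
  have val_add : ∀ (V : Opens X) (a b : K.obj.obj (op V)), val V (a + b) = val V a + val V b :=
    fun V a b => congrArg Subtype.val (map_add (m.hom.app (op V)).hom a b)
  have val_res : ∀ {V V' : Opens X} (h : V' ≤ V) (a : K.obj.obj (op V)) (y : V'),
      val V' (rs K.obj h a) y = val V a ⟨y.1, h y.2⟩ := fun h a y =>
    congrFun (congrArg Subtype.val (ConcreteCategory.congr_hom (m.hom.naturality (homOfLE h).op) a :)) y
  let P : X → ℤ → Prop := fun x n => ∃ (V : Opens X) (_ : x ∈ V) (a : K.obj.obj (op V)), ∀ y, val V a y = n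
  let J : X → AddSubgroup ℤ := fun x =>
    { carrier := {n | P x n}
      zero_mem' := ⟨⊤, trivial, 0, fun y =>
        congrFun (congrArg Subtype.val (map_zero (m.hom.app (op ⊤)).hom)) y⟩
      add_mem' := fun {n n'} ⟨V, hx, a, ha⟩ ⟨V', hx', a', ha'⟩ =>
        ⟨V ⊓ V', ⟨hx, hx'⟩, rs K.obj inf_le_left a + rs K.obj inf_le_right a', fun y => by
          rw [val_add, Pi.add_apply, val_res, val_res, ha, ha']⟩
      neg_mem' := fun {n} ⟨V, hx, a, ha⟩ => ⟨V, hx, -a, fun y => by
        have := congrFun (congrArg Subtype.val (map_neg (m.hom.app (op V)).hom a)) y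
        exact this.trans (congrArg Neg.neg (ha y))⟩ }
  have hJ : OpenI J := fun n => by
    refine isOpen_iff_forall_mem_open.2 fun x hx' => ?_
    change P x n at hx'
    obtain ⟨V, hx, a, ha⟩ := hx'
    exact ⟨(V : Set X), fun y hy => (⟨V, hy, a, ha⟩ : P y n), V.2, hx⟩
  have hmemJ : ∀ (V : Opens X) (a : K.obj.obj (op V)) (x : V), val V a x ∈ J x.1 := fun V a x => by
    obtain ⟨O, hO, hxO, hOc⟩ :=
      (IsLocallyConstant.iff_exists_open _).1 (m.hom.app (op V) a : secI (ind U 1) V).2.1 x
    obtain ⟨O', hO', rfl⟩ := hO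
    let W : Opens X := ⟨(V : Set X) ∩ O', V.2.inter hO'⟩
    have hW : W ≤ V := fun y hy => hy.1
    exact ⟨W, ⟨x.2, hxO⟩, rs K.obj hW a, fun y => (val_res hW a y).trans (hOc ⟨y.1, y.2.1⟩ y.2.2)⟩
  let ψ : K ⟶ subSheaf J :=
    ⟨{ app := fun V => AddCommGrpCat.ofHom
        { toFun := fun a => (⟨val V.unop a, (m.hom.app V a : secI (ind U 1) V.unop).2.1,
            hmemJ V.unop a⟩ : secI J V.unop)
          map_zero' := Subtype.ext (congrArg Subtype.val (map_zero (m.hom.app V).hom) :)
          map_add' := fun a b => Subtype.ext (val_add V.unop a b) }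
       naturality := fun V W i => by
        ext a
        exact Subtype.ext (funext fun y => val_res (leOfHom i.unop) a y) }⟩
  have hψm : Mono ψ := by
    have : ∀ V, Mono (ψ.hom.app V) := fun V => (AddCommGrpCat.mono_iff_injective _).2 fun a b hab =>
      hinj V.unop (Subtype.ext (congrArg Subtype.val hab :))
    have : Mono ψ.hom := NatTrans.mono_of_mono_app _
    exact (sheafToPresheaf _ _).mono_of_mono_map this
  have hψe : Epi ψ := epi_of_locally_surjective ψ fun W s x hx => by
    obtain ⟨O, hO, hxO, hOc⟩ := (IsLocallyConstant.iff_exists_open _).1 (s : secI J W).2.1 ⟨x, hx⟩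
    obtain ⟨O', hO', rfl⟩ := hO
    obtain ⟨V, hxV, a, ha⟩ := (s : secI J W).2.2 ⟨x, hx⟩
    let W' : Opens X := ⟨(W : Set X) ∩ O' ∩ V, (W.2.inter hO').inter V.2⟩
    have hW' : W' ≤ V := fun y hy => hy.2
    refine ⟨W', fun y hy => hy.1.1, ⟨⟨hx, hxO⟩, hxV⟩, rs K.obj hW' a, Subtype.ext (funext fun y => ?_)⟩
    exact (val_res _ a y).trans ((ha _).trans (hOc ⟨y.1, y.2.1.1⟩ y.2.1.2).symm)
  have : IsIso ψ := isIso_of_mono_of_epi _
  exact (vanish_openI hfree J hJ).of_iso (asIso ψ).symm

lemma vanish_quot_free {U : Opens X} (hU : IsCompact (U : Set X)) {Q : CohTop.Ab X} (q : freeU U ⟶ Q)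
    [Epi q] : VanishAbove d Q :=
  VanishAbove.coker (S := ShortComplex.mk (kernel.ι q) q (kernel.condition q))
    { exact := ShortComplex.exact_kernel q } (vanish_sub_free hfree (kernel.ι q)) (hfree U hU)

/-- Vanishing for free sheaves on quasi-compact opens gives vanishing for all sheaves. -/
theorem vanishAbove_all (F : CohTop.Ab X) : VanishAbove d F := by
  classical
  let σ : Type u := Σ U : {U : Opens X // IsCompact (U : Set X)}, (F.obj.obj (op U.1) : Type u)
  let im : σ → Subobject F := fun p => imageSubobject ((freeHomEquiv p.1.1 F).symm p.2)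
  let N : Finset σ → Subobject F := fun s => s.sup im
  have hN : ∀ s, VanishAbove d (N s : CohTop.Ab X) := by
    intro s
    induction s using Finset.induction with
    | empty =>
      refine VanishAbove.isZero ?_
      simp only [N, Finset.sup_empty]
      exact IsZero.of_iso (isZero_zero _) Subobject.botCoeIsoZero
    | @insert a s _ ih =>
      have hN' : N (insert a s) = N s ⊔ im a := by
        simp only [N, Finset.sup_insert, sup_comm]
      rw [hN']
      let T : Subobject F := N s ⊔ im a
      let c := cokernel.π (Subobject.ofLE (N s) T le_sup_left)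
      let q : freeU a.1.1 ⟶ cokernel (Subobject.ofLE (N s) T le_sup_left) :=
        factorThruImageSubobject _ ≫ Subobject.ofLE (im a) T le_sup_right ≫ c
      have : Epi q := by
        refine Preadditive.epi_of_cancel_zero _ fun {Z} g hg => ?_
        simp only [q, Category.assoc] at hg
        have h2 : Subobject.ofLE (im a) T le_sup_right ≫ c ≫ g = 0 :=
          (cancel_epi (factorThruImageSubobject _)).1 (hg.trans comp_zero.symm)
        have := eq_zero_of_sup_eq (N s) (im a) (c ≫ g)
          (by rw [← Category.assoc, cokernel.condition, zero_comp]) h2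
        exact (cancel_epi c).1 (this.trans comp_zero.symm)
      exact VanishAbove.ext (S := ShortComplex.mk _ c (cokernel.condition _))
        { exact := ShortComplex.exact_cokernel _ } ih (vanish_quot_free hfree a.1.2 q)
  have hmono : Monotone N := fun s t h => Finset.sup_mono h
  let D : Finset σ ⥤ CohTop.Ab X := hmono.functor ⋙ Subobject.underlying
  let c : D ⟶ (Functor.const _).obj F :=
    { app := fun s => (N s).arrow
      naturality := fun s t f => by simp [D] }
  have : ∀ s, Mono (c.app s) := fun s => inferInstanceAs (Mono (N s).arrow)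
  refine VanishAbove.of_directed D F c (fun W s x hx => ?_) hN
  obtain ⟨V, ⟨hVo, hVc⟩, hxV, hVW⟩ :=
    (PrespectralSpace.isTopologicalBasis (X := X)).exists_subset_of_mem_open hx W.isOpen
  let V' : Opens X := ⟨V, hVo⟩
  let t : F.obj.obj (op V') := rs F.obj (show V' ≤ W from hVW) s
  let p : σ := ⟨⟨V', hVc⟩, t⟩
  have hp : im p ≤ N {p} := Finset.le_sup (f := im) (Finset.mem_singleton_self p)
  let l : freeU V' ⟶ D.obj {p} := factorThruImageSubobject _ ≫ Subobject.ofLE (im p) (N {p}) hp
  refine ⟨V', hVW, hxV, {p}, freeHomEquiv V' _ l, ?_⟩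
  refine (freeHomEquiv_comp V' l (c.app {p})).symm.trans ?_
  have : l ≫ c.app {p} = (freeHomEquiv V' F).symm t := by
    change (factorThruImageSubobject _ ≫ Subobject.ofLE (im p) (N {p}) hp) ≫ (N {p}).arrow = _
    rw [Category.assoc, Subobject.ofLE_arrow, imageSubobject_arrow_comp]
  rw [this]
  exact Equiv.apply_symm_apply _ _

end Groth.Agent.TopCoh49
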