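import Groth.Agent.TopCoh49.ClosedPush
import Groth.Prelude.Def_CohCx

/-!
# Sections with support in a closed subset of an injective sheaf
-/

set_option autoImplicit false
set_option linter.style.haveILetI false
universe u

open CategoryTheory Limits TopologicalSpace Opposite TopCat

namespace Groth.Agent.TopCoh49

variable {X : TopCat.{u}} (U : Opens X)

theorem isClosedEmbedding_inclCompl : Topology.IsClosedEmbedding (CohCx.inclCompl U) :=
  U.isOpen.isClosed_compl.isClosedEmbedding_subtypeVal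

theorem isZero_stalk_sectSupp (F : CohTop.Ab X) (x : X) (hx : x ∈ U) :
    IsZero (CohTop.stalk (CohCx.sectSupp U F) x) := by
  let η := (TopCat.Sheaf.pullbackPushforwardAdjunction AddCommGrpCat.{u} (CohCx.incl U)).unit.app F
  let S := Presheaf.stalkFunctor AddCommGrpCat.{u} x
  haveI : Mono (S.map η.hom) := by
    haveI : IsIso (S.map η.hom ≫ Presheaf.stalkPushforward AddCommGrpCat.{u} (CohCx.incl U)
        ((CohTop.pull (CohCx.incl U)).obj F).obj (⟨x, hx⟩ : TopCat.of U)) :=
      isIso_stalkUnit (CohCx.incl U) F (⟨x, hx⟩ : TopCat.of U)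
    exact mono_of_mono (S.map η.hom) (Presheaf.stalkPushforward AddCommGrpCat.{u} (CohCx.incl U)
      ((CohTop.pull (CohCx.incl U)).obj F).obj (⟨x, hx⟩ : TopCat.of U))
  have hm : Mono (S.map (kernel.ι η).hom) :=
    inferInstanceAs (Mono ((Sheaf.forget AddCommGrpCat.{u} X ⋙ S).map (kernel.ι η)))
  have h0 : S.map (kernel.ι η).hom = 0 := by
    rw [← cancel_mono (S.map η.hom), zero_comp, ← S.map_comp]
    have : ((kernel.ι η).hom ≫ η.hom) = 0 := congrArg (fun φ => φ.hom) (kernel.condition η)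
    rw [this]
    exact ((Sheaf.forget AddCommGrpCat.{u} X ⋙ S).map_zero _ _)
  exact @IsZero.of_mono_eq_zero _ _ _ _ _ (S.map (kernel.ι η).hom) hm h0

omit U in
theorem isZero_of_isZero_stalk (F : CohTop.Ab X) (h : ∀ x, IsZero (CohTop.stalk F x)) : IsZero F := by
  rw [IsZero.iff_id_eq_zero]
  apply CategoryTheory.Sheaf.hom_ext
  ext V s
  exact TopCat.Presheaf.section_ext (X := X) (C := AddCommGrpCat.{u}) F V.unop _ _ fun x hx =>
    (AddCommGrpCat.subsingleton_of_isZero (h x)).elim _ _

theorem injective_HZ (I : CohTop.Ab X) [Injective I] : Injective (CohCx.HZ U I) := by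
  let i := CohCx.inclCompl U
  have hi := isClosedEmbedding_inclCompl U
  let adjj := TopCat.Sheaf.pullbackPushforwardAdjunction AddCommGrpCat.{u} (CohCx.incl U)
  let ff := @Adjunction.fullyFaithfulROfIsIsoCounit _ _ _ _ _ _
    (TopCat.Sheaf.pullbackPushforwardAdjunction AddCommGrpCat.{u} i) (isIso_counit i hi.isInducing)
  obtain ⟨G₀, ⟨e₀⟩⟩ := (essImage_push_iff i hi (CohCx.sectSupp U I)).2 fun x hx =>
    isZero_stalk_sectSupp U I x (by
      by_contra hxU
      exact hx ⟨⟨x, hxU⟩, rfl⟩)
  let e : (CohTop.push i).obj (CohCx.HZ U I) ≅ CohCx.sectSupp U I :=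
    (CohTop.push i).mapIso ((CohTop.pull i).mapIso e₀.symm ≪≫
      (@asIso _ _ _ _ ((TopCat.Sheaf.pullbackPushforwardAdjunction AddCommGrpCat.{u} i).counit)
        (isIso_counit i hi.isInducing)).app G₀) ≪≫ e₀
  haveI : (CohTop.push i).IsRightAdjoint :=
    (TopCat.Sheaf.pullbackPushforwardAdjunction AddCommGrpCat.{u} i).isRightAdjoint
  haveI : (CohTop.push i).PreservesMonomorphisms :=
    Functor.preservesMonomorphisms_of_isRightAdjoint _
  refine ⟨fun {G G'} b a ha => ?_⟩
  haveI := ha
  let φ : (CohTop.push i).obj G ⟶ I := (CohTop.push i).map b ≫ e.hom ≫ kernel.ι _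
  let c := Injective.factorThru φ ((CohTop.push i).map a)
  have hzero : IsZero ((CohTop.pull (CohCx.incl U)).obj ((CohTop.push i).obj G')) := by
    refine isZero_of_isZero_stalk _ fun x => ?_
    refine IsZero.of_iso ?_ (@asIso _ _ _ _ (stalkUnit (CohCx.incl U) ((CohTop.push i).obj G') x)
      (isIso_stalkUnit _ _ _)).symm
    exact isZero_stalk_push i hi G' _ fun ⟨z, hz⟩ => z.2 (show (z : X) ∈ U from
      (show (z : X) = _ from hz) ▸ x.2)
  have hc : c ≫ adjj.unit.app I = 0 := by
    apply (adjj.homEquiv _ _).symm.injective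
    exact hzero.eq_of_src _ _
  refine ⟨ff.preimage (kernel.lift _ c hc ≫ e.inv), ff.map_injective ?_⟩
  refine (Functor.map_comp _ _ _).trans ?_
  rw [ff.map_preimage]
  refine (cancel_mono (e.hom ≫ kernel.ι _)).1 ?_
  refine Eq.trans ?_ (Injective.comp_factorThru φ ((CohTop.push i).map a))
  refine (Category.assoc _ _ _).trans (congrArg ((CohTop.push i).map a ≫ ·) ?_)
  refine (Category.assoc _ _ _).trans ?_
  refine (congrArg (kernel.lift _ c hc ≫ ·) (e.inv_hom_id_assoc _)).trans ?_
  exact kernel.lift_ι _ _ _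

end Groth.Agent.TopCoh49
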