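import Groth.Agent.TopCoh49.CechFlasque
import Groth.Agent.TopCoh49.Inst
import Mathlib.CategoryTheory.Sites.Limits
import Mathlib.CategoryTheory.Sites.LocallyBijective
import Mathlib.Topology.Spectral.Prespectral
import Mathlib.Topology.QuasiSeparated
import Mathlib.CategoryTheory.Limits.ConcreteCategory.Basic
import Mathlib.CategoryTheory.Filtered.Basic

/-!
Sections of filtered colimits of abelian sheaves over compact opens.
-/

universe u

open CategoryTheory Limits TopologicalSpace Opposite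

namespace Groth.Agent.TopCoh49

variable {X : TopCat.{u}} {I : Type u} [SmallCategory I] {F : I ⥤ CohTop.Ab X}
  {c : Cocone F}

/-- Sections of a component of a colimit cocone. -/
noncomputable abbrev cι (c : Cocone F) (i : I) (U : Opens X) :
    (F.obj i).obj.obj (op U) →+ c.pt.obj.obj (op U) :=
  ((c.ι.app i).hom.app (op U)).hom

/-- Transition maps on sections. -/
noncomputable abbrev ctr (F : I ⥤ CohTop.Ab X) {i j : I} (f : i ⟶ j) (U : Opens X) :
    (F.obj i).obj.obj (op U) →+ (F.obj j).obj.obj (op U) :=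
  ((F.map f).hom.app (op U)).hom

lemma ctr_id (i : I) (U : Opens X) (t : (F.obj i).obj.obj (op U)) : ctr F (𝟙 i) U t = t := by
  simp [ctr]

lemma ctr_comp {i j k : I} (f : i ⟶ j) (g : j ⟶ k) (U : Opens X) (t : (F.obj i).obj.obj (op U)) :
    ctr F (f ≫ g) U t = ctr F g U (ctr F f U t) := by
  simp [ctr]

lemma cι_ctr (c : Cocone F) {i j : I} (f : i ⟶ j) (U : Opens X) (t : (F.obj i).obj.obj (op U)) :
    cι c j U (ctr F f U t) = cι c i U t :=
  ConcreteCategory.congr_hom (NatTrans.congr_app (congrArg (fun φ => φ.hom) (c.w f)) (op U)) t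

lemma cι_rs (c : Cocone F) (i : I) {U V : Opens X} (h : V ≤ U) (t : (F.obj i).obj.obj (op U)) :
    cι c i V (rs (F.obj i).obj h t) = rs c.pt.obj h (cι c i U t) :=
  ConcreteCategory.congr_hom ((c.ι.app i).hom.naturality (homOfLE h).op) t

lemma ctr_rs {i j : I} (f : i ⟶ j) {U V : Opens X} (h : V ≤ U) (t : (F.obj i).obj.obj (op U)) :
    ctr F f V (rs (F.obj i).obj h t) = rs (F.obj j).obj h (ctr F f U t) :=
  ConcreteCategory.congr_hom ((F.map f).hom.naturality (homOfLE h).op) t

variable [IsFiltered I]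

/-- A filtered colimit of sheaves is locally the colimit of sections. -/
lemma colim_local (hc : IsColimit c) :
    (∀ (U : Opens X) (y : c.pt.obj.obj (op U)) (x : X), x ∈ U →
      ∃ (V : Opens X) (hV : V ≤ U), x ∈ V ∧ ∃ i t, cι c i V t = rs c.pt.obj hV y) ∧
    (∀ (U : Opens X) (i : I) (t : (F.obj i).obj.obj (op U)), cι c i U t = 0 → ∀ x : X, x ∈ U →
      ∃ (V : Opens X) (hV : V ≤ U), x ∈ V ∧ ∃ (j : I) (f : i ⟶ j),
        rs (F.obj j).obj hV (ctr F f U t) = 0) := by
  let J := Opens.grothendieckTopology X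
  let E := colimit.cocone (F ⋙ sheafToPresheaf J AddCommGrpCat.{u})
  let e := (Sheaf.isColimitSheafifyCocone E (colimit.isColimit _)).coconePointUniqueUpToIso hc
  let m : E.pt ⟶ c.pt.obj := toSheafify J E.pt ≫ e.hom.hom
  have hm : J.W m := by
    refine J.W.comp_mem _ _ (J.W_toSheafify E.pt) ?_
    have : IsIso e.hom.hom := inferInstanceAs (IsIso ((sheafToPresheaf J AddCommGrpCat.{u}).map e.hom))
    exact MorphismProperty.of_isIso _ _
  rw [GrothendieckTopology.W_iff_isLocallyBijective] at hm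
  obtain ⟨hinj, hsurj⟩ := hm
  have hι : ∀ i, E.ι.app i ≫ m = (c.ι.app i).hom := fun i => by
    have h := congrArg (fun φ => φ.hom)
      ((Sheaf.isColimitSheafifyCocone E (colimit.isColimit _)).comp_coconePointUniqueUpToIso_hom hc i)
    refine (Category.assoc _ _ _).symm.trans (Eq.trans (congrArg (· ≫ e.hom.hom) ?_) h)
    change _ = ((asIso (sheafificationAdjunction J AddCommGrpCat.{u}).counit).inv.app (F.obj i)).hom ≫
      ((presheafToSheaf J AddCommGrpCat.{u}).map (E.ι.app i)).hom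
    have h1 := toSheafify_naturality J (E.ι.app i)
    have h2 := (sheafificationAdjunction J AddCommGrpCat.{u}).right_triangle_components (F.obj i)
    refine h1.trans ?_
    refine congrArg (· ≫ sheafifyMap J (E.ι.app i)) ?_
    have h3 : ((asIso (sheafificationAdjunction J AddCommGrpCat.{u}).counit).inv.app (F.obj i)).hom ≫
        ((sheafificationAdjunction J AddCommGrpCat.{u}).counit.app (F.obj i)).hom = 𝟙 _ :=
      congrArg (fun φ => φ.hom) ((asIso (sheafificationAdjunction J AddCommGrpCat.{u}).counit).inv_hom_id_app (F.obj i))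
    have : IsIso (((sheafificationAdjunction J AddCommGrpCat.{u}).counit.app (F.obj i)).hom) :=
      inferInstanceAs (IsIso ((sheafToPresheaf J AddCommGrpCat.{u}).map
        ((sheafificationAdjunction J AddCommGrpCat.{u}).counit.app (F.obj i))))
    exact (cancel_mono ((sheafificationAdjunction J AddCommGrpCat.{u}).counit.app (F.obj i)).hom).1
      (h2.trans h3.symm)
  have hcol : ∀ V : Opens X, IsColimit
      (((evaluation (Opens X)ᵒᵖ AddCommGrpCat.{u}).obj (op V)).mapCocone E) :=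
    fun V => isColimitOfPreserves _ (colimit.isColimit _)
  refine ⟨fun U y x hx => ?_, fun U i t ht x hx => ?_⟩
  · obtain ⟨V, hV, ⟨z, hz⟩, hxV⟩ := hsurj.imageSieve_mem y x hx
    obtain ⟨i, t, ht⟩ := Concrete.isColimit_exists_rep _ (hcol V) z
    refine ⟨V, leOfHom hV, hxV, i, t, ?_⟩
    refine Eq.trans ?_ hz
    refine (ConcreteCategory.congr_hom (NatTrans.congr_app (hι i) (op V)).symm t).trans ?_
    exact congrArg (fun w => m.app (op V) w) ht
  · have h0 : m.app (op U) ((E.ι.app i).app (op U) t) = m.app (op U) 0 := by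
      rw [map_zero]
      exact (ConcreteCategory.congr_hom (NatTrans.congr_app (hι i) (op U)) t).trans ht
    obtain ⟨V, hV, hVz, hxV⟩ := Presheaf.equalizerSieve_mem J m _ _ h0 x hx
    have hz : (E.ι.app i).app (op V) ((F.obj i).obj.map hV.op t) = 0 := by
      refine (ConcreteCategory.congr_hom ((E.ι.app i).naturality hV.op) t).trans ?_
      exact hVz.trans (map_zero _)
    obtain ⟨j, f, g, hfg⟩ := (Concrete.isColimit_rep_eq_iff_exists _ (hcol V)
      ((F.obj i).obj.map hV.op t) (0 : (F.obj i).obj.obj (op V))).1 (hz.trans (map_zero _).symm)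
    refine ⟨V, leOfHom hV, hxV, j, f, ?_⟩
    refine (ctr_rs f (leOfHom hV) t).symm.trans ?_
    exact hfg.trans (map_zero _)

/-- Finitely many sections over compact opens vanishing in the colimit vanish at one stage. -/
lemma colim_kill_finite (hc : IsColimit c) {α : Type u} [Finite α] (V : α → Opens X)
    (hV : ∀ a, IsCompact (V a : Set X)) (k : I) (x : ∀ a, (F.obj k).obj.obj (op (V a)))
    (hx : ∀ a, cι c k (V a) (x a) = 0) :
    ∃ (k' : I) (g : k ⟶ k'), ∀ a, ctr F g (V a) (x a) = 0 := by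
  classical
  have key : ∀ (U : Opens X), IsCompact (U : Set X) → ∀ (i : I) (t : (F.obj i).obj.obj (op U)),
      cι c i U t = 0 → ∃ (j : I) (f : i ⟶ j), ctr F f U t = 0 := by
    intro U hU i t ht
    choose W hW hxW j f hj using fun z : U => (colim_local hc).2 U i t ht z.1 z.2
    obtain ⟨s, hs⟩ := hU.elim_finite_subcover (fun z : U => (W z : Set X)) (fun z => (W z).2)
      (fun z hz => Set.mem_iUnion.2 ⟨⟨z, hz⟩, hxW ⟨z, hz⟩⟩)
    have hind : ∀ T : Finset U, ∃ (k : I) (g : i ⟶ k), ∀ z ∈ T, rs (F.obj k).obj (hW z) (ctr F g U t) = 0 := by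
      intro T
      induction T using Finset.induction with
      | empty => exact ⟨i, 𝟙 i, by simp⟩
      | insert z T _ ih =>
        obtain ⟨k, g, hg⟩ := ih
        obtain ⟨l, a, b, hab⟩ := IsFiltered.span (f z) g
        refine ⟨l, g ≫ b, fun w hw => ?_⟩
        rcases Finset.mem_insert.1 hw with rfl | hw
        · rw [← hab, ctr_comp, ← ctr_rs, hj, map_zero]
        · rw [ctr_comp, ← ctr_rs, hg w hw, map_zero]
    obtain ⟨k, g, hg⟩ := hind s
    refine ⟨k, g, ?_⟩
    refine eq_of_forall_rs_eq (F.obj k) (fun z : {z // z ∈ s} => hW z.1) (fun z hz => ?_)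
      (fun z => (hg z.1 z.2).trans (map_zero _).symm)
    obtain ⟨w, hw, hzw⟩ := Set.mem_iUnion₂.1 (hs hz)
    exact Opens.mem_iSup.2 ⟨⟨w, hw⟩, hzw⟩
  have : Fintype α := Fintype.ofFinite α
  have hind : ∀ T : Finset α, ∃ (k' : I) (g : k ⟶ k'), ∀ a ∈ T, ctr F g (V a) (x a) = 0 := by
    intro T
    induction T using Finset.induction with
    | empty => exact ⟨k, 𝟙 k, by simp⟩
    | insert a T _ ih =>
      obtain ⟨k', g, hg⟩ := ih
      obtain ⟨l, f, hf⟩ := key (V a) (hV a) k' (ctr F g (V a) (x a)) ((cι_ctr c g _ _).trans (hx a))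
      refine ⟨l, g ≫ f, fun b hb => ?_⟩
      rcases Finset.mem_insert.1 hb with rfl | hb
      · rw [ctr_comp, hf]
      · rw [ctr_comp, hg b hb, map_zero]
  obtain ⟨k', g, hg⟩ := hind Finset.univ
  exact ⟨k', g, fun a => hg a (Finset.mem_univ a)⟩

/-- Finitely many stages are dominated by one stage. -/
lemma exists_stage {α : Type u} [Finite α] (i : α → I) : ∃ k, ∀ a, Nonempty (i a ⟶ k) := by
  classical
  have : Fintype α := Fintype.ofFinite α
  obtain ⟨k, hk⟩ := IsFiltered.sup_objs_exists (Finset.univ.image i)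
  exact ⟨k, fun a => hk (Finset.mem_image.2 ⟨a, Finset.mem_univ a, rfl⟩)⟩

variable [PrespectralSpace X]

/-- A section of the colimit over a compact open comes from a stage. -/
lemma colim_sec_surjective [QuasiSeparatedSpace X] (hc : IsColimit c) {U : Opens X}
    (hU : IsCompact (U : Set X)) (y : c.pt.obj.obj (op U)) : ∃ i t, cι c i U t = y := by
  classical
  have hloc : ∀ z : U, ∃ (V : Opens X) (hV : V ≤ U), z.1 ∈ V ∧ IsCompact (V : Set X) ∧
      ∃ i t, cι c i V t = rs c.pt.obj hV y := fun z => by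
    obtain ⟨V, hV, hzV, i, t, ht⟩ := (colim_local hc).1 U y z.1 z.2
    obtain ⟨W, hW, hzW, hWV⟩ := Opens.isBasis_iff_nbhd.1 (PrespectralSpace.isBasis_opens X) hzV
    exact ⟨W, hWV.trans hV, hzW, hW, i, rs (F.obj i).obj hWV t, by rw [cι_rs, ht, rs_rs]⟩
  choose V hV hzV hcpt i t ht using hloc
  obtain ⟨s, hs⟩ := hU.elim_finite_subcover (fun z : U => (V z : Set X)) (fun z => (V z).2)
    (fun z hz => Set.mem_iUnion.2 ⟨⟨z, hz⟩, hzV ⟨z, hz⟩⟩)
  obtain ⟨k, hk⟩ := exists_stage (fun a : {z // z ∈ s} => i a.1)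
  let T : ∀ a : {z // z ∈ s}, (F.obj k).obj.obj (op (V a.1)) := fun a => ctr F (hk a).some _ (t a.1)
  have hT : ∀ a, cι c k _ (T a) = rs c.pt.obj (hV a.1) y := fun a => by rw [cι_ctr, ht]
  obtain ⟨k', g, hg⟩ := colim_kill_finite hc (fun p : {z // z ∈ s} × {z // z ∈ s} => V p.1.1 ⊓ V p.2.1)
    (fun p => QuasiSeparatedSpace.inter_isCompact _ _ (V p.1.1).2 (hcpt _) (V p.2.1).2 (hcpt _)) k
    (fun p => rs (F.obj k).obj inf_le_left (T p.1) - rs (F.obj k).obj inf_le_right (T p.2))
    (fun p => by rw [map_sub, cι_rs, cι_rs, hT, hT, rs_rs, rs_rs, sub_self])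
  obtain ⟨T', hT'⟩ := exists_glue (F.obj k') (V := fun a : {z // z ∈ s} => V a.1) (fun a => hV a.1)
    (fun z hz => by
      obtain ⟨w, hw, hzw⟩ := Set.mem_iUnion₂.1 (hs hz)
      exact Opens.mem_iSup.2 ⟨⟨w, hw⟩, hzw⟩)
    (fun a => ctr F g _ (T a)) (fun a b => by
      refine sub_eq_zero.1 ((congrArg₂ (· - ·) (ctr_rs g _ _).symm (ctr_rs g _ _).symm).trans ?_)
      exact (map_sub _ _ _).symm.trans (hg (a, b)))
  refine ⟨k', T', eq_of_forall_rs_eq c.pt (fun a : {z // z ∈ s} => hV a.1) (fun z hz => ?_) fun a => ?_⟩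
  · obtain ⟨w, hw, hzw⟩ := Set.mem_iUnion₂.1 (hs hz)
    exact Opens.mem_iSup.2 ⟨⟨w, hw⟩, hzw⟩
  · rw [← cι_rs, hT', cι_ctr, hT]

end Groth.Agent.TopCoh49
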