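import Groth.Agent.TopCoh49.Compare
import Mathlib.CategoryTheory.Limits.Types.Limits

/-!
# Limits of towers of flasque sheaves
-/

set_option autoImplicit false
set_option linter.style.haveILetI false
universe u

open CategoryTheory Limits TopologicalSpace Opposite

namespace Groth.Agent.TopCoh49

variable {X : TopCat.{u}}

/-- Sections over an open, as sets. -/
noncomputable abbrev secSet (U : Opens X) : CohTop.Ab X ⥤ Type u :=
  (sheafToPresheaf _ _ ⋙ (evaluation _ _).obj (op U)) ⋙ forget AddCommGrpCat.{u}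

theorem exists_limit_section (M : ℕᵒᵖ ⥤ CohTop.Ab X) (U : Opens X) (s : ∀ n, (M.obj (op n)).obj.obj (op U))
    (hs : ∀ n, (M.map (homOfLE (Nat.le_succ n)).op).hom.app (op U) (s (n + 1)) = s n) :
    ∃ t : (limit M : CohTop.Ab X).obj.obj (op U), ∀ n, (limit.π M (op n)).hom.app (op U) t = s n := by
  let G := M ⋙ secSet U
  have key : ∀ {m n : ℕ} (h : n ≤ m), (M.map (homOfLE h).op).hom.app (op U) (s m) = s n := by
    intro m n h
    induction h with
    | refl =>
      rw [show (homOfLE (le_refl n)).op = 𝟙 (op n) from rfl, M.map_id]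
      rfl
    | @step m h ih =>
      rw [show (homOfLE (Nat.le.step h)).op = (homOfLE (Nat.le_succ m)).op ≫ (homOfLE h).op from
        Subsingleton.elim _ _, M.map_comp]
      exact (congrArg ((M.map (homOfLE h).op).hom.app (op U)) (hs m)).trans ih
  let hl := isLimitOfPreserves (secSet U) (limit.isLimit M)
  let sec : G.sections := ⟨fun j => s j.unop, fun {j k} f => by
    obtain ⟨j⟩ := j
    obtain ⟨k⟩ := k
    rw [show f = (homOfLE f.unop.le).op from Subsingleton.elim _ _]
    exact key _⟩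
  refine ⟨(Types.isLimitEquivSections hl).symm sec, fun n => ?_⟩
  exact Types.isLimitEquivSections_symm_apply hl sec (op n)

theorem eq_of_limit_π (M : ℕᵒᵖ ⥤ CohTop.Ab X) (U : Opens X) (a b : (limit M : CohTop.Ab X).obj.obj (op U))
    (h : ∀ n, (limit.π M (op n)).hom.app (op U) a = (limit.π M (op n)).hom.app (op U) b) : a = b := by
  let hl := isLimitOfPreserves (secSet U) (limit.isLimit M)
  refine (Types.isLimitEquivSections hl).injective (Subtype.ext (funext fun j => ?_))
  obtain ⟨j⟩ := j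
  exact h j

/-- The kernel sequence of a transition map. -/
noncomputable abbrev kerSES {F G : CohTop.Ab X} (p : F ⟶ G) : ShortComplex (CohTop.Ab X) :=
  ShortComplex.mk (kernel.ι p) p (kernel.condition p)

theorem kerSES_shortExact {F G : CohTop.Ab X} (p : F ⟶ G) [Epi p] : (kerSES p).ShortExact where
  exact := ShortComplex.exact_of_f_is_kernel _ (kernelIsKernel p)

theorem surjective_app_of_kernel_flasque {F G : CohTop.Ab X} (p : F ⟶ G) [Epi p]
    (h : TopCat.Sheaf.IsFlasque (kernel p : CohTop.Ab X)) (U : Opens X) :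
    Function.Surjective (p.hom.app (op U)) := by
  haveI : TopCat.Sheaf.IsFlasque (kerSES p).X₁ := h
  exact (AddCommGrpCat.epi_iff_surjective _).1
    (TopCat.Sheaf.IsFlasque.epi_of_shortExact (U := U) (kerSES_shortExact p))

theorem isFlasque_limit_tower (M : ℕᵒᵖ ⥤ CohTop.Ab X) (h0 : ∀ n : ℕ, TopCat.Sheaf.IsFlasque (M.obj (op n)))
    (he : ∀ n : ℕ, Epi (M.map (homOfLE (Nat.le_succ n)).op))
    (hk : ∀ n : ℕ, TopCat.Sheaf.IsFlasque (kernel (M.map (homOfLE (Nat.le_succ n)).op) : CohTop.Ab X)) :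
    TopCat.Sheaf.IsFlasque (limit M : CohTop.Ab X) where
  epi {U V} i := by
    obtain ⟨U⟩ := U
    obtain ⟨V⟩ := V
    rw [AddCommGrpCat.epi_iff_surjective]
    intro s
    let sn := fun n => (limit.π M (op n)).hom.app (op V) s
    let p := fun n => M.map (homOfLE (Nat.le_succ n)).op
    have hsn : ∀ n, (p n).hom.app (op V) (sn (n + 1)) = sn n := fun n =>
      ConcreteCategory.congr_hom (congrArg (fun φ => NatTrans.app φ.hom (op V))
        (limit.w M (homOfLE (Nat.le_succ n)).op)) s
    have step : ∀ (n : ℕ) (a : { a : (M.obj (op n)).obj.obj (op U) // (M.obj (op n)).obj.map i a = sn n }),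
        ∃ b : { b : (M.obj (op (n + 1))).obj.obj (op U) // (M.obj (op (n + 1))).obj.map i b = sn (n + 1) },
          (p n).hom.app (op U) b.1 = a.1 := by
      rintro n ⟨a, ha⟩
      haveI := he n
      obtain ⟨b, hb⟩ := surjective_app_of_kernel_flasque (p n) (hk n) U a
      have hd : (p n).hom.app (op V) ((M.obj (op (n + 1))).obj.map i b - sn (n + 1)) = 0 := by
        rw [map_sub, hsn, sub_eq_zero]
        exact (ConcreteCategory.congr_hom ((p n).hom.naturality i) b).trans
          ((congrArg _ hb).trans ha)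
      obtain ⟨k, hkk⟩ := TopCat.Sheaf.sections_exact_of_left_exact (kerSES_shortExact (p n)).1
        (kerSES_shortExact (p n)).2 _ hd
      obtain ⟨k', rfl⟩ := (AddCommGrpCat.epi_iff_surjective _).1 ((hk n).epi i) k
      refine ⟨⟨b - (kernel.ι (p n)).hom.app (op U) k', ?_⟩, ?_⟩
      · rw [map_sub]
        have hnat := ConcreteCategory.congr_hom ((kernel.ι (p n)).hom.naturality i) k'
        exact sub_eq_of_eq_add (sub_eq_iff_eq_add'.1 (hkk.symm.trans hnat))
      · have hzero := ConcreteCategory.congr_hom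
          (congrArg (fun φ => NatTrans.app φ.hom (op U)) (kernel.condition (p n))) k'
        rw [map_sub, hb, sub_eq_self]
        exact hzero
    obtain ⟨a₀, ha₀⟩ := (AddCommGrpCat.epi_iff_surjective _).1 ((h0 0).epi i) (sn 0)
    choose nx hnx using step
    let t : ∀ n, { a : (M.obj (op n)).obj.obj (op U) // (M.obj (op n)).obj.map i a = sn n } :=
      fun n => Nat.rec ⟨a₀, ha₀⟩ (fun n a => nx n a) n
    obtain ⟨T, hT⟩ := exists_limit_section M U (fun n => (t n).1) (fun n => hnx n (t n))
    refine ⟨T, eq_of_limit_π M V _ _ fun n => ?_⟩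
    refine (ConcreteCategory.congr_hom ((limit.π M (op n)).hom.naturality i) T).trans ?_
    exact (congrArg _ (hT n)).trans (t n).2

theorem epi_limMap_tower (S : ShortComplex (ℕᵒᵖ ⥤ CohTop.Ab X)) (hS : S.ShortExact)
    (h1 : ∀ n : ℕ, TopCat.Sheaf.IsFlasque (S.X₁.obj (op n)))
    (he : ∀ n : ℕ, Epi (S.X₁.map (homOfLE (Nat.le_succ n)).op))
    (hk : ∀ n : ℕ, TopCat.Sheaf.IsFlasque (kernel (S.X₁.map (homOfLE (Nat.le_succ n)).op) : CohTop.Ab X)) :
    Epi (limMap S.g) := by
  refine epi_of_locally_surjective _ fun U s x hx => ⟨U, le_rfl, hx, ?_⟩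
  let Sn : ℕ → ShortComplex (CohTop.Ab X) := fun n => S.map ((evaluation ℕᵒᵖ (CohTop.Ab X)).obj (op n))
  have hSn : ∀ n, (Sn n).ShortExact := fun n => hS.map_of_exact _
  have hg : ∀ n, Function.Surjective ((S.g.app (op n)).hom.app (op U)) := fun n => by
    haveI : TopCat.Sheaf.IsFlasque (Sn n).X₁ := h1 n
    exact (AddCommGrpCat.epi_iff_surjective _).1 (TopCat.Sheaf.IsFlasque.epi_of_shortExact (U := U) (hSn n))
  let sn := fun n => (limit.π S.X₃ (op n)).hom.app (op U) s
  have step : ∀ (n : ℕ) (a : { a : (S.X₂.obj (op n)).obj.obj (op U) // (S.g.app (op n)).hom.app (op U) a = sn n }),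
      ∃ b : { b : (S.X₂.obj (op (n + 1))).obj.obj (op U) //
          (S.g.app (op (n + 1))).hom.app (op U) b = sn (n + 1) },
        (S.X₂.map (homOfLE (Nat.le_succ n)).op).hom.app (op U) b.1 = a.1 := by
    rintro n ⟨a, ha⟩
    obtain ⟨b, hb⟩ := hg (n + 1) (sn (n + 1))
    let p := (homOfLE (Nat.le_succ n)).op
    have hd : (S.g.app (op n)).hom.app (op U) ((S.X₂.map p).hom.app (op U) b - a) = 0 := by
      rw [map_sub, ha, sub_eq_zero]
      refine (ConcreteCategory.congr_hom (congrArg (fun φ => NatTrans.app φ.hom (op U)) (S.g.naturality p)) b).trans ?_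
      exact (congrArg ((S.X₃.map p).hom.app (op U)) hb).trans
        (ConcreteCategory.congr_hom (congrArg (fun φ => NatTrans.app φ.hom (op U)) (limit.w S.X₃ p)) s)
    obtain ⟨c, hc⟩ := TopCat.Sheaf.sections_exact_of_left_exact (hSn n).1 (hSn n).2 _ hd
    haveI := he n
    obtain ⟨c', rfl⟩ := surjective_app_of_kernel_flasque (S.X₁.map p) (hk n) U c
    refine ⟨⟨b - (S.f.app (op (n + 1))).hom.app (op U) c', ?_⟩, ?_⟩
    · have hz := ConcreteCategory.congr_hom (congrArg (fun φ => NatTrans.app φ.hom (op U))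
        (congrArg (fun φ => NatTrans.app φ (op (n + 1))) S.zero)) c'
      rw [map_sub, hb, sub_eq_self]
      exact hz
    · rw [map_sub]
      have hnat := ConcreteCategory.congr_hom (congrArg (fun φ => NatTrans.app φ.hom (op U)) (S.f.naturality p)) c'
      exact sub_eq_of_eq_add (sub_eq_iff_eq_add'.1 ((hnat.symm.trans hc).symm))
  obtain ⟨a₀, ha₀⟩ := hg 0 (sn 0)
  choose nx hnx using step
  let t : ∀ n, { a : (S.X₂.obj (op n)).obj.obj (op U) // (S.g.app (op n)).hom.app (op U) a = sn n } :=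
    fun n => Nat.rec ⟨a₀, ha₀⟩ (fun n a => nx n a) n
  obtain ⟨T, hT⟩ := exists_limit_section S.X₂ U (fun n => (t n).1) (fun n => hnx n (t n))
  refine ⟨T, Eq.trans ?_ (ConcreteCategory.congr_hom ((limit S.X₃ : CohTop.Ab X).obj.map_id (op U)) s).symm⟩
  refine eq_of_limit_π S.X₃ U _ _ fun n => ?_
  refine (ConcreteCategory.congr_hom (congrArg (fun φ => NatTrans.app φ.hom (op U))
    (limMap_π S.g (op n))) T).trans ?_
  exact (congrArg ((S.g.app (op n)).hom.app (op U)) (hT n)).trans (t n).2

end Groth.Agent.TopCoh49
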