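import Mathlib

/-!
# A functor commutes with homology of complexes with acyclic terms and acyclic homology
-/

set_option autoImplicit false
universe v v' u u'

open CategoryTheory Limits

namespace Groth.Agent.TopCoh49

variable {C : Type u} [Category.{v} C] [Abelian C] {D : Type u'} [Category.{v'} D] [Abelian D]

/-- A class of objects on which a left exact functor is exact. -/
structure AcClass (G : C ⥤ D) [G.Additive] where
  /-- The objects of the class. -/
  Ac : C → Prop
  exact : ∀ S : ShortComplex C, S.ShortExact → Ac S.X₁ → (S.map G).ShortExact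
  ac₂ : ∀ S : ShortComplex C, S.ShortExact → Ac S.X₁ → Ac S.X₃ → Ac S.X₂
  ac₃ : ∀ S : ShortComplex C, S.ShortExact → Ac S.X₁ → Ac S.X₂ → Ac S.X₃
  zero : ∀ Z : C, IsZero Z → Ac Z

variable {G : C ⥤ D} [G.Additive] [PreservesFiniteLimits G] (P : AcClass G) (K : CochainComplex C ℕ)

/-- Boundaries. -/
noncomputable abbrev bdry (q : ℕ) : C := kernel (K.homologyπ q)

/-- Cycles modulo boundaries. -/
noncomputable abbrev bdrySES (q : ℕ) : ShortComplex C :=
  ShortComplex.mk (kernel.ι (K.homologyπ q)) (K.homologyπ q) (kernel.condition _)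

theorem bdrySES_shortExact (q : ℕ) : (bdrySES K q).ShortExact where
  exact := ShortComplex.exact_of_f_is_kernel _ (kernelIsKernel _)

/-- The differential onto the boundaries. -/
noncomputable abbrev toBdry (i q : ℕ) : K.X i ⟶ bdry K q :=
  kernel.lift (K.homologyπ q) (K.toCycles i q) (K.toCycles_comp_homologyπ i q)

theorem toBdry_d (i q : ℕ) : toBdry K i q ≫ kernel.ι _ ≫ K.iCycles q = K.d i q := by
  rw [kernel.lift_ι_assoc, HomologicalComplex.toCycles_i]

theorem epi_toBdry (i q : ℕ) (h : (ComplexShape.up ℕ).prev q = i) : Epi (toBdry K i q) :=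
  (ShortComplex.exact_iff_epi_kernel_lift
    (ShortComplex.mk _ _ (K.toCycles_comp_homologyπ i q))).1
    (ShortComplex.exact_of_g_is_cokernel _ (K.homologyIsCokernel i q h))

/-- Terms modulo cycles. -/
noncomputable abbrev cycSES (q : ℕ) : ShortComplex C :=
  ShortComplex.mk (K.iCycles q) (toBdry K q (q + 1)) (by
    rw [← cancel_mono (kernel.ι (K.homologyπ (q + 1)) ≫ K.iCycles (q + 1)), Category.assoc, toBdry_d,
      HomologicalComplex.iCycles_d, zero_comp])

theorem cycSES_shortExact (q : ℕ) : (cycSES K q).ShortExact where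
  exact := ShortComplex.exact_of_f_is_kernel _ (by
    refine KernelFork.IsLimit.ofι' _ _ fun {W} g hg => ⟨K.liftCycles g (q + 1) (by simp) ?_, ?_⟩
    · rw [← toBdry_d K q (q + 1), ← Category.assoc g, hg, zero_comp]
    · exact HomologicalComplex.liftCycles_i _ _ _ _ _)
  mono_f := inferInstanceAs (Mono (K.iCycles q))
  epi_g := epi_toBdry K q (q + 1) (by simp)

variable (hX : ∀ n, P.Ac (K.X n)) (hH : ∀ n, P.Ac (K.homology n))

include hX hH in
theorem ac_step : ∀ q : ℕ, P.Ac (bdry K q) ∧ P.Ac (K.cycles q) ∧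
    Epi (G.map (toBdry K ((ComplexShape.up ℕ).prev q) q))
  | 0 => by
    have hd : K.d ((ComplexShape.up ℕ).prev 0) 0 = 0 := K.shape _ _ (by simp)
    haveI := K.isIso_homologyπ ((ComplexShape.up ℕ).prev 0) 0 rfl hd
    have hz : IsZero (bdry K 0) := isZero_kernel_of_mono _
    exact ⟨P.zero _ hz, P.ac₂ _ (bdrySES_shortExact K 0) (P.zero _ hz) (hH 0),
      ⟨fun _ _ _ => (G.map_isZero hz).eq_of_src _ _⟩⟩
  | q + 1 => by
    obtain ⟨-, hZ, -⟩ := ac_step q
    have hB : P.Ac (bdry K (q + 1)) := P.ac₃ _ (cycSES_shortExact K q) hZ (hX q)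
    refine ⟨hB, P.ac₂ _ (bdrySES_shortExact K (q + 1)) hB (hH (q + 1)), ?_⟩
    rw [CochainComplex.prev_nat_succ]
    exact (P.exact _ (cycSES_shortExact K q) hZ).epi_g

include hX hH in
/-- `G` commutes with homology. -/
theorem nonempty_obj_homology_iso (q : ℕ) :
    Nonempty (G.obj (K.homology q) ≅ ((G.mapHomologicalComplex _).obj K).homology q) := by
  obtain ⟨hB, -, hepi⟩ := ac_step P K hX hH q
  let i := (ComplexShape.up ℕ).prev q
  let h : (K.sc q).LeftHomologyData :=
    { K := K.cycles q, H := K.homology q, i := K.iCycles q, π := K.homologyπ q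
      wi := (K.sc q).iCycles_g
      hi := (K.sc q).cyclesIsKernel
      wπ := (K.sc q).toCycles_comp_homologyπ
      hπ := (K.sc q).homologyIsCokernel }
  have hf' : h.f' = K.toCycles i q :=
    (cancel_mono (K.iCycles q)).1 (h.f'_i.trans (K.toCycles_i i q).symm)
  have hex : (ShortComplex.mk h.f' h.π h.f'_π |>.map G).Exact := by
    haveI : Epi (G.map (toBdry K i q)) := hepi
    let φ : (ShortComplex.mk h.f' h.π h.f'_π).map G ⟶ (bdrySES K q).map G :=
      { τ₁ := G.map (toBdry K i q)
        τ₂ := 𝟙 _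
        τ₃ := 𝟙 _
        comm₁₂ := by
          show G.map _ ≫ G.map _ = G.map _ ≫ 𝟙 _
          rw [Category.comp_id, ← G.map_comp]
          exact congrArg G.map ((kernel.lift_ι _ _ _).trans hf'.symm)
        comm₂₃ := (Category.id_comp _).trans (Category.comp_id _).symm }
    haveI : Epi φ.τ₁ := hepi
    haveI : IsIso φ.τ₂ := inferInstanceAs (IsIso (𝟙 _))
    haveI : Mono φ.τ₃ := inferInstanceAs (Mono (𝟙 _))
    exact (ShortComplex.exact_iff_of_epi_of_isIso_of_mono φ).2 (P.exact _ (bdrySES_shortExact K q) hB).exact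
  haveI : Epi ((ShortComplex.mk h.f' h.π h.f'_π).map G).g := (P.exact _ (bdrySES_shortExact K q) hB).epi_g
  haveI : h.IsPreservedBy G :=
    { g := inferInstance
      f' := preservesColimit_of_preserves_colimit_cocone h.hπ
        ((CokernelCofork.isColimitMapCoconeEquiv (CokernelCofork.ofπ h.π h.f'_π) G).symm hex.gIsCokernel) }
  exact ⟨(h.map G).homologyIso.symm⟩

end Groth.Agent.TopCoh49
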