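import Groth.Prelude.Def_CohTop
import Mathlib.Algebra.Category.Grp.Abelian
import Mathlib.Algebra.Category.Grp.EpiMono
import Mathlib.Algebra.Homology.ShortComplex.Ab
import Mathlib.CategoryTheory.Limits.Shapes.ConcreteCategory

universe u

open CategoryTheory Limits TopologicalSpace Opposite

namespace Groth.Agent.TopCoh49

variable {X : TopCat.{u}} {ι : Type u} (P : (Opens X)ᵒᵖ ⥤ AddCommGrpCat.{u}) (U : ι → Opens X)

/-- The intersection of a tuple of members of a family. -/
abbrev inter {n : ℕ} (a : Fin (n + 1) → ι) : Opens X := ⨅ k, U (a k)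

lemma inter_le {n : ℕ} (a : Fin (n + 1) → ι) (k : Fin (n + 1)) : inter U a ≤ U (a k) :=
  iInf_le (fun k => U (a k)) k

lemma inter_comp_le {n m : ℕ} (a : Fin (m + 1) → ι) (f : Fin (n + 1) → Fin (m + 1)) :
    inter U a ≤ inter U (a ∘ f) := le_iInf fun k => iInf_le _ (f k)

/-- The Cech complex. -/
noncomputable abbrev cechCx : CochainComplex AddCommGrpCat.{u} ℕ := (cechComplexFunctor U).obj P

/-- Cech cochains in explicit form. -/
abbrev Coch (n : ℕ) : Type u := ∀ a : Fin (n + 1) → ι, P.obj (op (inter U a))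

lemma inter_eq_pi {n : ℕ} (a : Fin (n + 1) → ι) : inter U a = ∏ᶜ (U ∘ a) :=
  le_antisymm (leOfHom (Pi.lift fun k => homOfLE (inter_le U a k)))
    (le_iInf fun k => leOfHom (Pi.π (U ∘ a) k))

/-- Comparison of the Cech complex with explicit cochains. -/
noncomputable def cochEquiv (n : ℕ) : (cechCx P U).X n ≃+ Coch P U n :=
  (piObjAddEquiv fun a : Fin (n + 1) → ι => P.obj (op (∏ᶜ (U ∘ a)))).trans
    (AddEquiv.piCongrRight fun a => ((P.mapIso (eqToIso (inter_eq_pi U a)).op)).addCommGroupIsoToAddEquiv)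
where piObjAddEquiv {J : Type u} (G : J → AddCommGrpCat.{u}) : (∏ᶜ G : AddCommGrpCat.{u}) ≃+ ∀ j, G j :=
  { Concrete.productEquiv G with
    map_add' := fun x y => funext fun j => by
      rw [Pi.add_apply]
      change Concrete.productEquiv G (x + y) j = Concrete.productEquiv G x j + Concrete.productEquiv G y j
      simp only [Concrete.productEquiv_apply_apply, map_add] }

/-- A component of a Cech cochain. -/
noncomputable def cproj (n : ℕ) (a : Fin (n + 1) → ι) : (cechCx P U).X n ⟶ P.obj (op (inter U a)) :=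
  Pi.π (fun a : Fin (n + 1) → ι => P.obj (op (∏ᶜ (U ∘ a)))) a ≫ P.map (homOfLE (inter_eq_pi U a).le).op

lemma cochEquiv_apply (n : ℕ) (x : (cechCx P U).X n) (a : Fin (n + 1) → ι) :
    cochEquiv P U n x a = cproj P U n a x := by
  change P.map (eqToIso (inter_eq_pi U a)).op.hom
    (Concrete.productEquiv (fun a : Fin (n + 1) → ι => P.obj (op (∏ᶜ (U ∘ a)))) x a) = _
  erw [Concrete.productEquiv_apply_apply]
  rfl

/-- The explicit Cech differential. -/
noncomputable def cochD (n : ℕ) : Coch P U n →+ Coch P U (n + 1) :=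
  AddMonoidHom.mk' (fun f a => ∑ j : Fin (n + 2), (-1 : ℤ) ^ (j : ℕ) •
      P.map (homOfLE (inter_comp_le U a j.succAbove)).op (f (a ∘ j.succAbove)))
    (fun f g => funext fun a => by simp [Finset.sum_add_distrib])

lemma cochD_apply (n : ℕ) (f : Coch P U n) (a : Fin (n + 2) → ι) :
    cochD P U n f a = ∑ j : Fin (n + 2), (-1 : ℤ) ^ (j : ℕ) •
      P.map (homOfLE (inter_comp_le U a j.succAbove)).op (f (a ∘ j.succAbove)) := rfl

lemma d_cproj (n : ℕ) (a : Fin (n + 2) → ι) :
    (cechCx P U).d n (n + 1) ≫ cproj P U (n + 1) a =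
      ∑ j : Fin (n + 2), (-1 : ℤ) ^ (j : ℕ) •
        (cproj P U n (a ∘ j.succAbove) ≫ P.map (homOfLE (inter_comp_le U a j.succAbove)).op) := by
  rw [show (cechCx P U).d n (n + 1) = AlgebraicTopology.AlternatingCofaceMapComplex.objD
      ((FormalCoproduct.cosimplicialObjectFunctor (FormalCoproduct.mk _ U).cech).obj P) n from
      CochainComplex.of_d (fun n => ((FormalCoproduct.cosimplicialObjectFunctor (FormalCoproduct.mk _ U).cech).obj P).obj (SimplexCategory.mk n)) _ n, AlgebraicTopology.AlternatingCofaceMapComplex.objD]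
  refine (Preadditive.sum_comp _ _ _).trans (Finset.sum_congr rfl fun j _ => ?_)
  refine (Preadditive.zsmul_comp _ _ _).trans (congrArg _ ?_)
  change Pi.lift _ ≫ Pi.π _ a ≫ _ = _
  erw [Pi.lift_π_assoc]
  rw [cproj]
  erw [Category.assoc, Category.assoc, ← P.map_comp, ← P.map_comp]
  rfl

lemma cochEquiv_d (n : ℕ) (x : (cechCx P U).X n) :
    cochEquiv P U (n + 1) ((cechCx P U).d n (n + 1) x) = cochD P U n (cochEquiv P U n x) := by
  funext a
  rw [cochEquiv_apply, cochD_apply, ← ConcreteCategory.comp_apply, d_cproj]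
  refine ((DFunLike.congr_fun (map_sum AddCommGrpCat.homAddEquiv _ _) x).trans
    (AddMonoidHom.finsetSum_apply _ _ x)).trans (Finset.sum_congr rfl fun j _ => ?_)
  rw [cochEquiv_apply]
  rfl

lemma isZero_cechH_succ_iff (p : ℕ) :
    IsZero (CohTop.cechH P U (p + 1)) ↔
      ∀ f : Coch P U (p + 1), cochD P U (p + 1) f = 0 → ∃ g, cochD P U p g = f := by
  rw [← HomologicalComplex.exactAt_iff_isZero_homology,
    HomologicalComplex.exactAt_iff' _ p (p + 1) (p + 2) (by simp) (by simp),
    ShortComplex.ab_exact_iff]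
  constructor
  · intro h f hf
    obtain ⟨x, rfl⟩ := (cochEquiv P U (p + 1)).surjective f
    obtain ⟨g, hg⟩ := h x ((cochEquiv P U (p + 2)).injective
      ((cochEquiv_d P U (p + 1) x).trans (hf.trans (map_zero _).symm)))
    exact ⟨cochEquiv P U p g, (cochEquiv_d P U p g).symm.trans (congrArg (cochEquiv P U (p + 1)) hg)⟩
  · intro h x hx
    obtain ⟨g, hg⟩ := h (cochEquiv P U (p + 1) x) ((cochEquiv_d P U (p + 1) x).symm.trans
      ((congrArg (cochEquiv P U (p + 2)) hx).trans (map_zero _)))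
    obtain ⟨y, rfl⟩ := (cochEquiv P U p).surjective g
    exact ⟨y, (cochEquiv P U (p + 1)).injective ((cochEquiv_d P U p y).trans hg)⟩

end Groth.Agent.TopCoh49
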