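import Groth.Agent.TopCoh49.ZSub
import Mathlib.CategoryTheory.Sites.LocallySurjective
import Mathlib.Topology.QuasiSeparated
import Mathlib.Topology.Spectral.Prespectral

/-!
Free sheaves on opens as subsheaves of locally constant integer functions, and vanishing of cohomology
for sheaves generated by constant sections.
-/

universe u

open CategoryTheory Limits TopologicalSpace Opposite Abelian

namespace Groth.Agent.TopCoh49

variable {X : TopCat.{u}}

open scoped Classical in
/-- The condition of the subsheaf generated by the constant `n` on `W`. -/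
noncomputable def ind (W : Opens X) (n : ℤ) (x : X) : AddSubgroup ℤ :=
  if x ∈ W then AddSubgroup.zmultiples n else ⊥

lemma ind_of_mem {W : Opens X} {n : ℤ} {x : X} (h : x ∈ W) : ind W n x = AddSubgroup.zmultiples n := by
  classical exact if_pos h

lemma ind_of_not_mem {W : Opens X} {n : ℤ} {x : X} (h : x ∉ W) : ind W n x = ⊥ := by
  classical exact if_neg h

lemma openI_ind (W : Opens X) (n : ℤ) : OpenI (ind W n) := fun m => by
  rcases eq_or_ne m 0 with rfl | hm
  · simp [zero_mem]
  · by_cases h : m ∈ AddSubgroup.zmultiples n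
    · convert W.isOpen using 1
      ext x
      by_cases hx : x ∈ W
      · simp [ind_of_mem hx, h, hx]
      · simp [ind_of_not_mem hx, hm, hx]
    · convert isOpen_empty using 1
      ext x
      by_cases hx : x ∈ W
      · simp [ind_of_mem hx, h]
      · simp [ind_of_not_mem hx, hm]

/-- The condition of the subsheaf generated by a list of constants. -/
noncomputable def gens : List (Opens X × ℤ) → (X → AddSubgroup ℤ)
  | [] => ⊥
  | p :: L => ind p.1 p.2 ⊔ gens L

lemma openI_gens : ∀ L : List (Opens X × ℤ), OpenI (gens L)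
  | [] => fun m => by
    rcases eq_or_ne m 0 with rfl | hm
    · simp [gens]
    · convert isOpen_empty using 1
      ext x
      simp [gens, hm]
  | p :: L => (openI_ind _ _).sup (openI_gens L)

lemma zmultiples_inf (a b : ℤ) :
    AddSubgroup.zmultiples a ⊓ AddSubgroup.zmultiples b = AddSubgroup.zmultiples (lcm a b) := by
  ext x
  simp only [AddSubgroup.mem_inf, Int.mem_zmultiples_iff, lcm_dvd_iff]

lemma ind_inf_ind (W W' : Opens X) (n m : ℤ) : ind W n ⊓ ind W' m = ind (W ⊓ W') (lcm n m) := by
  funext x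
  by_cases h : x ∈ W
  · by_cases h' : x ∈ W'
    · rw [Pi.inf_apply, ind_of_mem h, ind_of_mem h', ind_of_mem (show x ∈ W ⊓ W' from ⟨h, h'⟩), zmultiples_inf]
    · rw [Pi.inf_apply, ind_of_not_mem h', ind_of_not_mem (fun hx : x ∈ W ⊓ W' => h' hx.2), inf_bot_eq]
  · rw [Pi.inf_apply, ind_of_not_mem h, ind_of_not_mem (fun hx : x ∈ W ⊓ W' => h hx.1), bot_inf_eq]

lemma ind_inf_sup (W W' : Opens X) (n m : ℤ) (J : X → AddSubgroup ℤ) :
    ind W n ⊓ (ind W' m ⊔ J) = (ind W n ⊓ ind W' m) ⊔ (ind W n ⊓ J) := by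
  refine le_antisymm (fun x => ?_) le_inf_sup
  simp only [Pi.inf_apply, Pi.sup_apply]
  by_cases h : x ∈ W
  · by_cases h' : x ∈ W'
    · rw [ind_of_mem h, ind_of_mem h']
      exact zmultiples_inf_sup _ _ _
    · simp [ind_of_not_mem h']
  · simp [ind_of_not_mem h]

lemma ind_inf_gens (W : Opens X) (n : ℤ) : ∀ L : List (Opens X × ℤ),
    ind W n ⊓ gens L = gens (L.map fun p => (W ⊓ p.1, lcm n p.2))
  | [] => by simp [gens]
  | p :: L => by
    rw [List.map_cons]
    simp only [gens]
    rw [ind_inf_sup, ind_inf_gens W n L, ind_inf_ind]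

/-- The constant section. -/
noncomputable def constN (W : Opens X) (n : ℤ) : secI (ind W n) W :=
  ⟨fun _ => n, IsLocallyConstant.const _, fun x => by
    rw [ind_of_mem x.2]
    exact AddSubgroup.mem_zmultiples n⟩

/-- The map from the free sheaf. -/
noncomputable def freeToSub (W : Opens X) (n : ℤ) : freeU W ⟶ subSheaf (ind W n) :=
  (freeHomEquiv W _).symm (constN W n)

lemma freeHomEquiv_eq_app {U : Opens X} {F : CohTop.Ab X} (φ : freeU U ⟶ F) :
    freeHomEquiv U F φ = φ.hom.app (op U) (gen U) := by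
  rw [gen, ← freeHomEquiv_comp, Category.id_comp]

lemma freeToSub_gen (W : Opens X) (n : ℤ) :
    (freeToSub W n).hom.app (op W) (gen W) = constN W n := by
  rw [← freeHomEquiv_eq_app]
  exact Equiv.apply_symm_apply _ _

lemma freeToSub_smul_res (W : Opens X) (n k : ℤ) {V : Opens X} (h : V ≤ W) (x : V) :
    ((freeToSub W n).hom.app (op V) (k • (freeU W).obj.map (homOfLE h).op (gen W)) : secI (ind W n) V).1 x =
      k * n := by
  have e : (freeToSub W n).hom.app (op V) ((freeU W).obj.map (homOfLE h).op (gen W)) =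
      (subPre (ind W n)).map (homOfLE h).op (constN W n) :=
    (ConcreteCategory.congr_hom ((freeToSub W n).hom.naturality (homOfLE h).op) (gen W)).trans
      (congrArg (fun z => (subPre (ind W n)).map (homOfLE h).op z) (freeToSub_gen W n))
  erw [map_zsmul, e]
  change (k • fun _ : V => n) x = k * n
  simp

lemma exists_eq_smul_gen (W V : Opens X) (a : (freeU W).obj.obj (op V)) (x : X) (hx : x ∈ V) :
    ∃ (V' : Opens X) (hV : V' ≤ V), x ∈ V' ∧ ((freeU W).obj.map (homOfLE hV).op a = 0 ∨
      ∃ (k : ℤ) (hW : V' ≤ W), (freeU W).obj.map (homOfLE hV).op a =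
        k • (freeU W).obj.map (homOfLE hW).op (gen W)) := by
  let J := Opens.grothendieckTopology X
  let P : (Opens X)ᵒᵖ ⥤ AddCommGrpCat.{u} := yoneda.obj W ⋙ AddCommGrpCat.free.{u}
  obtain ⟨V', i, ⟨e, he⟩, hxV'⟩ := Presheaf.imageSieve_mem J (toSheafify J P) a x hx
  refine ⟨V', leOfHom i, hxV', ?_⟩
  have he' : (toSheafify J P).app (op V') e = (freeU W).obj.map (homOfLE (leOfHom i)).op a :=
    he.trans rfl
  by_cases hW : V' ≤ W
  · refine Or.inr ?_
    have hgen : gen W = (toSheafify J P).app (op W) (FreeAbelianGroup.of (𝟙 W)) := rfl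
    have key : ∀ e : FreeAbelianGroup (V' ⟶ W), ∃ k : ℤ, e = k • FreeAbelianGroup.of (homOfLE hW) := by
      intro e
      induction e using FreeAbelianGroup.induction_on with
      | zero => exact ⟨0, by simp⟩
      | of a => exact ⟨1, by rw [one_smul, Subsingleton.elim a (homOfLE hW)]⟩
      | neg a h => exact ⟨-1, by rw [neg_smul, one_smul, Subsingleton.elim a (homOfLE hW)]⟩
      | add a b ha hb =>
        obtain ⟨k, rfl⟩ := ha
        obtain ⟨l, rfl⟩ := hb
        exact ⟨k + l, (add_smul _ _ _).symm⟩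
    obtain ⟨k, hk⟩ := key e
    refine ⟨k, hW, ?_⟩
    rw [← he', hgen]
    refine (congrArg _ (show (e : P.obj (op V')) = k • (P.map (homOfLE hW).op (FreeAbelianGroup.of (𝟙 W))) from
      hk.trans (congrArg _ ?_))).trans ((map_zsmul ((toSheafify J P).app (op V')).hom k _).trans
        (congrArg _ (ConcreteCategory.congr_hom ((toSheafify J P).naturality (homOfLE hW).op) _)))
    exact (FreeAbelianGroup.map_of_apply _).symm.trans rfl
  · refine Or.inl ?_
    rw [← he']
    have : IsEmpty (V' ⟶ W) := ⟨fun f => hW (leOfHom f)⟩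
    have hz : ∀ e' : FreeAbelianGroup (V' ⟶ W), e' = 0 := fun e' => by
      induction e' using FreeAbelianGroup.induction_on with
      | zero => rfl
      | of a => exact isEmptyElim a
      | neg a h => exact isEmptyElim a
      | add a b ha hb => rw [ha, hb, add_zero]
    have h0 := hz e
    exact (congrArg _ h0).trans (map_zero ((toSheafify J P).app (op V')).hom)

lemma isIso_freeToSub (W : Opens X) {n : ℤ} (hn : n ≠ 0) : IsIso (freeToSub W n) := by
  have hinj : ∀ (V : Opens X) (a : (freeU W).obj.obj (op V)),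
      (freeToSub W n).hom.app (op V) a = 0 → a = 0 := by
    intro V a ha
    choose V' hV hxV' hcase using fun x : V => exists_eq_smul_gen W V a x.1 x.2
    refine TopCat.Sheaf.eq_of_locally_eq' (freeU W) V' V (fun x => homOfLE (hV x))
      (fun x hx => Opens.mem_iSup.2 ⟨⟨x, hx⟩, hxV' _⟩) a 0 fun x => ?_
    rw [map_zero]
    rcases hcase x with h | ⟨k, hW, h⟩
    · exact h
    · have h1 : (freeToSub W n).hom.app (op (V' x)) ((freeU W).obj.map (homOfLE (hV x)).op a) = 0 :=
        (ConcreteCategory.congr_hom ((freeToSub W n).hom.naturality (homOfLE (hV x)).op) a).trans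
          ((congrArg (fun z => (subSheaf (ind W n)).obj.map (homOfLE (hV x)).op z) ha).trans (map_zero ((subSheaf (ind W n)).obj.map (homOfLE (hV x)).op).hom))
      rw [h] at h1
      have h2 := freeToSub_smul_res W n k hW ⟨x.1, hxV' x⟩
      rw [h1] at h2
      have : k = 0 := (mul_eq_zero.1 (h2.symm.trans rfl)).resolve_right hn
      refine h.trans ?_
      rw [this, zero_smul]
  have hm : Mono (freeToSub W n) := by
    have : ∀ V, Mono ((freeToSub W n).hom.app V) := fun V => (AddCommGrpCat.mono_iff_injective _).2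
      ((injective_iff_map_eq_zero _).2 (hinj V.unop))
    have : Mono (freeToSub W n).hom := NatTrans.mono_of_mono_app _
    exact (sheafToPresheaf _ _).mono_of_mono_map this
  have he : Epi (freeToSub W n) := by
    refine epi_of_locally_surjective _ fun V s x hx => ?_
    obtain ⟨O, hO, hxO, hOc⟩ := (IsLocallyConstant.iff_exists_open _).1 (s : secI (ind W n) V).2.1 ⟨x, hx⟩
    obtain ⟨O', hO', rfl⟩ := hO
    have hmem := (s : secI (ind W n) V).2.2 ⟨x, hx⟩
    by_cases hxW : x ∈ W
    · rw [ind_of_mem hxW] at hmem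
      obtain ⟨k, hk⟩ := hmem
      let V' : Opens X := ⟨(V : Set X) ∩ O' ∩ W, (V.isOpen.inter hO').inter W.isOpen⟩
      refine ⟨V', fun y hy => hy.1.1, ⟨⟨hx, hxO⟩, hxW⟩,
        k • (freeU W).obj.map (homOfLE (show V' ≤ W from fun y hy => hy.2)).op (gen W), ?_⟩
      refine Subtype.ext (funext fun y => ?_)
      refine (freeToSub_smul_res W n k _ y).trans ?_
      exact (show k * n = _ from hk).trans (hOc ⟨y.1, y.2.1.1⟩ y.2.1.2).symm
    · rw [ind_of_not_mem hxW, AddSubgroup.mem_bot] at hmem
      let V' : Opens X := ⟨(V : Set X) ∩ O', V.isOpen.inter hO'⟩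
      refine ⟨V', fun y hy => hy.1, ⟨hx, hxO⟩, 0, ?_⟩
      refine (map_zero _).trans (Subtype.ext (funext fun y => ?_))
      exact hmem.symm.trans (hOc ⟨y.1, y.2.1⟩ y.2.2).symm
  exact isIso_of_mono_of_epi _

section Vanishing

/-- Cohomology vanishes above degree `d`. -/
def VanishAbove (d : ℕ) (F : CohTop.Ab X) : Prop := ∀ p, d < p → Subsingleton (E F p ⊤)

variable {d : ℕ}

lemma VanishAbove.of_iso {F G : CohTop.Ab X} (e : F ≅ G) (h : VanishAbove d F) : VanishAbove d G :=
  fun p hp => by
    have := h p hp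
    refine ⟨fun a b => ?_⟩
    have hid : ∀ c : E G p ⊤, c = emap e.hom p ⊤ (emap e.inv p ⊤ c) := fun c => by
      rw [emap_emap, e.inv_hom_id]
      exact (Ext.comp_mk₀_id c).symm
    rw [hid a, hid b, Subsingleton.elim (emap e.inv p ⊤ a) (emap e.inv p ⊤ b)]

lemma VanishAbove.isZero {F : CohTop.Ab X} (h : IsZero F) : VanishAbove d F := fun p _ => by
  refine ⟨fun a b => ?_⟩
  have hid : ∀ c : E F p ⊤, c = 0 := fun c => by
    rw [← Ext.comp_mk₀_id c, h.eq_of_src (𝟙 F) 0, Ext.mk₀_zero, Ext.comp_zero]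
  rw [hid a, hid b]

end Vanishing

end Groth.Agent.TopCoh49
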