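import Groth.Agent.TopCoh49.ColimCoh
import Groth.Agent.TopCoh49.Compare
import Mathlib.RingTheory.Int.Basic
import Mathlib.Topology.LocallyConstant.Basic
import Mathlib.Tactic.LinearCombination

/-!
Subsheaves of the sheaf of locally constant integer functions cut out by pointwise subgroup conditions.
-/

universe u

open CategoryTheory Limits TopologicalSpace Opposite Abelian

namespace Groth.Agent.TopCoh49

lemma zmultiples_inf_sup (n b : ℤ) (H : AddSubgroup ℤ) :
    AddSubgroup.zmultiples n ⊓ (AddSubgroup.zmultiples b ⊔ H) ≤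
      (AddSubgroup.zmultiples n ⊓ AddSubgroup.zmultiples b) ⊔ (AddSubgroup.zmultiples n ⊓ H) := by
  intro x hx
  obtain ⟨⟨k, rfl⟩, hx⟩ := hx
  obtain ⟨y, ⟨s, rfl⟩, z, hz, hyz⟩ := AddSubgroup.mem_sup.1 hx
  simp only [smul_eq_mul] at hyz ⊢
  rcases eq_or_ne n 0 with rfl | hn
  · simp
  obtain ⟨n', hn'⟩ := (Int.gcd_dvd_left n b : ((Int.gcd n b : ℕ) : ℤ) ∣ n)
  obtain ⟨b', hb'⟩ := (Int.gcd_dvd_right n b : ((Int.gcd n b : ℕ) : ℤ) ∣ b)
  have hg := Int.gcd_eq_gcd_ab n b
  set g : ℤ := ((Int.gcd n b : ℕ) : ℤ)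
  have hg0 : g ≠ 0 := fun h => hn (by rw [hn', h, zero_mul])
  set u := Int.gcdA n b
  set v := Int.gcdB n b
  have h1 : u * n' + v * b' = 1 := by
    refine mul_left_cancel₀ hg0 ?_
    linear_combination (-1 : ℤ) * hg - u * hn' - v * hb'
  refine AddSubgroup.mem_sup.2 ⟨(v * k + u * s) * n' * b, ?_, u * n' * z, ?_, ?_⟩
  · exact ⟨⟨(v * k + u * s) * b', by simp only [smul_eq_mul]; rw [hn', hb']; ring⟩,
      ⟨(v * k + u * s) * n', rfl⟩⟩
  · refine ⟨⟨u * (k * n' - s * b'), ?_⟩, ?_⟩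
    · simp only [smul_eq_mul]
      linear_combination (-(u * n')) * hyz + (u * s * n') * hb' - (u * s * b') * hn'
    · have h : u * n' * z ∈ H := by simpa only [smul_eq_mul] using H.zsmul_mem hz (u * n')
      exact h
  · linear_combination (u * n') * hyz + (k * n) * h1 + (v * k * n') * hb' - (v * k * b') * hn'

variable {X : TopCat.{u}}

/-- The condition that each value is attained on an open set. -/
def OpenI (I : X → AddSubgroup ℤ) : Prop := ∀ n : ℤ, IsOpen {x | n ∈ I x}

lemma OpenI.inf {I J : X → AddSubgroup ℤ} (hI : OpenI I) (hJ : OpenI J) : OpenI (I ⊓ J) :=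
  fun n => (hI n).inter (hJ n)

lemma OpenI.sup {I J : X → AddSubgroup ℤ} (hI : OpenI I) (hJ : OpenI J) : OpenI (I ⊔ J) := fun n => by
  have : {x | n ∈ (I ⊔ J) x} = ⋃ a : ℤ, {x | a ∈ I x} ∩ {x | n - a ∈ J x} := by
    ext x
    simp only [Set.mem_setOf_eq, Set.mem_iUnion, Set.mem_inter_iff, Pi.sup_apply, AddSubgroup.mem_sup]
    constructor
    · rintro ⟨a, ha, b, hb, rfl⟩
      exact ⟨a, ha, by simpa using hb⟩
    · rintro ⟨a, ha, hb⟩
      exact ⟨a, ha, n - a, hb, by abel⟩
  rw [this]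
  exact isOpen_iUnion fun a => (hI a).inter (hJ (n - a))

/-- Sections: locally constant functions with values in the prescribed subgroups. -/
def secI (I : X → AddSubgroup ℤ) (V : Opens X) : AddSubgroup (↥V → ℤ) where
  carrier := {f | IsLocallyConstant f ∧ ∀ x : V, f x ∈ I x.1}
  zero_mem' := ⟨IsLocallyConstant.const _, fun x => (I x.1).zero_mem⟩
  add_mem' h h' := ⟨h.1.add h'.1, fun x => (I x.1).add_mem (h.2 x) (h'.2 x)⟩
  neg_mem' h := ⟨h.1.neg, fun x => (I x.1).neg_mem (h.2 x)⟩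

lemma continuous_incl {V W : Opens X} (h : W ≤ V) : Continuous fun x : W => (⟨x.1, h x.2⟩ : V) :=
  continuous_subtype_val.subtype_mk _

/-- The presheaf of these sections. -/
noncomputable def subPre (I : X → AddSubgroup ℤ) : (Opens X)ᵒᵖ ⥤ AddCommGrpCat.{u} where
  obj V := AddCommGrpCat.of (secI I V.unop)
  map {V W} i := AddCommGrpCat.ofHom
    { toFun := fun f => ⟨fun x => f.1 ⟨x.1, leOfHom i.unop x.2⟩,
        f.2.1.comp_continuous (continuous_incl (leOfHom i.unop)), fun x => f.2.2 ⟨x.1, leOfHom i.unop x.2⟩⟩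
      map_zero' := rfl
      map_add' := fun _ _ => rfl }

lemma subPre_map_apply (I : X → AddSubgroup ℤ) {V W : (Opens X)ᵒᵖ} (i : V ⟶ W)
    (f : secI I V.unop) (x : W.unop) :
    ((subPre I).map i f : secI I W.unop).1 x = f.1 ⟨x.1, leOfHom i.unop x.2⟩ := rfl

lemma isSheaf_subPre (I : X → AddSubgroup ℤ) :
    Presheaf.IsSheaf (Opens.grothendieckTopology X) (subPre I) := by
  refine (Presheaf.isSheaf_iff_isSheaf_comp _ _ (forget AddCommGrpCat.{u})).2
    (TopCat.Presheaf.isSheaf_of_isSheafUniqueGluing_types _ fun κ U sf hsf => ?_)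
  classical
  let sel : ↥(iSup U) → κ := fun x => (Opens.mem_iSup.1 x.2).choose
  have hsel : ∀ x : ↥(iSup U), x.1 ∈ U (sel x) := fun x => (Opens.mem_iSup.1 x.2).choose_spec
  let g : ↥(iSup U) → ℤ := fun x => (sf (sel x) : secI I (U (sel x))).1 ⟨x.1, hsel x⟩
  have hg : ∀ k (x : ↥(iSup U)) (hx : x.1 ∈ U k), g x = (sf k : secI I (U k)).1 ⟨x.1, hx⟩ :=
    fun k x hx => congrFun (congrArg Subtype.val (hsf (sel x) k)) ⟨x.1, hsel x, hx⟩
  have hlc : IsLocallyConstant g := by
    rw [IsLocallyConstant.iff_eventually_eq]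
    intro x
    have h1 := ((IsLocallyConstant.iff_exists_open _).1 (sf (sel x) : secI I (U (sel x))).2.1 ⟨x.1, hsel x⟩)
    obtain ⟨W, hW, hxW, hWc⟩ := h1
    obtain ⟨W', hW', rfl⟩ := hW
    have hO : IsOpen {y : ↥(iSup U) | y.1 ∈ U (sel x) ∧ y.1 ∈ W'} :=
      ((U (sel x)).isOpen.inter hW').preimage continuous_subtype_val
    refine Filter.eventually_of_mem (hO.mem_nhds ⟨hsel x, hxW⟩) fun y hy => ?_
    rw [hg (sel x) y hy.1]
    exact hWc ⟨y.1, hy.1⟩ hy.2
  refine ⟨(⟨g, hlc, fun x => (sf (sel x) : secI I (U (sel x))).2.2 ⟨x.1, hsel x⟩⟩ : secI I (iSup U)),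
    fun k => Subtype.ext (funext fun x => hg k ⟨x.1, _⟩ x.2), fun s hs => ?_⟩
  exact Subtype.ext (funext fun x => congrFun (congrArg Subtype.val (hs (sel x))) ⟨x.1, hsel x⟩)

/-- The subsheaf cut out by `I`. -/
noncomputable def subSheaf (I : X → AddSubgroup ℤ) : CohTop.Ab X := ⟨subPre I, isSheaf_subPre I⟩

/-- Inclusions of these subsheaves. -/
noncomputable def subIncl {I J : X → AddSubgroup ℤ} (h : I ≤ J) : subSheaf I ⟶ subSheaf J :=
  ⟨{ app := fun V => AddCommGrpCat.ofHom
      { toFun := fun f => (⟨(f : secI I V.unop).1, (f : secI I V.unop).2.1,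
          fun x => h x.1 ((f : secI I V.unop).2.2 x)⟩ : secI J V.unop)
        map_zero' := rfl
        map_add' := fun _ _ => rfl } }⟩

lemma subIncl_apply {I J : X → AddSubgroup ℤ} (h : I ≤ J) (V : Opens X) (f : secI I V) :
    ((subIncl h).hom.app (op V) f : secI J V).1 = f.1 := rfl

instance mono_subIncl {I J : X → AddSubgroup ℤ} (h : I ≤ J) : Mono (subIncl h) := by
  have : ∀ V, Mono ((subIncl h).hom.app V) := fun V => (AddCommGrpCat.mono_iff_injective _).2
    fun a b hab => Subtype.ext (congrArg Subtype.val hab :)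
  have : Mono (subIncl h).hom := NatTrans.mono_of_mono_app _
  exact (sheafToPresheaf _ _).mono_of_mono_map this

/-- The Mayer–Vietoris sequence of two such subsheaves. -/
noncomputable abbrev subMV (I J : X → AddSubgroup ℤ) : ShortComplex (CohTop.Ab X) :=
  ShortComplex.mk (biprod.lift (subIncl (inf_le_left : I ⊓ J ≤ I)) (-subIncl (inf_le_right : I ⊓ J ≤ J)))
    (biprod.desc (subIncl (le_sup_left : I ≤ I ⊔ J)) (subIncl (le_sup_right : J ≤ I ⊔ J))) (by
      rw [biprod.lift_desc, Preadditive.neg_comp]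
      exact add_neg_eq_zero.2 rfl)

lemma subMV_shortExact {I J : X → AddSubgroup ℤ} (hI : OpenI I) (hJ : OpenI J) :
    (subMV I J).ShortExact := by
  have hm : Mono (subMV I J).f := by
    refine @mono_of_mono _ _ _ _ _ _ (biprod.fst) ?_
    change Mono (biprod.lift _ _ ≫ biprod.fst)
    rw [biprod.lift_fst]
    exact mono_subIncl _
  refine { exact := ?_, mono_f := hm, epi_g := ?_ }
  · apply ShortComplex.exact_of_f_is_kernel
    have key : ∀ {A : CohTop.Ab X} (k : A ⟶ subSheaf I ⊞ subSheaf J), k ≫ (subMV I J).g = 0 →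
        ∀ (V : Opens X) (a : A.obj.obj (op V)), ∀ x : V,
          ((k ≫ biprod.fst).hom.app (op V) a : secI I V).1 x +
            ((k ≫ biprod.snd).hom.app (op V) a : secI J V).1 x = 0 := by
      intro A k hk V a x
      have h0 : (k ≫ biprod.fst) ≫ subIncl (le_sup_left : I ≤ I ⊔ J) +
          (k ≫ biprod.snd) ≫ subIncl (le_sup_right : J ≤ I ⊔ J) = 0 := by
        rw [Category.assoc, Category.assoc, ← Preadditive.comp_add, ← biprod.desc_eq]
        exact hk
      exact congrFun (congrArg Subtype.val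
        (ConcreteCategory.congr_hom (NatTrans.congr_app (congrArg (fun φ => φ.hom) h0) (op V)) a :)) x
    refine KernelFork.IsLimit.ofι' _ _ fun {A} k hk => ?_
    let l : A ⟶ subSheaf (I ⊓ J) :=
      ⟨{ app := fun V => AddCommGrpCat.ofHom
          { toFun := fun a => (⟨((k ≫ biprod.fst).hom.app V a : secI I V.unop).1,
              ((k ≫ biprod.fst).hom.app V a : secI I V.unop).2.1, fun x =>
                ⟨((k ≫ biprod.fst).hom.app V a : secI I V.unop).2.2 x,
                  Eq.subst (motive := fun z => z ∈ J x.1) (eq_neg_of_add_eq_zero_left (key k hk V.unop a x)).symm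
                    (neg_mem (((k ≫ biprod.snd).hom.app V a : secI J V.unop).2.2 x))⟩⟩ : secI (I ⊓ J) V.unop)
            map_zero' := Subtype.ext (congrArg Subtype.val (map_zero ((k ≫ biprod.fst).hom.app V).hom) :)
            map_add' := fun a b => Subtype.ext
              (congrArg Subtype.val (map_add ((k ≫ biprod.fst).hom.app V).hom a b) :) }
         naturality := fun V W i => by
          ext a
          exact Subtype.ext (congrArg Subtype.val
            (ConcreteCategory.congr_hom ((k ≫ biprod.fst).hom.naturality i) a) :) }⟩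
    refine ⟨l, biprod.hom_ext _ _ ?_ ?_⟩
    · erw [Category.assoc, biprod.lift_fst]
      rfl
    · erw [Category.assoc, biprod.lift_snd, Preadditive.comp_neg]
      ext V a
      exact Subtype.ext (funext fun x => (eq_neg_of_add_eq_zero_right (key k hk V.unop a x)).symm)
  · refine epi_of_locally_surjective _ fun W s x hx => ?_
    obtain ⟨a, ha, b, hb, hab⟩ := AddSubgroup.mem_sup.1 ((s : secI (I ⊔ J) W).2.2 ⟨x, hx⟩)
    obtain ⟨O, hO, hxO, hOc⟩ := (IsLocallyConstant.iff_exists_open _).1 (s : secI (I ⊔ J) W).2.1 ⟨x, hx⟩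
    obtain ⟨O', hO', rfl⟩ := hO
    let V : Opens X := ⟨(W : Set X) ∩ O' ∩ ({y | a ∈ I y} ∩ {y | b ∈ J y}),
      (W.isOpen.inter hO').inter ((hI a).inter (hJ b))⟩
    let ta : secI I V := ⟨fun _ => a, IsLocallyConstant.const _, fun y => y.2.2.1⟩
    let tb : secI J V := ⟨fun _ => b, IsLocallyConstant.const _, fun y => y.2.2.2⟩
    refine ⟨V, fun y hy => hy.1.1, ⟨⟨hx, hxO⟩, ha, hb⟩,
      (biprod.inl : subSheaf I ⟶ subSheaf I ⊞ subSheaf J).hom.app (op V) ta +
        (biprod.inr : subSheaf J ⟶ subSheaf I ⊞ subSheaf J).hom.app (op V) tb, ?_⟩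
    erw [map_add]
    have h1 : ((biprod.inl : subSheaf I ⟶ subSheaf I ⊞ subSheaf J) ≫ (subMV I J).g).hom.app (op V) ta =
        (subIncl (le_sup_left : I ≤ I ⊔ J)).hom.app (op V) ta := by
      rw [show (biprod.inl : subSheaf I ⟶ subSheaf I ⊞ subSheaf J) ≫ (subMV I J).g = _ from biprod.inl_desc _ _]
    have h2 : ((biprod.inr : subSheaf J ⟶ subSheaf I ⊞ subSheaf J) ≫ (subMV I J).g).hom.app (op V) tb =
        (subIncl (le_sup_right : J ≤ I ⊔ J)).hom.app (op V) tb := by
      rw [show (biprod.inr : subSheaf J ⟶ subSheaf I ⊞ subSheaf J) ≫ (subMV I J).g = _ from biprod.inr_desc _ _]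
    refine (congrArg₂ (· + ·) h1 h2).trans (Subtype.ext (funext fun y => ?_))
    exact hab.trans (hOc ⟨y.1, y.2.1.1⟩ y.2.1.2).symm

end Groth.Agent.TopCoh49
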